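import Groth.Agent.FreeCurve.P1Base
import Groth.Agent.PnSpec.Twist
import Groth.Agent.BettiNN.Basic
import Groth.Agent.AbelMap.Degree
import Groth.Agent.CohFinite.ProjSpace
import Groth.Agent.W7Hull.LiftHom
import Groth.Agent.W7Cech.Snap
import Groth.Agent.ProjMor.ProjSpaceBase
import Groth.Agent.ResDesc.ResProp
import Mathlib

/-!
# The open locus of free curves in a scheme of morphisms from the projective line
-/

set_option autoImplicit false
set_option linter.style.haveILetI false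
set_option backward.isDefEq.respectTransparency false
set_option backward.isDefEq.respectTransparency.types false
set_option maxHeartbeats 1000000

universe u

open CategoryTheory CategoryTheory.Limits AlgebraicGeometry

noncomputable section

namespace Groth.Agent.FreeCurve

/-- The fibres of `(p, N)` are projective lines with `O(-1)`. -/
def IsP1Tw {Y S : Scheme.{u}} (p : Y ⟶ S) (N : Y.Modules) : Prop :=
  ∀ (K : Type u) [Field K] (t : Spec (CommRingCat.of K) ⟶ S),
    ∃ ε : CohB1.ProjSpace 1 K ≅ PicF.XT p (Over.mk t),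
      ε.hom ≫ PicF.XTproj p (Over.mk t) = CohB1.ProjSpace.toSpec 1 K ∧
        Nonempty ((Scheme.Modules.pullback (ε.hom ≫ pullback.fst p (Over.mk t).hom)).obj N ≅
          Twist.twistProjSpace 1 K (-1))

theorem IsP1Tw.isP1 {Y S : Scheme.{u}} {p : Y ⟶ S} {N : Y.Modules} (h : IsP1Tw p N) : IsP1 p := fun K _ t => by
  obtain ⟨ε, hε, -⟩ := h K t
  exact ⟨ε, hε⟩

theorem isP1Tw_toBase (S : Scheme.{u}) :
    IsP1Tw (CohB1.ProjSpaceOver.toBase 1 S) (Twist.twistOver 1 S (-1)) := by
  intro K _ t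
  obtain ⟨e, he, htw⟩ := PnSpec.exists_iso_twist 1 K
  let π := CohB1.ProjSpace.toSpec 1 (ULift.{u} ℤ)
  let a : CohB1.ProjSpaceOver 1 (Spec (CommRingCat.of K)) ⟶ CohB1.ProjSpaceOver 1 S :=
    pullback.map π (specULiftZIsTerminal.from _) π (specULiftZIsTerminal.from S) (𝟙 _) t (𝟙 _)
      (by simp) (specULiftZIsTerminal.hom_ext _ _)
  have e1 : a ≫ pullback.fst π (specULiftZIsTerminal.from S) = pullback.fst π (specULiftZIsTerminal.from _) :=
    (pullback.lift_fst _ _ _).trans (Category.comp_id _)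
  have hsq : IsPullback a (CohB1.ProjSpaceOver.toBase 1 (Spec (CommRingCat.of K))) (CohB1.ProjSpaceOver.toBase 1 S) t := by
    refine IsPullback.of_right (h₁₂ := pullback.fst π (specULiftZIsTerminal.from S))
      (h₂₂ := specULiftZIsTerminal.from S) (v₁₃ := π) ?_ ?_ (IsPullback.of_hasPullback _ _)
    · have e2 : t ≫ specULiftZIsTerminal.from S = specULiftZIsTerminal.from (Spec (CommRingCat.of K)) :=
        specULiftZIsTerminal.hom_ext _ _
      rw [e1, e2]
      exact IsPullback.of_hasPullback _ _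
    · exact pullback.lift_snd _ _ _
  obtain ⟨w⟩ := htw (-1)
  refine ⟨e ≪≫ hsq.isoPullback,
    (Category.assoc _ _ _).trans ((congrArg (e.hom ≫ ·) hsq.isoPullback_hom_snd).trans he), ⟨?_⟩⟩
  refine (Scheme.Modules.pullbackCongr (show (e ≪≫ hsq.isoPullback).hom ≫
      pullback.fst (CohB1.ProjSpaceOver.toBase 1 S) (Over.mk t).hom = e.hom ≫ a from
    (Category.assoc _ _ _).trans (congrArg (e.hom ≫ ·) hsq.isoPullback_hom_fst))).app _ ≪≫
    ((Scheme.Modules.pullbackComp e.hom a).app _).symm ≪≫ (Scheme.Modules.pullback e.hom).mapIso ?_ ≪≫ w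
  exact (Scheme.Modules.pullbackComp a (pullback.fst π (specULiftZIsTerminal.from S))).app _ ≪≫
    (Scheme.Modules.pullbackCongr e1).app _

theorem isP1Tw_of_iso {Y Y' S : Scheme.{u}} {p : Y ⟶ S} {p' : Y' ⟶ S} (i : Y ≅ Y') (hi : i.hom ≫ p' = p)
    {N' : Y'.Modules} (h : IsP1Tw p' N') : IsP1Tw p ((Scheme.Modules.pullback i.hom).obj N') := by
  intro K _ t
  obtain ⟨ε, hε, ⟨w⟩⟩ := h K t
  let b : PicF.XT p (Over.mk t) ⟶ PicF.XT p' (Over.mk t) :=
    pullback.map p t p' t i.hom (𝟙 _) (𝟙 S) (by simp [hi]) (by simp)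
  haveI : IsIso b := pullback.map_isIso _ _ _ _ _ _ _ _ _
  refine ⟨ε ≪≫ (asIso b).symm, ?_, ⟨?_⟩⟩
  · rw [Iso.trans_hom, Iso.symm_hom, Category.assoc, ← hε]
    refine congrArg (ε.hom ≫ ·) ?_
    show inv b ≫ _ = _
    rw [IsIso.inv_comp_eq]
    exact ((pullback.lift_snd _ _ _).trans (Category.comp_id _)).symm
  · refine (Scheme.Modules.pullbackComp _ i.hom).app N' ≪≫ (Scheme.Modules.pullbackCongr ?_).app N' ≪≫ w
    rw [Iso.trans_hom, Iso.symm_hom, Category.assoc, Category.assoc]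
    refine congrArg (ε.hom ≫ ·) ?_
    show inv b ≫ _ ≫ _ = _
    rw [IsIso.inv_comp_eq]
    exact (pullback.lift_fst _ _ _).symm

theorem isP1Tw_toSpec (k : Type u) [Field k] :
    IsP1Tw (CohB1.ProjSpace.toSpec 1 k) (Twist.twistProjSpace 1 k (-1)) := by
  obtain ⟨e, he, htw⟩ := PnSpec.exists_iso_twist 1 k
  obtain ⟨w⟩ := htw (-1)
  intro K _ t
  obtain ⟨ε, hε, ⟨a⟩⟩ := isP1Tw_of_iso e he (isP1Tw_toBase _) K t
  exact ⟨ε, hε, ⟨(Scheme.Modules.pullback _).mapIso w.symm ≪≫ a⟩⟩

variable {Y X S : Scheme.{u}} {p : Y ⟶ S} {q : X ⟶ S}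

/-- The twisted differentials on the universal family. -/
abbrev twOmega (N : Y.Modules) {M : Over S} (v : MorSch.Obj p q M) : (PicF.XT p M).Modules :=
  CohB1.tensorMod ((Scheme.Modules.pullback v.1).obj (Omega.sheaf q))
    ((Scheme.Modules.pullback (pullback.fst p M.hom)).obj N)

/-- The locus of good curves. -/
def goodSet (N : Y.Modules) {M : Over S} (v : MorSch.Obj p q M) : Set M.left :=
  {m | PerfAux.betti (PicF.XTproj p M) (twOmega N v) m 0 = 0}

theorem isFinLocFree_twOmega [Smooth q] [QuasiSeparated q] {N : Y.Modules} (hN : FlatMod.IsFinLocFree N) {M : Over S}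
    (v : MorSch.Obj p q M) : FlatMod.IsFinLocFree (twOmega N v) :=
  ResDesc.isFinLocFree_tensorMod (SGA6Ext.isFinLocFree_pullback _ (AVOmega.isFinLocFree_omega q))
    (SGA6Ext.isFinLocFree_pullback _ hN)

/-- The good locus is open. -/
theorem isOpen_goodSet [IsProper p] [Flat p] [LocallyOfFinitePresentation p] [Smooth q] [QuasiSeparated q]
    {N : Y.Modules} (hN : FlatMod.IsFinLocFree N) {M : Over S} (v : MorSch.Obj p q M) :
    IsOpen (goodSet N v) := by
  haveI : IsProper (PicF.XTproj p M) := MorphismProperty.pullback_snd _ _ inferInstance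
  haveI : Flat (PicF.XTproj p M) := MorphismProperty.pullback_snd _ _ inferInstance
  haveI : LocallyOfFinitePresentation (PicF.XTproj p M) := MorphismProperty.pullback_snd _ _ inferInstance
  have hE := isFinLocFree_twOmega hN v
  have h := BettiNN.isOpen_betti_lt (PicF.XTproj p M) (LocFree.isFP_of_isFinLocFree hE)
    (W7Hull.isFlatOver_of_isFinLocFree _ hE) 0 1
  simpa [goodSet, Nat.lt_one_iff] using h

/-- A field-valued curve is good if and only if its image lies in the good locus. -/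
theorem good_iff [IsProper p] [Smooth q] [QuasiSeparated q] {N : Y.Modules} (hN : FlatMod.IsFinLocFree N) {M : Over S}
    (v : MorSch.Obj p q M) {K : Type u} [Field K] {T : Over S} (g : T ⟶ M)
    (iT : T.left ≅ Spec (CommRingCat.of K)) (ε : CohB1.ProjSpace 1 K ≅ PicF.XT p T)
    (hε : ε.hom ≫ PicF.XTproj p T ≫ iT.hom = CohB1.ProjSpace.toSpec 1 K)
    (w : (Scheme.Modules.pullback (ε.hom ≫ pullback.fst p T.hom)).obj N ≅ Twist.twistProjSpace 1 K (-1)) :
    Good q (ε.hom ≫ (MorSch.pull p q g v).1) ↔ g.left (iT.inv (IsLocalRing.closedPoint K)) ∈ goodSet N v := by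
  haveI : IsProper (PicF.XTproj p M) := MorphismProperty.pullback_snd _ _ inferInstance
  have hE := isFinLocFree_twOmega hN v
  have sq : IsPullback (ε.hom ≫ PicF.XTmap p g) (CohB1.ProjSpace.toSpec 1 K) (PicF.XTproj p M) (iT.inv ≫ g.left) := by
    refine (IsPullback.of_horiz_isIso (fst := ε.hom) (snd := CohB1.ProjSpace.toSpec 1 K) (f := PicF.XTproj p T)
      (g := iT.inv) ⟨?_⟩).paste_horiz (S17082.isPullback_XTmap p g)
    rw [← hε, Category.assoc, Category.assoc, Iso.hom_inv_id, Category.comp_id]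
  haveI := ProjMor.isProper_toSpec 1 K
  haveI : IsProper (CohB1.ProjSpace 1 K ↘ Spec (CommRingCat.of K)) := ProjMor.isProper_toSpec 1 K
  let G := CohB1.tensorMod ((Scheme.Modules.pullback (ε.hom ≫ (MorSch.pull p q g v).1)).obj (Omega.sheaf q))
    (Twist.twistProjSpace 1 K (-1))
  let E' := (Scheme.Modules.pullback (ε.hom ≫ PicF.XTmap p g)).obj (twOmega N v)
  obtain ⟨t⟩ := W7Cech.nonempty_pullTensor (ε.hom ≫ PicF.XTmap p g)
    ((Scheme.Modules.pullback v.1).obj (Omega.sheaf q)) ((Scheme.Modules.pullback (pullback.fst p M.hom)).obj N)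
  let i₁ : E' ≅ G := t ≪≫ PicGrp.tensorModIso
    ((Scheme.Modules.pullbackComp _ v.1).app _ ≪≫ (Scheme.Modules.pullbackCongr (by rw [Category.assoc]; rfl)).app _)
    ((Scheme.Modules.pullbackComp _ (pullback.fst p M.hom)).app _ ≪≫
      (Scheme.Modules.pullbackCongr (by rw [Category.assoc, MorSch.XTmap_fst])).app _ ≪≫ w)
  have hGfree : FlatMod.IsFinLocFree G := ResDesc.isFinLocFree_tensorMod
    (SGA6Ext.isFinLocFree_pullback _ (AVOmega.isFinLocFree_omega q))
    (ResDesc.isFinLocFree_of_isInvertible (CohFinite.isInvertible_twist 1 K (-1)))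
  have h1 : PerfAux.betti (PicF.XTproj p M) (twOmega N v) ((iT.inv ≫ g.left) (IsLocalRing.closedPoint K)) 0 =
      CurveRR.h K G 0 := by
    rw [← PicSmooth.betti_of_isPullback sq (twOmega N v) (LocFree.isQCoh_of_isFinLocFree hE)
      (IsLocalRing.closedPoint K) 0]
    exact (AbelMap.betti_field (X := CohB1.ProjSpace 1 K)
      (QC.isQCoh_pullback _ (LocFree.isQCoh_of_isFinLocFree hE)) _ 0).trans (CurveRR.h_eq_of_iso i₁ 0)
  haveI := CohFinite.finite_projSpace (n := 1) (R := K) G (isCoh_of_isFinLocFree hGfree) 0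
  show Subsingleton (Coh.HH (CohB1.ProjSpace 1 K) G 0) ↔
    PerfAux.betti (PicF.XTproj p M) (twOmega N v) ((iT.inv ≫ g.left) (IsLocalRing.closedPoint K)) 0 = 0
  rw [h1]
  exact (Module.finrank_eq_zero_iff_of_free (R := K) (M := Coh.HH (CohB1.ProjSpace 1 K) G 0)).symm

/-- The scheme of morphisms is smooth over the base at the good points. -/
theorem exists_smooth_nhd_of_mem [IsLocallyNoetherian S] [IsProper p] [Flat p] [Smooth q] [QuasiSeparated q]
    {N : Y.Modules} (hN : FlatMod.IsFinLocFree N) (hp : IsP1Tw p N)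
    {M : Over S} [LocallyOfFiniteType M.hom] {v : MorSch.Obj p q M} (hM : IsUnivN p q M v) {m : M.left}
    (hm : m ∈ goodSet N v) : ∃ U : M.left.Opens, m ∈ U ∧ Smooth (U.ι ≫ M.hom) := by
  refine exists_smooth_nhd hM m fun K _ x hx => ?_
  obtain ⟨ε, hε, ⟨w⟩⟩ := hp K (x ≫ M.hom)
  refine subsingleton_ext_of_good ε _ ?_
  exact (good_iff hN v (T := Over.mk (x ≫ M.hom)) _ (Iso.refl _) ε (by simpa using hε) w).2 (by
    show x (IsLocalRing.closedPoint K) ∈ goodSet N v
    rw [hx]; exact hm)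

end Groth.Agent.FreeCurve
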