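import Groth.Agent.FreeCurve.WedgeNeg
import Groth.Agent.W7Cech.Snap
import Groth.Agent.DerPerf.Local
import Groth.Agent.W7Hull.FlatTwist
import Mathlib

/-!
# Negative modules on the projective line and their tensor powers
-/

set_option autoImplicit false
set_option linter.style.haveILetI false
set_option backward.isDefEq.respectTransparency false
set_option backward.isDefEq.respectTransparency.types false
set_option maxHeartbeats 1000000

universe u

open CategoryTheory CategoryTheory.Limits AlgebraicGeometry TopologicalSpace Opposite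

noncomputable section

namespace Groth.Agent.FreeCurve

open Groth.Agent.P1Split (O)
open Groth.Agent.SGA6Ext (extSh)

/-- The inverse image of an exterior power. -/
theorem nonempty_pullExtPow {Y X : Scheme.{u}} (g : X ⟶ Y) {E L : Y.Modules} (hE : FlatMod.IsFinLocFree E) {p : ℕ}
    (hL : ExtPow.IsExtPow p E L) :
    Nonempty ((Scheme.Modules.pullback g).obj L ≅ extSh ((Scheme.Modules.pullback g).obj E) p) := by
  obtain ⟨φ, hφ⟩ := hL
  obtain ⟨φ', hφ'⟩ := SGA6Ext.isExtPow_extSh E p hE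
  obtain ⟨i⟩ := SGA6Ext.nonempty_iso_of_phi (E := E) (L := L) (L' := extSh E p) (φ := φ) hφ (φ' := φ') hφ'
  obtain ⟨j⟩ := SGA6Ext.exists_pullExt g p hE
  exact ⟨(Scheme.Modules.pullback g).mapIso i ≪≫ j⟩

/-- Inverse images commute with tensor powers. -/
theorem nonempty_pullPow {Y X : Scheme.{u}} (g : X ⟶ Y) (L : Y.Modules) (m : ℕ) :
    Nonempty ((Scheme.Modules.pullback g).obj (CohB1.tensorPow L m) ≅
      CohB1.tensorPow ((Scheme.Modules.pullback g).obj L) m) := by
  induction m with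
  | zero => exact ⟨DerPerf.pullUnitIso g⟩
  | succ m ih =>
    obtain ⟨i⟩ := ih
    obtain ⟨t⟩ := W7Cech.nonempty_pullTensor g (CohB1.tensorPow L m) L
    exact ⟨t ≪≫ PicGrp.tensorModIso i (Iso.refl _)⟩

variable {k : Type u} [Field k]

/-- All the nonpositive twists have no global sections. -/
def Neg (G : (CohB1.ProjSpace 1 k).Modules) : Prop :=
  ∀ b : ℤ, b ≤ 0 → Subsingleton (Coh.HH (CohB1.ProjSpace 1 k) (CohB1.tensorMod G (O k b)) 0)

theorem Neg.of_iso {G G' : (CohB1.ProjSpace 1 k).Modules} (i : G ≅ G') (h : Neg G) : Neg G' := fun b hb =>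
  CohQC.hh_subsingleton_of_iso (PicGrp.tensorModIso i (Iso.refl _)) _ (h b hb)

theorem neg_coprod {n : ℕ} (d : Fin n → ℤ) (hd : ∀ t, d t < 0) : Neg (∐ fun t : Fin n => O k (d t)) := fun b hb => by
  obtain ⟨q⟩ := P1Split.nonempty_hh_coprod k (fun t : Fin n => O k (d t)) (O k b) 0
  haveI : ∀ t, Subsingleton (Coh.HH (CohB1.ProjSpace 1 k) (CohB1.tensorMod (O k (d t)) (O k b)) 0) := fun t => by
    obtain ⟨j⟩ := RegCx.twist_twist (k := k) (n := 1) (d t) b (d t + b) rfl
    exact CohQC.hh_subsingleton_of_iso j.symm _ (subsingleton_twist_neg (by have := hd t; omega))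
  exact q.toEquiv.subsingleton

/-- Without sections, all the degrees are negative. -/
theorem exists_split_neg {G : (CohB1.ProjSpace 1 k).Modules} (hG : FlatMod.IsFinLocFree G)
    (h : Subsingleton (Coh.HH (CohB1.ProjSpace 1 k) G 0)) :
    ∃ (n : ℕ) (d : Fin n → ℤ), (∀ i, d i < 0) ∧ Nonempty (G ≅ ∐ fun i : Fin n => O k (d i)) := by
  obtain ⟨w⟩ := PnHodge.nonempty_twist_zero_iso (n := 1) (A := k)
  obtain ⟨n, d, hd, e⟩ := exists_split_lt hG 0 (CohQC.hh_subsingleton_of_iso
    (PicGrp.tensorModIso (Iso.refl G) w ≪≫ TMul.commIso _ _ ≪≫ TMul.leftUnitIso G).symm _ h)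
  exact ⟨n, d, fun i => by have := hd i; omega, e⟩

theorem neg_of_hh0 {G : (CohB1.ProjSpace 1 k).Modules} (hG : FlatMod.IsFinLocFree G)
    (h : Subsingleton (Coh.HH (CohB1.ProjSpace 1 k) G 0)) : Neg G := by
  obtain ⟨n, d, hd, ⟨e⟩⟩ := exists_split_neg hG h
  exact (neg_coprod d hd).of_iso e.symm

/-- Tensor powers of negative modules are negative. -/
theorem neg_tensorPow {G : (CohB1.ProjSpace 1 k).Modules} (hG : FlatMod.IsFinLocFree G)
    (h : Subsingleton (Coh.HH (CohB1.ProjSpace 1 k) G 0)) {m : ℕ} (hm : 1 ≤ m) : Neg (CohB1.tensorPow G m) := by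
  obtain ⟨n, d, hd, ⟨e⟩⟩ := exists_split_neg hG h
  induction m, hm using Nat.le_induction with
  | base => exact (neg_of_hh0 hG h).of_iso (TMul.leftUnitIso G).symm
  | succ m hm ih =>
    intro b hb
    let A := CohB1.tensorPow G m
    obtain ⟨q⟩ := P1Split.nonempty_hh_coprod k (fun t : Fin n => O k (d t)) (CohB1.tensorMod A (O k b)) 0
    haveI : ∀ t, Subsingleton (Coh.HH (CohB1.ProjSpace 1 k)
        (CohB1.tensorMod (O k (d t)) (CohB1.tensorMod A (O k b))) 0) := fun t => by
      obtain ⟨j⟩ := RegCx.twist_twist (k := k) (n := 1) b (d t) (b + d t) rfl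
      exact CohQC.hh_subsingleton_of_iso (TMul.commIso _ _ ≪≫ TMul.assocIso _ _ _ ≪≫
        PicGrp.tensorModIso (Iso.refl A) j).symm _ (ih (b + d t) (by have := hd t; omega))
    refine CohQC.hh_subsingleton_of_iso (PicGrp.tensorModIso (TMul.commIso A G ≪≫
      PicGrp.tensorModIso e (Iso.refl A)) (Iso.refl _) ≪≫ TMul.assocIso _ _ _).symm _ ?_
    exact q.toEquiv.subsingleton

theorem subsingleton_tensorPow {G : (CohB1.ProjSpace 1 k).Modules} (hG : FlatMod.IsFinLocFree G)
    (h : Subsingleton (Coh.HH (CohB1.ProjSpace 1 k) G 0)) {m : ℕ} (hm : 1 ≤ m) :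
    Subsingleton (Coh.HH (CohB1.ProjSpace 1 k) (CohB1.tensorPow G m) 0) := by
  obtain ⟨w⟩ := PnHodge.nonempty_twist_zero_iso (n := 1) (A := k)
  exact CohQC.hh_subsingleton_of_iso (PicGrp.tensorModIso (Iso.refl _) w ≪≫ TMul.commIso _ _ ≪≫
    TMul.leftUnitIso _) _ (neg_tensorPow hG h hm 0 le_rfl)

/-- The exterior power of the inverse image of a locally free module has negative tensor powers. -/
theorem subsingleton_pull_tensorPow {X : Scheme.{u}} (g : CohB1.ProjSpace 1 k ⟶ X) {E L : X.Modules}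
    (hE : FlatMod.IsFinLocFree E) {p : ℕ} (hL : ExtPow.IsExtPow p E L) {n : ℕ} {d : Fin n → ℤ}
    (e : (Scheme.Modules.pullback g).obj E ≅ ∐ fun i : Fin n => O k (d i)) (hd : ∀ t, d t ≤ 0)
    (hI : ∀ I : Fin p → Fin n, Function.Injective I → ∃ j, d (I j) < 0) {m : ℕ} (hm : 1 ≤ m) :
    Subsingleton (Coh.HH (CohB1.ProjSpace 1 k) ((Scheme.Modules.pullback g).obj (CohB1.tensorPow L m)) 0) := by
  obtain ⟨i⟩ := nonempty_pullExtPow g hE hL
  obtain ⟨j⟩ := nonempty_pullPow g L m
  have hE' := SGA6Ext.isFinLocFree_pullback g hE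
  have h0 : Subsingleton (Coh.HH (CohB1.ProjSpace 1 k) (extSh ((Scheme.Modules.pullback g).obj E) p) 0) :=
    P1Split.hh0_of_zero k fun η => eq_zero_of_split hE' e hd hI η
  refine CohQC.hh_subsingleton_of_iso j.symm _ (subsingleton_tensorPow ?_ (CohQC.hh_subsingleton_of_iso i.symm _ h0) hm)
  exact W7Hull.isFinLocFree_of_iso i.symm (SGA6Ext.isFinLocFree_extSh _ p hE')

end Groth.Agent.FreeCurve
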