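import Groth.Agent.FreeCurve.MorRep
import Groth.Agent.S3218
import Groth.Agent.QuotProj.Flag
import Mathlib

/-!
# Existence of schemes of morphisms from projective flat sources to quasi-projective targets
-/

set_option autoImplicit false
set_option linter.style.haveILetI false
set_option backward.isDefEq.respectTransparency false
set_option backward.isDefEq.respectTransparency.types false

universe u

open CategoryTheory CategoryTheory.Limits AlgebraicGeometry

noncomputable section

namespace Groth.Agent.FreeCurve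

variable {Y X X' S : Scheme.{u}} {p : Y ⟶ S}

/-- The morphisms into an open subscheme form an open subscheme of the scheme of morphisms. -/
theorem exists_univN_open [IsProper p] {q' : X' ⟶ S} {q : X ⟶ S} (j : X ⟶ X') [IsOpenImmersion j]
    (hj : j ≫ q' = q) {M : Over S} [LocallyOfFiniteType M.hom] {v : MorSch.Obj p q' M}
    (h : IsUnivN p q' M v) :
    ∃ (M₀ : Over S) (_ : LocallyOfFiniteType M₀.hom) (v₀ : MorSch.Obj p q M₀), IsUnivN p q M₀ v₀ := by
  haveI := h.1
  let pr := PicF.XTproj p M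
  haveI : IsProper pr := MorphismProperty.pullback_snd _ _ inferInstance
  let U : M.left.Opens := ⟨(pr '' (v.1 ⁻¹' (Set.range j)ᶜ))ᶜ,
    (pr.isClosedMap _ (j.isOpenEmbedding.isOpen_range.isClosed_compl.preimage v.1.continuous)).isOpen_compl⟩
  let M₀ : Over S := Over.mk (U.ι ≫ M.hom)
  let i : M₀ ⟶ M := Over.homMk U.ι rfl
  have key : ∀ (T : Over S) (g : T ⟶ M),
      Set.range g.left ⊆ (U : Set M.left) ↔ Set.range (MorSch.pull p q' g v).1 ⊆ Set.range j := by
    intro T g
    constructor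
    · rintro hg _ ⟨z, rfl⟩
      by_contra hz
      refine hg ⟨PicF.XTproj p T z, rfl⟩ ⟨PicF.XTmap p g z, hz, ?_⟩
      exact congrArg (fun f => f z) (congrArg (fun f => f.base.hom.toFun) (S17082.isPullback_XTmap p g).w)
    · rintro hg _ ⟨t, rfl⟩ ⟨w, hw, hwt⟩
      obtain ⟨z, hz, -⟩ := Scheme.exists_preimage_of_isPullback (S17082.isPullback_XTmap p g) w t hwt
      exact hw (hz ▸ hg ⟨z, rfl⟩)
  have hr : Set.range (MorSch.pull p q' i v).1 ⊆ Set.range j := (key M₀ i).1 (U.range_ι).le
  let v₀ : MorSch.Obj p q M₀ := ⟨IsOpenImmersion.lift j _ hr, by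
    rw [← hj, ← Category.assoc, IsOpenImmersion.lift_fac]; exact (MorSch.pull p q' i v).2⟩
  have hv₀ : v₀.1 ≫ j = PicF.XTmap p i ≫ v.1 := IsOpenImmersion.lift_fac _ _ _
  have hl : LocallyOfFiniteType (U.ι ≫ M.hom) := inferInstance
  haveI : IsLocallyNoetherian M₀.left := inferInstanceAs (IsLocallyNoetherian (U : Scheme.{u}))
  refine ⟨M₀, hl, v₀, inferInstance, fun T _ φ => ?_⟩
  obtain ⟨g, hg, hu⟩ := h.2 T ⟨φ.1 ≫ j, by rw [Category.assoc, hj]; exact φ.2⟩
  have hgU : Set.range g.left ⊆ (U : Set M.left) := (key T g).2 (by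
    rw [hg]
    rintro _ ⟨z, rfl⟩
    exact ⟨φ.1 z, rfl⟩)
  let g₀ : T ⟶ M₀ := Over.homMk (IsOpenImmersion.lift U.ι g.left (hgU.trans U.range_ι.ge)) (by
    show IsOpenImmersion.lift U.ι g.left _ ≫ U.ι ≫ M.hom = _
    rw [← Category.assoc, IsOpenImmersion.lift_fac, Over.w g])
  have hg₀ : g₀ ≫ i = g := Over.OverMorphism.ext (IsOpenImmersion.lift_fac _ _ _)
  refine ⟨g₀, MorSch.Obj.ext ((cancel_mono j).1 ?_), fun g' hg' => ?_⟩
  · rw [MorSch.pull_val, Category.assoc, hv₀, ← Category.assoc, ← MorSch.XTmap_comp, hg₀]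
    exact congrArg (fun ψ : MorSch.Obj p q' T => ψ.1) hg
  · have h2 : g' ≫ i = g := hu _ (MorSch.Obj.ext (by
      rw [MorSch.pull_val, MorSch.XTmap_comp, Category.assoc, ← hv₀, ← Category.assoc]
      exact congrArg (fun ψ : MorSch.Obj p q T => ψ.1 ≫ j) hg'))
    exact Over.OverMorphism.ext ((cancel_mono U.ι).1 ((congrArg (fun f => f.left) (h2.trans hg₀.symm))))

/-- Schemes of morphisms exist for a projective flat source and a quasi-projective target. -/
theorem exists_univN [IsNoetherian S] [Flat p] {a b : ℕ} (i : Y ⟶ CohB1.ProjSpaceOver a S) [IsClosedImmersion i]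
    (hi : i ≫ CohB1.ProjSpaceOver.toBase a S = p) {q : X ⟶ S} (c : X ⟶ CohB1.ProjSpaceOver b S) [IsImmersion c]
    [QuasiCompact c] (hc : c ≫ CohB1.ProjSpaceOver.toBase b S = q) :
    ∃ (M : Over S) (_ : LocallyOfFiniteType M.hom) (v : MorSch.Obj p q M), IsUnivN p q M v := by
  haveI : IsProper (CohB1.ProjSpaceOver.toBase a S) := HQProj.isProper_toBase a S
  haveI : IsProper (CohB1.ProjSpaceOver.toBase b S) := HQProj.isProper_toBase b S
  haveI : IsProper p := hi ▸ inferInstance
  let q' : c.image ⟶ S := c.imageι ≫ CohB1.ProjSpaceOver.toBase b S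
  haveI : IsProper q' := inferInstanceAs (IsProper (c.imageι ≫ CohB1.ProjSpaceOver.toBase b S))
  obtain ⟨m, e, he, heb⟩ := QuotProj.Flag.exists_closed_product i c.imageι p q' hi rfl (𝟙 (pullback p q'))
  rw [Category.id_comp] at heb
  haveI := he
  obtain ⟨H, Z, hH, ι, P, eH, r, d, hd⟩ := S3218.result S m (pullback p q') e
  haveI : LocallyOfFiniteType H.hom := by
    haveI : ∀ a, LocallyOfFiniteType (Limits.Sigma.ι P a ≫ eH.hom ≫ H.hom) := fun a => by
      haveI := (hd a).1
      haveI : IsProper (CohB1.ProjSpaceOver.toBase (r a) S) := HQProj.isProper_toBase (r a) S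
      rw [← (hd a).2]; infer_instance
    have : LocallyOfFiniteType (eH.hom ≫ H.hom) :=
      IsZariskiLocalAtSource.of_openCover (P := @LocallyOfFiniteType) (sigmaOpenCover P) fun a => this a
    exact (MorphismProperty.cancel_left_of_respectsIso @LocallyOfFiniteType eH.hom H.hom).1 this
  revert Z hH
  rw [heb]
  intro Z hH
  obtain ⟨H₀, v', hv', -, -⟩ := exists_open_locus (p := p) (q := q') H Z hH
  haveI : LocallyOfFiniteType (Over.mk (H₀.ι ≫ H.hom)).hom := inferInstanceAs (LocallyOfFiniteType (H₀.ι ≫ H.hom))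
  exact exists_univN_open c.toImage (by
    show c.toImage ≫ c.imageι ≫ _ = q
    rw [← Category.assoc, c.toImage_imageι, hc]) hv'

end Groth.Agent.FreeCurve
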