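import Groth.Agent.P1Split.Main
import Groth.Agent.SiteCoh.Basic
import Groth.Agent.SerrePn.SheafHomExt
import Groth.Agent.LocFree.Props
import Groth.Agent.PnHodge.Coh
import Mathlib

/-!
# Splitting types of free modules on the projective line and vanishing of extensions
-/

set_option autoImplicit false
set_option linter.style.haveILetI false
set_option backward.isDefEq.respectTransparency false
set_option backward.isDefEq.respectTransparency.types false

universe u

open CategoryTheory CategoryTheory.Limits AlgebraicGeometry Abelian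

noncomputable section

namespace Groth.Agent.FreeCurve

open Groth.Agent.P1Split (O)

variable {k : Type u} [Field k]

theorem isCoh_of_isFinLocFree {X : Scheme.{u}} {E : X.Modules} (h : FlatMod.IsFinLocFree E) : Coh.IsCoh E :=
  ⟨LocFree.isQCoh_of_isFinLocFree h, LocFree.isFT_of_isFinLocFree h⟩

theorem exists_split_locFree {E : (CohB1.ProjSpace 1 k).Modules} (h : FlatMod.IsFinLocFree E) :
    ∃ (n : ℕ) (d : Fin n → ℤ), Nonempty (E ≅ ∐ fun i : Fin n => O k (d i)) := by
  obtain ⟨d, -, e⟩ := P1Split.exists_split _ E (isCoh_of_isFinLocFree h) (P1Split.tf_of_locFree h) rfl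
  exact ⟨_, d, e⟩

/-- A module is a sum of twists `O(d)` with `d + b < 0` when its twist by `b` has no global sections. -/
theorem exists_split_lt {E : (CohB1.ProjSpace 1 k).Modules} (h : FlatMod.IsFinLocFree E) (b : ℤ)
    (h0 : Subsingleton (Coh.HH (CohB1.ProjSpace 1 k) (CohB1.tensorMod E (O k b)) 0)) :
    ∃ (n : ℕ) (d : Fin n → ℤ), (∀ i, d i + b < 0) ∧ Nonempty (E ≅ ∐ fun i : Fin n => O k (d i)) := by
  obtain ⟨n, d, ⟨e⟩⟩ := exists_split_locFree h
  exact ⟨n, d, fun i => P1Split.le_of_hh0 b e h0 i, ⟨e⟩⟩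

/-- There are no extensions of `O(d)`, `d ≤ 1`, by the structure sheaf. -/
theorem subsingleton_ext_twist_unit [HasExt.{u} (CohB1.ProjSpace 1 k).Modules] {d : ℤ} (hd : d ≤ 1) :
    Subsingleton (Ext.{u} (O k d) (Coh.structureModule (CohB1.ProjSpace 1 k)) 1) := by
  haveI := SerrePn.enoughInjectives (X := CohB1.ProjSpace 1 k)
  obtain ⟨j⟩ := PnHodge.nonempty_twist_zero_iso (n := 1) (A := k)
  have hS := SiteCoh.embedSeq_shortExact (Coh.structureModule (CohB1.ProjSpace 1 k))
  refine SiteCoh.subsingleton_ext_one_of_lift hS _ fun φ => ?_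
  exact P1Split.exists_lift (a := 0) (b := d) (by omega) hS j.symm φ

/-- Sums of `O(d)`, `d ≤ 1`, have no extensions by the structure sheaf. -/
theorem subsingleton_ext_unit [HasExt.{u} (CohB1.ProjSpace 1 k).Modules] {E : (CohB1.ProjSpace 1 k).Modules} {n : ℕ}
    {d : Fin n → ℤ} (hd : ∀ i, d i ≤ 1) (e : E ≅ ∐ fun i : Fin n => O k (d i)) :
    Subsingleton (Ext.{u} E (Coh.structureModule (CohB1.ProjSpace 1 k)) 1) := by
  obtain ⟨π, -, -, hid⟩ := P1Split.exists_proj fun i : Fin n => O k (d i)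
  refine subsingleton_of_forall_eq 0 fun ξ => ?_
  have hz : ∀ t, (Ext.mk₀ (Sigma.ι (fun i : Fin n => O k (d i)) t ≫ e.inv)).comp ξ (zero_add 1) = 0 := fun t =>
    (subsingleton_ext_twist_unit (hd t)).elim _ _
  have h1 : 𝟙 E = ∑ t, (e.hom ≫ π t) ≫ (Sigma.ι (fun i : Fin n => O k (d i)) t ≫ e.inv) := by
    have h2 : e.hom ≫ (∑ t, π t ≫ Sigma.ι (fun i : Fin n => O k (d i)) t) ≫ e.inv = 𝟙 E := by
      rw [hid, Category.id_comp, e.hom_inv_id]
    rw [← h2, Preadditive.sum_comp, Preadditive.comp_sum]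
    simp
  rw [← Ext.mk₀_id_comp ξ, h1, Ext.mk₀_sum, Ext.sum_comp]
  refine Finset.sum_eq_zero fun t _ => ?_
  rw [← Ext.mk₀_comp_mk₀, Ext.comp_assoc_of_second_deg_zero, hz, Ext.comp_zero]

/-- The extension group vanishes for a module whose twist by `-1` has no global sections. -/
theorem subsingleton_ext_of_free [HasExt.{u} (CohB1.ProjSpace 1 k).Modules] {E : (CohB1.ProjSpace 1 k).Modules}
    (h : FlatMod.IsFinLocFree E)
    (h0 : Subsingleton (Coh.HH (CohB1.ProjSpace 1 k) (CohB1.tensorMod E (O k (-1))) 0)) :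
    Subsingleton (Ext.{u} E (Coh.structureModule (CohB1.ProjSpace 1 k)) 1) := by
  obtain ⟨n, d, hd, ⟨e⟩⟩ := exists_split_lt h (-1) h0
  exact subsingleton_ext_unit (fun i => by have := hd i; omega) e

end Groth.Agent.FreeCurve
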