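import Groth.Agent.FreeCurve.Lift
import Groth.Agent.FreeCurve.Split
import Groth.Agent.FreeCurve.MorExist
import Groth.Agent.PnSpec.Basic
import Groth.Agent.FormEquiv.Killed
import Groth.Agent.DerPerf.Local
import Mathlib

/-!
# Schemes of morphisms from the projective line: smoothness at free curves
-/

set_option autoImplicit false
set_option linter.style.haveILetI false
set_option backward.isDefEq.respectTransparency false
set_option backward.isDefEq.respectTransparency.types false
set_option maxHeartbeats 1000000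

universe u

open CategoryTheory CategoryTheory.Limits AlgebraicGeometry Abelian

noncomputable section

namespace Groth.Agent.FreeCurve

attribute [local instance] hasExt_modules

/-- Every field-valued fibre is a projective line. -/
def IsP1 {Y S : Scheme.{u}} (p : Y ⟶ S) : Prop :=
  ∀ (K : Type u) [Field K] (t : Spec (CommRingCat.of K) ⟶ S),
    ∃ ε : CohB1.ProjSpace 1 K ≅ PicF.XT p (Over.mk t),
      ε.hom ≫ PicF.XTproj p (Over.mk t) = CohB1.ProjSpace.toSpec 1 K

theorem isP1_toBase (S : Scheme.{u}) : IsP1 (CohB1.ProjSpaceOver.toBase 1 S) := by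
  intro K _ t
  obtain ⟨e, he⟩ := PnSpec.exists_iso 1 K
  let π := CohB1.ProjSpace.toSpec 1 (ULift.{u} ℤ)
  let a : CohB1.ProjSpaceOver 1 (Spec (CommRingCat.of K)) ⟶ CohB1.ProjSpaceOver 1 S :=
    pullback.map π (specULiftZIsTerminal.from _) π (specULiftZIsTerminal.from S) (𝟙 _) t (𝟙 _)
      (by simp) (specULiftZIsTerminal.hom_ext _ _)
  have hsq : IsPullback a (CohB1.ProjSpaceOver.toBase 1 (Spec (CommRingCat.of K))) (CohB1.ProjSpaceOver.toBase 1 S) t := by
    refine IsPullback.of_right (h₁₂ := pullback.fst π (specULiftZIsTerminal.from S))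
      (h₂₂ := specULiftZIsTerminal.from S) (v₁₃ := π) ?_ ?_ (IsPullback.of_hasPullback _ _)
    · have e1 : a ≫ pullback.fst π (specULiftZIsTerminal.from S) = pullback.fst π (specULiftZIsTerminal.from _) :=
        (pullback.lift_fst _ _ _).trans (Category.comp_id _)
      have e2 : t ≫ specULiftZIsTerminal.from S = specULiftZIsTerminal.from (Spec (CommRingCat.of K)) :=
        specULiftZIsTerminal.hom_ext _ _
      rw [e1, e2]
      exact IsPullback.of_hasPullback _ _
    · exact pullback.lift_snd _ _ _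
  exact ⟨e ≪≫ hsq.isoPullback,
    (Category.assoc _ _ _).trans ((congrArg (e.hom ≫ ·) hsq.isoPullback_hom_snd).trans he)⟩

theorem isP1_of_iso {Y Y' S : Scheme.{u}} {p : Y ⟶ S} {p' : Y' ⟶ S} (i : Y ≅ Y') (hi : i.hom ≫ p' = p)
    (h : IsP1 p') : IsP1 p := by
  intro K _ t
  obtain ⟨ε, hε⟩ := h K t
  let b : PicF.XT p (Over.mk t) ⟶ PicF.XT p' (Over.mk t) :=
    pullback.map p t p' t i.hom (𝟙 _) (𝟙 S) (by simp [hi]) (by simp)
  haveI : IsIso b := pullback.map_isIso _ _ _ _ _ _ _ _ _
  refine ⟨ε ≪≫ (asIso b).symm, ?_⟩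
  rw [Iso.trans_hom, Iso.symm_hom, Category.assoc, ← hε]
  refine congrArg (ε.hom ≫ ·) ?_
  show inv b ≫ _ = _
  rw [IsIso.inv_comp_eq]
  exact ((pullback.lift_snd _ _ _).trans (Category.comp_id _)).symm

theorem isP1_toSpec (k : Type u) [Field k] : IsP1 (CohB1.ProjSpace.toSpec 1 k) := by
  obtain ⟨e, he⟩ := PnSpec.exists_iso 1 k
  exact isP1_of_iso e he (isP1_toBase _)

theorem subsingleton_ext_of_equivalence {A B : Type*} [Category A] [Category B] [Abelian A] [Abelian B]
    [HasExt.{u} A] [HasExt.{u} B] [EnoughInjectives A] (P : A ⥤ B) [P.IsEquivalence] [P.Additive] (E F : A)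
    (h : Subsingleton (Ext.{u} (P.obj E) (P.obj F) 1)) : Subsingleton (Ext.{u} E F 1) := by
  have hS := SiteCoh.embedSeq_shortExact F
  refine SiteCoh.subsingleton_ext_one_of_lift hS E fun φ => ?_
  have hS' : ((SiteCoh.embedSeq F).map P).ShortExact := hS.map_of_exact P
  haveI : Subsingleton (Ext.{u} (P.obj E) ((SiteCoh.embedSeq F).map P).X₁ 1) := h
  obtain ⟨ψ, hψ⟩ := SiteCoh.exists_lift_of_subsingleton_ext_one hS' (P.obj E) (P.map φ)
  refine ⟨P.preimage ψ, P.map_injective ?_⟩
  rw [P.map_comp, P.map_preimage]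
  exact hψ

variable {Y X S : Scheme.{u}} {p : Y ⟶ S} {q : X ⟶ S}

/-- A free curve: the twist by `-1` of the pulled back differentials has no global sections. -/
def Good (q : X ⟶ S) {K : Type u} [Field K] (g : CohB1.ProjSpace 1 K ⟶ X) : Prop :=
  Subsingleton (Coh.HH (CohB1.ProjSpace 1 K)
    (CohB1.tensorMod ((Scheme.Modules.pullback g).obj (Omega.sheaf q)) (Twist.twistProjSpace 1 K (-1))) 0)

/-- The extension vanishing needed for smoothness, at a good curve. -/
theorem subsingleton_ext_of_good [Smooth q] [QuasiSeparated q] {K : Type u} [Field K] {T : Over S}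
    (ε : CohB1.ProjSpace 1 K ≅ PicF.XT p T) (φ : MorSch.Obj p q T) (h : Good q (ε.hom ≫ φ.1)) :
    Subsingleton (Ext.{u} ((Scheme.Modules.pullback φ.1).obj (Omega.sheaf q)) (Coh.structureModule (PicF.XT p T)) 1) := by
  haveI := SerrePn.enoughInjectives (X := PicF.XT p T)
  haveI := FormEquiv.isEquivalence_pullback ε.hom
  let P := Scheme.Modules.pullback ε.hom
  haveI : P.Additive := Functor.additive_of_preserves_binary_products P
  refine subsingleton_ext_of_equivalence P _ _ ?_
  have h1 := subsingleton_ext_of_free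
    (SGA6Ext.isFinLocFree_pullback (ε.hom ≫ φ.1) (AVOmega.isFinLocFree_omega q)) h
  let c := (Scheme.Modules.pullbackComp ε.hom φ.1).app (Omega.sheaf q)
  let w : P.obj (Coh.structureModule (PicF.XT p T)) ≅ Coh.structureModule (CohB1.ProjSpace 1 K) :=
    DerPerf.pullUnitIso ε.hom
  exact ((((extFunctor.{u} 1).mapIso c.op).app (Coh.structureModule (CohB1.ProjSpace 1 K))) ≪≫
    (extFunctorObj _ 1).mapIso w.symm).addCommGroupIsoToAddEquiv.subsingleton_congr.1 h1

/-- The scheme of morphisms is smooth at a point all whose geometric curves are good. -/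
theorem exists_smooth_nhd_good [IsLocallyNoetherian S] [Flat p] (hp : IsP1 p) [Smooth q] [QuasiSeparated q]
    {M : Over S} [LocallyOfFiniteType M.hom] {v : MorSch.Obj p q M} (hM : IsUnivN p q M v) (m : M.left)
    (h : ∀ (K : Type u) [Field K] (x : Spec (CommRingCat.of K) ⟶ M.left), x (IsLocalRing.closedPoint K) = m →
      ∀ ε : CohB1.ProjSpace 1 K ≅ PicF.XT p (Over.mk (x ≫ M.hom)),
        ε.hom ≫ PicF.XTproj p _ = CohB1.ProjSpace.toSpec 1 K →
        Good q (ε.hom ≫ (MorSch.pull p q (Over.homMk x rfl : Over.mk (x ≫ M.hom) ⟶ M) v).1)) :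
    ∃ U : M.left.Opens, m ∈ U ∧ Smooth (U.ι ≫ M.hom) := by
  refine exists_smooth_nhd hM m fun K _ x hx => ?_
  obtain ⟨ε, hε⟩ := hp K (x ≫ M.hom)
  exact subsingleton_ext_of_good ε _ (h K x hx ε hε)

end Groth.Agent.FreeCurve
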