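import Groth.Agent.FreeCurve.WedgeNeg
import Groth.Agent.FreeCurve.NegPow
import Groth.Agent.CycPB.DualFilt
import Groth.Agent.WeilFin.DualPow
import Groth.Agent.KrullSch.TwistDual
import Groth.Agent.FreeCurve.P1Base
import Groth.Agent.FreeCurve.GoodLocus
import Groth.Agent.CurveRR.GGVanish
import Groth.Prelude.Def_MorSch
import Mathlib

/-!
# Free and very free curves by the degrees of the pulled back differentials
-/

set_option autoImplicit false
set_option linter.style.haveILetI false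
set_option backward.isDefEq.respectTransparency false
set_option backward.isDefEq.respectTransparency.types false
set_option synthInstance.maxHeartbeats 400000
set_option maxHeartbeats 1000000

universe u

open CategoryTheory CategoryTheory.Limits AlgebraicGeometry TopologicalSpace Opposite
open Groth.Agent.QC (res resO app_res res_res)
open TMul (val homOf val_homOf)

noncomputable section

namespace Groth.Agent.FreeCurve

open Groth.Agent.P1Split (O U)

/-- Finite sums of globally generated modules are globally generated. -/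
theorem gg_coprod {X : Scheme.{u}} {n : ℕ} (F : Fin n → X.Modules) (h : ∀ t, Curv2.IsGloballyGenerated (F t)) :
    Curv2.IsGloballyGenerated (∐ F) := by
  choose ι p hp using h
  refine ⟨Σ t : Fin n, ι t, Sigma.desc fun ti => Sigma.ι (fun _ : ι ti.1 => SheafOfModules.unit X.ringCatSheaf) ti.2 ≫
    p ti.1 ≫ Sigma.ι F ti.1, ⟨fun a b hab => ?_⟩⟩
  refine Sigma.hom_ext _ _ fun t => ?_
  haveI := hp t
  refine (cancel_epi (p t)).1 (Sigma.hom_ext _ _ fun i => ?_)
  have h1 := congrArg (fun c => Sigma.ι (fun _ : Σ t : Fin n, ι t => (SheafOfModules.unit X.ringCatSheaf : X.Modules))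
    ⟨t, i⟩ ≫ c) hab
  simp only [← Category.assoc] at h1 ⊢
  erw [Sigma.ι_desc] at h1
  simpa using h1

/-- A direct summand of a globally generated module is globally generated. -/
theorem gg_of_epi {X : Scheme.{u}} {F G : X.Modules} (φ : F ⟶ G) [Epi φ] (h : Curv2.IsGloballyGenerated F) :
    Curv2.IsGloballyGenerated G := by
  obtain ⟨ι, p, hp⟩ := h
  haveI := hp
  exact ⟨ι, p ≫ φ, inferInstance⟩

variable {k : Type u} [Field k]

/-- Nonnegative twists are globally generated. -/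
theorem gg_twist {a : ℤ} (ha : 0 ≤ a) : Curv2.IsGloballyGenerated (O k a) := by
  obtain ⟨m, rfl⟩ := Int.eq_ofNat_of_zero_le ha
  let 𝒜 := CohB1.polyGrading 1 k
  have h1 : (1 : MvPolynomial (Fin 2) k) ∈ 𝒜 0 := SetLike.one_mem_graded 𝒜
  have hx : ∀ i : Fin 2, (MvPolynomial.X i : MvPolynomial (Fin 2) k) ^ m ∈ 𝒜 m := fun i => by
    simpa using SetLike.pow_mem_graded (A := 𝒜) m (CurveP1.X_mem k i)
  have htop : ∀ V : (CohB1.ProjSpace 1 k).Opens, V ≤ Proj.basicOpen 𝒜 (1 : MvPolynomial (Fin 2) k) := fun V y _ =>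
    (ProjectiveSpectrum.mem_basicOpen 𝒜 _ y).2 fun h => y.isPrime.ne_top ((Ideal.eq_top_iff_one _).2 h)
  have hN : (m : ℤ) = ((0 : ℕ) : ℤ) + (m : ℤ) := by simp
  let s : Fin 2 → Γ(O k (m : ℤ), ⊤) := fun i => GrT.twistGen 𝒜 (hx i) h1 hN (htop ⊤)
  refine ⟨ULift.{u} (Fin 2), (Sigma.desc fun i => homOf (s i.down) :
    (SheafOfModules.free (R := (CohB1.ProjSpace 1 k).ringCatSheaf) (ULift.{u} (Fin 2)) :
      (CohB1.ProjSpace 1 k).Modules) ⟶ O k (m : ℤ)), ?_⟩
  refine SGA6Ext.epi_of_base isBase_le_U _ fun V ⟨i, hV⟩ t => ?_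
  have hU : U k i ≤ Proj.basicOpen 𝒜 ((MvPolynomial.X i : MvPolynomial (Fin 2) k) ^ m) := fun y hy =>
    (ProjectiveSpectrum.mem_basicOpen 𝒜 _ y).2 (GrT.not_mem_pow 𝒜 ((ProjectiveSpectrum.mem_basicOpen 𝒜 _ y).1 hy) m)
  have hres : res (O k (m : ℤ)) (le_top : V ≤ ⊤) (s i) =
      res (O k (m : ℤ)) hV (GrT.twistGen 𝒜 (hx i) h1 hN (htop (U k i))) := rfl
  obtain ⟨c, hc⟩ := (GrT.twistGen_bijective 𝒜 (hx i) h1 hN hU (htop _) V hV).2 t
  let j : Coh.structureModule (CohB1.ProjSpace 1 k) ⟶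
      ((SheafOfModules.free (R := (CohB1.ProjSpace 1 k).ringCatSheaf) (ULift.{u} (Fin 2)) :
        (CohB1.ProjSpace 1 k).Modules)) :=
    Sigma.ι (fun _ : ULift.{u} (Fin 2) => (SheafOfModules.unit (CohB1.ProjSpace 1 k).ringCatSheaf :
    (CohB1.ProjSpace 1 k).Modules)) (ULift.up i)
  refine ⟨j.app V c, ?_⟩
  have hcomp : j ≫ Sigma.desc (fun i => homOf (s i.down)) = homOf (s i) := Sigma.ι_desc _ _
  refine Eq.trans (show _ = (homOf (s i)).app V c by rw [← hcomp]; rfl) ?_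
  have h2 : (homOf (s i)).app V c = c • val (homOf (s i)) V := by
    refine Eq.trans ?_ (Scheme.Modules.Hom.app_smul (homOf (s i)) c (1 : Γ(CohB1.ProjSpace 1 k, V)))
    exact congrArg _ (mul_one c).symm
  rw [h2, val_homOf, hres]
  exact hc

theorem nonneg_of_gg {a : ℤ} (h : Curv2.IsGloballyGenerated (O k a)) : 0 ≤ a := by
  by_contra hlt
  push Not at hlt
  haveI := subsingleton_twist_neg (k := k) hlt
  haveI : AlgebraicGeometry.IsIntegral (CohB1.ProjSpace 1 k) := CurveP1.isIntegral k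
  haveI : Nonempty (CohB1.ProjSpace 1 k) := IsIntegral.nonempty
  obtain ⟨ι, p, hp⟩ := h
  obtain ⟨U₀, e, hy, he⟩ := TMul.exists_isGen (CohFinite.isInvertible_twist 1 k a)
    (Classical.arbitrary (CohB1.ProjSpace 1 k))
  have hid : 𝟙 (O k a) = 0 := CurveRR.eq_zero_of_gg ⟨ι, p, hp⟩ _ fun t => by
    have ht : t = 0 := P1Split.zero_of_hh0 k (by infer_instance) t
    subst ht
    refine TMul.hom_ext_val ?_
    rw [Category.comp_id, val_homOf, map_zero]
    rfl
  haveI : Nonempty U₀ := ⟨⟨_, hy⟩⟩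
  have h01 : (0 : Γ(CohB1.ProjSpace 1 k, U₀)) = 1 := by
    refine (he U₀ le_rfl).1 ?_
    have h2 : ∀ z : Γ(O k a, U₀), z = 0 := fun z => ConcreteCategory.congr_hom (congrArg (fun φ => φ.app U₀) hid) z
    exact (h2 _).trans (h2 _).symm
  exact zero_ne_one h01

theorem gg_coprod_iff {n : ℕ} (a : Fin n → ℤ) :
    Curv2.IsGloballyGenerated (∐ fun t : Fin n => O k (a t)) ↔ ∀ t, 0 ≤ a t := by
  refine ⟨fun h t => ?_, fun h => gg_coprod _ fun t => gg_twist (h t)⟩
  obtain ⟨π, h1, -, -⟩ := P1Split.exists_proj fun t : Fin n => O k (a t)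
  haveI : IsSplitEpi (π t) := IsSplitEpi.mk' ⟨Sigma.ι (fun t : Fin n => O k (a t)) t, h1 t⟩
  exact nonneg_of_gg (gg_of_epi (π t) h)

theorem nonempty_dual_O (j : ℤ) : Nonempty (RefHull.dual (O k j) ≅ O k (-j)) := by
  obtain ⟨t⟩ := RegCx.twist_twist (k := k) (n := 1) j (-j) 0 (add_neg_cancel j)
  obtain ⟨w⟩ := PnHodge.nonempty_twist_zero_iso (n := 1) (A := k)
  exact KrullSch.nonempty_dual_iso (CohFinite.isInvertible_twist 1 k j) (t ≪≫ w)

/-- A finite sum of twists, twisted. -/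
theorem nonempty_tensor_coprod {n : ℕ} (a : Fin n → ℤ) (b : ℤ) :
    Nonempty (CohB1.tensorMod (∐ fun t : Fin n => O k (a t)) (O k b) ≅ ∐ fun t : Fin n => O k (a t + b)) := by
  let L := fun t : Fin n => O k (a t)
  let N := fun t : Fin n => O k (a t + b)
  let j : ∀ t, CohB1.tensorMod (L t) (O k b) ≅ N t := fun t =>
    (RegCx.twist_twist (k := k) (n := 1) (a t) b (a t + b) rfl).some
  obtain ⟨π, h1, h2, h3⟩ := P1Split.exists_proj L
  refine ⟨⟨∑ t, CohFinite.tmap (π t) (O k b) ≫ (j t).hom ≫ Sigma.ι N t,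
    Sigma.desc fun t => (j t).inv ≫ CohFinite.tmap (Sigma.ι L t) (O k b), ?_, Sigma.hom_ext _ _ fun t => ?_⟩⟩
  · rw [Preadditive.sum_comp]
    refine Eq.trans ?_ ((congrArg (fun ψ => CohFinite.tmap ψ (O k b)) h3).trans (CohFinite.tmap_id _ _))
    refine Eq.trans ?_ (CohFinite.tmap_sum _ _ _).symm
    refine Finset.sum_congr rfl fun t _ => ?_
    rw [Category.assoc, Category.assoc, Sigma.ι_desc, Iso.hom_inv_id_assoc, CohFinite.tmap_comp]
  · rw [← Category.assoc, Sigma.ι_desc, Category.comp_id, Preadditive.comp_sum, Finset.sum_eq_single t]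
    · rw [Category.assoc, ← Category.assoc (CohFinite.tmap _ _), ← CohFinite.tmap_comp, h1, CohFinite.tmap_id,
        Category.id_comp, Iso.inv_hom_id_assoc]
    · intro s _ hst
      rw [Category.assoc, ← Category.assoc (CohFinite.tmap _ _), ← CohFinite.tmap_comp, h2 t s hst.symm,
        CohFinite.tmap_zero, zero_comp, comp_zero]
    · exact fun h => absurd (Finset.mem_univ _) h

theorem hh0_coprod_iff {n : ℕ} (d : Fin n → ℤ) (b : ℤ) {E : (CohB1.ProjSpace 1 k).Modules}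
    (e : E ≅ ∐ fun t : Fin n => O k (d t)) :
    Subsingleton (Coh.HH (CohB1.ProjSpace 1 k) (CohB1.tensorMod E (O k b)) 0) ↔ ∀ t, d t + b < 0 := by
  refine ⟨fun h t => P1Split.le_of_hh0 b e h t, fun h => ?_⟩
  obtain ⟨q⟩ := P1Split.nonempty_hh_coprod k (fun t : Fin n => O k (d t)) (O k b) 0
  haveI : ∀ t, Subsingleton (Coh.HH (CohB1.ProjSpace 1 k) (CohB1.tensorMod (O k (d t)) (O k b)) 0) := fun t => by
    obtain ⟨j⟩ := RegCx.twist_twist (k := k) (n := 1) (d t) b (d t + b) rfl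
    exact CohQC.hh_subsingleton_of_iso j.symm _ (subsingleton_twist_neg (h t))
  exact CohQC.hh_subsingleton_of_iso (PicGrp.tensorModIso e (Iso.refl _)).symm _ q.toEquiv.subsingleton

/-- `r`-freeness by the twisted differentials. -/
theorem isRFree_iff {X : Scheme.{u}} (q : X ⟶ Spec (CommRingCat.of k)) [Smooth q] [QuasiSeparated q]
    (g : CohB1.ProjSpace 1 k ⟶ X) (r : ℤ) :
    MorSch.IsRFree q g r ↔ Subsingleton (Coh.HH (CohB1.ProjSpace 1 k)
      (CohB1.tensorMod ((Scheme.Modules.pullback g).obj (Omega.sheaf q)) (O k (r - 1))) 0) := by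
  have hΩ := AVOmega.isFinLocFree_omega q
  obtain ⟨n, d, ⟨e⟩⟩ := exists_split_locFree (SGA6Ext.isFinLocFree_pullback g hΩ)
  obtain ⟨p⟩ := CycPB.nonempty_pullback_dual g hΩ
  obtain ⟨s⟩ := WeilFin.nonempty_dualSigma (fun t : Fin n => O k (d t)) (fun t => O k (-(d t)))
    fun t => (nonempty_dual_O (d t)).some
  let c := p ≪≫ RefFun.dualIso e ≪≫ s
  obtain ⟨w⟩ := nonempty_tensor_coprod (k := k) (fun t => -(d t)) (-r)
  let c' := PicGrp.tensorModIso c (Iso.refl (O k (-r))) ≪≫ w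
  rw [hh0_coprod_iff d _ e]
  unfold MorSch.IsRFree
  constructor
  · intro h t
    have := (gg_coprod_iff _).1 (gg_of_epi c'.hom h) t
    omega
  · intro h
    exact gg_of_epi c'.inv ((gg_coprod_iff _).2 fun t => by have := h t; omega)

/-- Freeness is goodness. -/
theorem isFree_iff {X : Scheme.{u}} (q : X ⟶ Spec (CommRingCat.of k)) [Smooth q] [QuasiSeparated q]
    (g : CohB1.ProjSpace 1 k ⟶ X) : MorSch.IsFree q g ↔ Good q g := by
  obtain ⟨w⟩ := PnHodge.nonempty_twist_zero_iso (n := 1) (A := k)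
  let T := (Scheme.Modules.pullback g).obj (RefHull.dual (Omega.sheaf q))
  let i : CohB1.tensorMod T (O k (-0)) ≅ T :=
    PicGrp.tensorModIso (Iso.refl T) (eqToIso (by simp) ≪≫ w) ≪≫ TMul.commIso _ _ ≪≫ TMul.leftUnitIso T
  have h := isRFree_iff q g 0
  rw [zero_sub] at h
  exact ⟨fun hf => h.1 (gg_of_epi i.inv hf), fun hg => gg_of_epi i.hom (h.2 hg)⟩

/-- Very free curves have no pulled back differentials. -/
theorem isVeryFree_iff {X : Scheme.{u}} (q : X ⟶ Spec (CommRingCat.of k)) [Smooth q] [QuasiSeparated q]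
    (g : CohB1.ProjSpace 1 k ⟶ X) : MorSch.IsVeryFree q g ↔
      Subsingleton (Coh.HH (CohB1.ProjSpace 1 k) ((Scheme.Modules.pullback g).obj (Omega.sheaf q)) 0) := by
  obtain ⟨w⟩ := PnHodge.nonempty_twist_zero_iso (n := 1) (A := k)
  let E := (Scheme.Modules.pullback g).obj (Omega.sheaf q)
  let i : CohB1.tensorMod E (O k (1 - 1)) ≅ E :=
    PicGrp.tensorModIso (Iso.refl E) (eqToIso (by simp) ≪≫ w) ≪≫ TMul.commIso _ _ ≪≫ TMul.leftUnitIso E
  exact (isRFree_iff q g 1).trans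
    ⟨fun h => CohQC.hh_subsingleton_of_iso i _ h, fun h => CohQC.hh_subsingleton_of_iso i.symm _ h⟩

end Groth.Agent.FreeCurve
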