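import Groth.Agent.FreeCurve.SmoothEv
import Groth.Agent.FreeCurve.MorExist
import Mathlib

/-!
# The scheme of rational curves on a projective variety
-/

set_option autoImplicit false
set_option linter.style.haveILetI false
set_option backward.isDefEq.respectTransparency false
set_option backward.isDefEq.respectTransparency.types false
set_option synthInstance.maxHeartbeats 400000
set_option maxHeartbeats 1000000

universe u

open CategoryTheory CategoryTheory.Limits AlgebraicGeometry TopologicalSpace Opposite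
open IsLocalRing (closedPoint)

noncomputable section

namespace Groth.Agent.FreeCurve

variable {k : Type u} [Field k] {X : Scheme.{u}} (q : X ⟶ Spec (CommRingCat.of k))

theorem exists_mor (hqp : ∃ (N : ℕ) (ι : X ⟶ CohB1.ProjSpace N k), IsImmersion ι ∧ QuasiCompact ι ∧
    ι ≫ CohB1.ProjSpace.toSpec N k = q) :
    ∃ (M : Over (Spec (CommRingCat.of k))) (_ : LocallyOfFiniteType M.hom)
      (v : MorSch.Obj (CohB1.ProjSpace.toSpec 1 k) q M), IsUnivN (CohB1.ProjSpace.toSpec 1 k) q M v := by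
  obtain ⟨N, ι, hι, hqc, hιq⟩ := hqp
  haveI := hι
  haveI := hqc
  haveI := smooth_toSpec k
  obtain ⟨e, he⟩ := PnSpec.exists_iso 1 k
  obtain ⟨eN, heN⟩ := PnSpec.exists_iso N k
  exact exists_univN e.hom he (ι ≫ eN.hom) (by rw [Category.assoc, heN, hιq])

theorem quasiProj_of_proj (hX : ∃ (N : ℕ) (ι : X ⟶ CohB1.ProjSpace N k), IsClosedImmersion ι ∧
    ι ≫ CohB1.ProjSpace.toSpec N k = q) :
    IsProper q ∧ ∃ (N : ℕ) (ι : X ⟶ CohB1.ProjSpace N k), IsImmersion ι ∧ QuasiCompact ι ∧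
      ι ≫ CohB1.ProjSpace.toSpec N k = q := by
  obtain ⟨N, ι, hι, hιq⟩ := hX
  haveI := hι
  haveI := ProjMor.isProper_toSpec N k
  exact ⟨hιq ▸ inferInstance, N, ι, inferInstance, inferInstance, hιq⟩

variable {q} {M : Over (Spec (CommRingCat.of k))} {v : MorSch.Obj (CohB1.ProjSpace.toSpec 1 k) q M}

/-- Every curve is a rational point. -/
theorem exists_point_of_curve (hM : IsUnivN (CohB1.ProjSpace.toSpec 1 k) q M v) (f : CohB1.ProjSpace 1 k ⟶ X)
    (hf : f ≫ q = CohB1.ProjSpace.toSpec 1 k) :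
    ∃ (mp : Spec (CommRingCat.of k) ⟶ M.left) (hmp : mp ≫ M.hom = 𝟙 _), curveAt v mp hmp = f := by
  let T₁ : Over (Spec (CommRingCat.of k)) := Over.mk (𝟙 _)
  haveI : IsLocallyNoetherian T₁.left := inferInstanceAs (IsLocallyNoetherian (Spec (CommRingCat.of k)))
  obtain ⟨g, hg, -⟩ := hM.2 T₁ ⟨pullback.fst _ _ ≫ f, by rw [Category.assoc, hf]⟩
  refine ⟨g.left, Over.w g, ?_⟩
  let s₀ : CohB1.ProjSpace 1 k ⟶ PicF.XT (CohB1.ProjSpace.toSpec 1 k) T₁ :=
    pullback.lift (𝟙 _) (CohB1.ProjSpace.toSpec 1 k) (by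
      show _ = _ ≫ 𝟙 _
      rw [Category.id_comp, Category.comp_id])
  have h1 : s₀ ≫ PicF.XTmap (CohB1.ProjSpace.toSpec 1 k) g ≫ v.1 = f := by
    have h2 : PicF.XTmap (CohB1.ProjSpace.toSpec 1 k) g ≫ v.1 =
        pullback.fst (CohB1.ProjSpace.toSpec 1 k) T₁.hom ≫ f := congrArg Subtype.val hg
    rw [h2, pullback.lift_fst_assoc, Category.id_comp]
  rw [curveAt, ← h1, ← Category.assoc s₀]
  refine congrArg (· ≫ v.1) ?_
  apply pullback.hom_ext
  · rw [pullback.lift_fst, Category.assoc, MorSch.XTmap_fst, pullback.lift_fst]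
  · rw [pullback.lift_snd, Category.assoc]
    exact ((congrArg (s₀ ≫ ·) (pullback.lift_snd _ _ _)).trans ((Category.assoc _ _ _).symm.trans
      (congrArg (· ≫ g.left) (pullback.lift_snd _ _ _)))).symm

variable [IsAlgClosed k] [IsSeparated q] [LocallyOfFiniteType q]

/-- A nonconstant curve separates two rational points. -/
theorem exists_two_points (f : CohB1.ProjSpace 1 k ⟶ X) (hf : f ≫ q = CohB1.ProjSpace.toSpec 1 k) (hnc : ¬ ∃ x : X, Set.range f.base ⊆ {x}) :
    ∃ (t t' : Spec (CommRingCat.of k) ⟶ CohB1.ProjSpace 1 k), t ≫ CohB1.ProjSpace.toSpec 1 k = 𝟙 _ ∧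
      t' ≫ CohB1.ProjSpace.toSpec 1 k = 𝟙 _ ∧ f (t (closedPoint k)) ≠ f (t' (closedPoint k)) := by
  haveI := ProjMor.isProper_toSpec 1 k
  haveI : AlgebraicGeometry.IsIntegral (CohB1.ProjSpace 1 k) := CurveP1.isIntegral k
  obtain ⟨t₀, -, ht₀⟩ := nonempty_inter_closedPoints (X := CohB1.ProjSpace 1 k) (Z := Set.univ)
    Set.univ_nonempty isClosed_univ.isLocallyClosed
  let e := pointEquivClosedPoint (CohB1.ProjSpace.toSpec 1 k)
  have he : ∀ (t : CohB1.ProjSpace 1 k) (ht : IsClosed ({t} : Set (CohB1.ProjSpace 1 k))),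
      (e.symm ⟨t, ht⟩).1 (closedPoint k) = t := fun t ht => congrArg Subtype.val (e.apply_symm_apply ⟨t, ht⟩)
  by_contra hall
  push Not at hall
  have hconst : ∀ t : CohB1.ProjSpace 1 k, IsClosed ({t} : Set (CohB1.ProjSpace 1 k)) → f t = f t₀ := fun t ht => by
    have := hall (e.symm ⟨t, ht⟩).1 (e.symm ⟨t₀, ht₀⟩).1 (e.symm ⟨t, ht⟩).2 (e.symm ⟨t₀, ht₀⟩).2
    rwa [he, he] at this
  refine hnc ⟨f t₀, ?_⟩
  have hcl : IsClosed ({f t₀} : Set X) := by
    let u := (e.symm ⟨t₀, ht₀⟩).1 ≫ f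
    have hu : u ≫ q = 𝟙 _ := by rw [Category.assoc, hf]; exact (e.symm ⟨t₀, ht₀⟩).2
    have h1 := ((pointEquivClosedPoint q) ⟨u, hu⟩).2
    change IsClosed ({u (closedPoint k)} : Set X) at h1
    rwa [show u (closedPoint k) = f t₀ from congrArg f (he t₀ ht₀)] at h1
  rintro y ⟨t, rfl⟩
  by_contra hne
  obtain ⟨t', ht', ht'c⟩ := nonempty_inter_closedPoints (X := CohB1.ProjSpace 1 k) (Z := (f ⁻¹' {f t₀})ᶜ)
    ⟨t, hne⟩ (hcl.preimage f.continuous).isOpen_compl.isLocallyClosed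
  exact ht' (hconst t' ht'c)

/-- The curves separating two points form an open. -/
theorem exists_sep_open (t t' : Spec (CommRingCat.of k) ⟶ CohB1.ProjSpace 1 k)
    (ht : t ≫ CohB1.ProjSpace.toSpec 1 k = 𝟙 _) (ht' : t' ≫ CohB1.ProjSpace.toSpec 1 k = 𝟙 _) :
    ∃ A : M.left.Opens, ∀ (mp : Spec (CommRingCat.of k) ⟶ M.left) (hmp : mp ≫ M.hom = 𝟙 _),
      mp (closedPoint k) ∈ A ↔ curveAt v mp hmp (t (closedPoint k)) ≠ curveAt v mp hmp (t' (closedPoint k)) := by
  let σ : ∀ t : Spec (CommRingCat.of k) ⟶ CohB1.ProjSpace 1 k, t ≫ CohB1.ProjSpace.toSpec 1 k = 𝟙 _ →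
      (M.left ⟶ pullback (CohB1.ProjSpace.toSpec 1 k) M.hom) := fun t ht =>
    pullback.lift (M.hom ≫ t) (𝟙 _) (by rw [Category.assoc, ht, Category.comp_id, Category.id_comp])
  have hσq : ∀ t ht, (σ t ht ≫ v.1) ≫ q = M.hom := fun t ht => by
    rw [Category.assoc, v.2, pullback.lift_fst_assoc, Category.assoc, ht, Category.comp_id]
  let ab : M.left ⟶ pullback q q :=
    pullback.lift (σ t ht ≫ v.1) (σ t' ht' ≫ v.1) ((hσq t ht).trans (hσq t' ht').symm)
  refine ⟨⟨(ab ⁻¹' Set.range (pullback.diagonal q))ᶜ,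
    ((pullback.diagonal q).isClosedEmbedding.isClosed_range.preimage ab.continuous).isOpen_compl⟩, fun mp hmp => ?_⟩
  have hcomp : ∀ s hs, mp ≫ σ s hs ≫ v.1 = s ≫ curveAt v mp hmp := fun s hs => by
    rw [curveAt, ← Category.assoc, ← Category.assoc]
    refine congrArg (· ≫ v.1) ?_
    apply pullback.hom_ext
    · rw [Category.assoc, pullback.lift_fst, Category.assoc, pullback.lift_fst, reassoc_of% hmp, Category.comp_id]
    · rw [Category.assoc, pullback.lift_snd, Category.comp_id, Category.assoc, pullback.lift_snd, reassoc_of% hs]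
  have ha : ∀ s hs, (σ s hs ≫ v.1) (mp (closedPoint k)) = curveAt v mp hmp (s (closedPoint k)) := fun s hs => by
    rw [← Scheme.Hom.comp_apply, ← Scheme.Hom.comp_apply, hcomp s hs]
  constructor
  · intro hm heq
    refine hm ?_
    let a := mp ≫ σ t ht ≫ v.1
    have hab : mp ≫ ab = a ≫ pullback.diagonal q := by
      have h2 : a = mp ≫ σ t' ht' ≫ v.1 := ext_of_apply_closedPoint_eq q
        (by rw [Category.assoc, hσq t ht, hmp]) (by rw [Category.assoc, hσq t' ht', hmp])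
        ((ha t ht).trans (heq.trans (ha t' ht').symm))
      apply pullback.hom_ext
      · rw [Category.assoc, pullback.lift_fst, Category.assoc, pullback.diagonal_fst, Category.comp_id]
      · rw [Category.assoc, pullback.lift_snd, Category.assoc, pullback.diagonal_snd, Category.comp_id, h2]
    exact ⟨a (closedPoint k), by rw [← Scheme.Hom.comp_apply, ← Scheme.Hom.comp_apply, hab]⟩
  · rintro hne ⟨y, hy⟩
    refine hne ?_
    rw [← ha t ht, ← ha t' ht']
    have h1 : σ t ht ≫ v.1 = ab ≫ pullback.fst q q := (pullback.lift_fst _ _ _).symm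
    have h2 : σ t' ht' ≫ v.1 = ab ≫ pullback.snd q q := (pullback.lift_snd _ _ _).symm
    rw [h1, h2, Scheme.Hom.comp_apply, Scheme.Hom.comp_apply, ← hy, ← Scheme.Hom.comp_apply, ← Scheme.Hom.comp_apply,
      pullback.diagonal_fst, pullback.diagonal_snd]

end Groth.Agent.FreeCurve
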