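import Groth.Agent.FreeCurve.CharZero
import Groth.Agent.CountHilb.Main
import Mathlib

/-!
# Countably many closed sets containing the bad curves
-/

set_option autoImplicit false
set_option linter.style.haveILetI false
set_option backward.isDefEq.respectTransparency false
set_option backward.isDefEq.respectTransparency.types false
set_option synthInstance.maxHeartbeats 400000
set_option maxHeartbeats 1000000

universe u

open CategoryTheory CategoryTheory.Limits AlgebraicGeometry TopologicalSpace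
open IsLocalRing (closedPoint)

noncomputable section

namespace Groth.Agent.FreeCurve

/-- A closed subset of a scheme with a countable cover is a countable union of irreducible locally closed sets. -/
theorem exists_countable_irreducible_cover {M : Scheme.{u}} [IsLocallyNoetherian M] (h : HasCountCover M)
    (B : Set M) (hB : IsClosed B) :
    ∃ Zs : Set (Set M), Zs.Countable ∧ (∀ Z ∈ Zs, IsLocallyClosed Z ∧ IsIrreducible Z ∧ Z ⊆ B) ∧ B ⊆ ⋃₀ Zs := by
  obtain ⟨κ, hκ, U, hU, hsup⟩ := h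
  have key : ∀ a, ∃ S : Set (Set M), S.Finite ∧ (∀ Z ∈ S, IsLocallyClosed Z ∧ IsIrreducible Z ∧ Z ⊆ B) ∧
      (B ∩ U a) ⊆ ⋃₀ S := fun a => by
    haveI : CompactSpace ↥(U a : Scheme.{u}) := isCompact_iff_compactSpace.1 (hU a)
    haveI : IsNoetherian (U a : Scheme.{u}) := {}
    obtain ⟨S, hSf, hSc, hSi, hS⟩ := NoetherianSpace.exists_finite_set_isClosed_irreducible
      (hB.preimage (U a).ι.continuous)
    refine ⟨((U a).ι '' ·) '' S, hSf.image _, ?_, ?_⟩
    · rintro _ ⟨t, ht, rfl⟩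
      refine ⟨?_, (hSi t ht).image _ (U a).ι.continuous.continuousOn, ?_⟩
      · obtain ⟨C, hC, rfl⟩ := (U a).ι.isOpenEmbedding.isInducing.isClosed_iff.1 (hSc t ht)
        show IsLocallyClosed ((U a).ι '' ((U a).ι ⁻¹' C))
        rw [Set.image_preimage_eq_inter_range, Scheme.Opens.range_ι]
        exact hC.isLocallyClosed.inter (U a).2.isLocallyClosed
      · rintro _ ⟨y, hy, rfl⟩
        have : y ∈ (U a).ι ⁻¹' B := hS.symm ▸ ⟨t, ht, hy⟩
        exact this
    · rintro y ⟨hyB, hyU⟩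
      obtain ⟨t, ht, hyt⟩ : (⟨y, hyU⟩ : ↥(U a)) ∈ ⋃₀ S := hS ▸ hyB
      exact ⟨_, ⟨t, ht, rfl⟩, ⟨y, hyU⟩, hyt, rfl⟩
  choose S hSf hS hcov using key
  refine ⟨⋃ a, S a, Set.countable_iUnion fun a => (hSf a).countable, fun Z hZ => ?_, fun y hy => ?_⟩
  · obtain ⟨a, ha⟩ := Set.mem_iUnion.1 hZ
    exact hS a Z ha
  · obtain ⟨a, ha⟩ := Opens.mem_iSup.1 (show y ∈ ⨆ a, U a by rw [hsup]; trivial)
    obtain ⟨Z, hZ, hyZ⟩ := hcov a ⟨hy, ha⟩
    exact ⟨Z, Set.mem_iUnion.2 ⟨a, hZ⟩, hyZ⟩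

/-- Countably many dense opens avoid the images of the thin pieces of a closed set of parameters. -/
theorem exists_seq_opens_avoid {P M X : Scheme.{u}} [IsLocallyNoetherian M] [IrreducibleSpace X]
    (h : HasCountCover M) (pr : P ⟶ M) (ev : P ⟶ X) (B : Set M) (hB : IsClosed B)
    (hnd : ∀ Z : Set M, IsLocallyClosed Z → IsIrreducible Z → Z ⊆ B → ¬ Dense (ev '' (pr ⁻¹' Z))) :
    ∃ U : ℕ → X.Opens, (∀ n, Dense ((U n : Set X))) ∧ ∀ w : P, pr w ∈ B → ev w ∉ ⋂ n, (U n : Set X) := by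
  obtain ⟨Zs, hcnt, hZs, hcov⟩ := exists_countable_irreducible_cover h B hB
  let C : Set M → X.Opens := fun Z => ⟨(closure (ev '' (pr ⁻¹' Z)))ᶜ, isClosed_closure.isOpen_compl⟩
  obtain ⟨U, hU⟩ := ((hcnt.image C).insert ⊤).exists_eq_range ⟨⊤, Set.mem_insert _ _⟩
  refine ⟨U, fun n => ?_, fun w hw hwU => ?_⟩
  · have hn : U n ∈ insert ⊤ (C '' Zs) := by rw [hU]; exact ⟨n, rfl⟩
    rcases hn with hn | ⟨Z, hZ, hn⟩
    · rw [hn]; exact dense_univ
    · rw [← hn]
      obtain ⟨h1, h2, h3⟩ := hZs Z hZ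
      exact (C Z).2.dense (Set.nonempty_compl.2 fun he => hnd Z h1 h2 h3 (dense_iff_closure_eq.2 he))
  · obtain ⟨Z, hZ, hwZ⟩ := hcov hw
    obtain ⟨n, hn⟩ : C Z ∈ Set.range U := by rw [← hU]; exact Or.inr ⟨Z, hZ, rfl⟩
    have hmem := Set.mem_iInter.1 hwU n
    rw [hn] at hmem
    exact hmem (subset_closure ⟨w, hwZ, rfl⟩)

variable {k : Type u} [Field k] {X : Scheme.{u}}

/-- A good member of a pulled back family gives a good member. -/
theorem mem_goodSet_pull {q : X ⟶ Spec (CommRingCat.of k)} [Smooth q] [QuasiSeparated q]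
    {M O : Over (Spec (CommRingCat.of k))} (v : MorSch.Obj (CohB1.ProjSpace.toSpec 1 k) q M) (g : O ⟶ M)
    {o : O.left} (ho : o ∈ goodSet (Twist.twistProjSpace 1 k (-1)) (MorSch.pull (CohB1.ProjSpace.toSpec 1 k) q g v)) :
    g.left o ∈ goodSet (Twist.twistProjSpace 1 k (-1)) v := by
  haveI := ProjMor.isProper_toSpec 1 k
  let p := CohB1.ProjSpace.toSpec 1 k
  let x := O.left.fromSpecResidueField o
  obtain ⟨ε, hε, ⟨w⟩⟩ := isP1Tw_toSpec k (O.left.residueField o) (x ≫ O.hom)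
  let g₁ : Over.mk (x ≫ O.hom) ⟶ O := Over.homMk x rfl
  have hxo : x (closedPoint (O.left.residueField o)) = o := Scheme.fromSpecResidueField_apply o _
  have hG : Good q (ε.hom ≫ (MorSch.pull p q g₁ (MorSch.pull p q g v)).1) :=
    (good_iff isFinLocFree_twistN (MorSch.pull p q g v) g₁ (Iso.refl _) ε ((congrArg (ε.hom ≫ ·) (Category.comp_id _)).trans hε) w).2 (by
      show x (closedPoint (O.left.residueField o)) ∈ _
      rw [hxo]; exact ho)
  have hc : (MorSch.pull p q g₁ (MorSch.pull p q g v)).1 = (MorSch.pull p q (g₁ ≫ g) v).1 := by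
    rw [MorSch.pull_val, MorSch.pull_val, MorSch.pull_val, MorSch.XTmap_comp, Category.assoc]
  rw [hc] at hG
  have h1 := (good_iff isFinLocFree_twistN v (g₁ ≫ g) (Iso.refl _) ε ((congrArg (ε.hom ≫ ·) (Category.comp_id _)).trans hε) w).1 hG
  change g.left (x (closedPoint (O.left.residueField o))) ∈ _ at h1
  rwa [hxo] at h1

/-- An irreducible set of parameters whose curves sweep out a dense set, with its reduced structure. -/
theorem exists_dominant_piece {q : X ⟶ Spec (CommRingCat.of k)} {M : Over (Spec (CommRingCat.of k))}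
    [LocallyOfFiniteType M.hom] (v : MorSch.Obj (CohB1.ProjSpace.toSpec 1 k) q M) {Z : Set M.left}
    (hZ : IsLocallyClosed Z) (hirr : IsIrreducible Z)
    (hd : Dense (v.1 '' (PicF.XTproj (CohB1.ProjSpace.toSpec 1 k) M ⁻¹' Z))) :
    ∃ (O : Over (Spec (CommRingCat.of k))) (g : O ⟶ M), IsIntegral O.left ∧ LocallyOfFiniteType O.hom ∧
      Set.range g.left = Z ∧ IsDominant (MorSch.pull (CohB1.ProjSpace.toSpec 1 k) q g v).1 := by
  obtain ⟨O, j, hj, hred, hjr⟩ := GrpAct.exists_reduced_subscheme (Y := M.left) hZ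
  haveI := hj
  haveI := hred
  haveI : IrreducibleSpace ↥(Set.range j) := Subtype.irreducibleSpace (hjr ▸ hirr)
  haveI : IrreducibleSpace O := j.isEmbedding.toHomeomorph.irreducibleSpace_iff.2 ‹_›
  haveI : IsIntegral O := isIntegral_of_irreducibleSpace_of_isReduced O
  let g : Over.mk (j ≫ M.hom) ⟶ M := Over.homMk j rfl
  refine ⟨_, g, ‹IsIntegral O›, inferInstanceAs (LocallyOfFiniteType (j ≫ M.hom)), hjr, ⟨hd.mono ?_⟩⟩
  rintro _ ⟨w, hw, rfl⟩
  obtain ⟨o, ho⟩ : PicF.XTproj (CohB1.ProjSpace.toSpec 1 k) M w ∈ Set.range j := hjr.symm ▸ hw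
  obtain ⟨z, hz, -⟩ := Scheme.exists_preimage_of_isPullback (S17082.isPullback_XTmap (CohB1.ProjSpace.toSpec 1 k) g)
    w o ho.symm
  exact ⟨z, congrArg v.1 hz⟩

/-- In characteristic zero the bad curves sweep out only thin sets. -/
theorem not_dense_of_bad [CharZero k] [IsIntegral X] (q : X ⟶ Spec (CommRingCat.of k)) [Smooth q] [IsSeparated q]
    {M : Over (Spec (CommRingCat.of k))} [LocallyOfFiniteType M.hom]
    (v : MorSch.Obj (CohB1.ProjSpace.toSpec 1 k) q M) {Z : Set M.left} (hZ : IsLocallyClosed Z) (hirr : IsIrreducible Z)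
    (hbad : Z ⊆ (goodSet (Twist.twistProjSpace 1 k (-1)) v)ᶜ) :
    ¬ Dense (v.1 '' (PicF.XTproj (CohB1.ProjSpace.toSpec 1 k) M ⁻¹' Z)) := by
  intro hd
  obtain ⟨O, g, hint, hlft, hr, hdom⟩ := exists_dominant_piece v hZ hirr hd
  haveI := hint
  haveI := hlft
  haveI := hdom
  obtain ⟨o, ho⟩ := exists_good_of_isDominant q O.hom (MorSch.pull (CohB1.ProjSpace.toSpec 1 k) q g v)
  exact hbad (hr ▸ ⟨o, rfl⟩ : g.left o ∈ Z) (mem_goodSet_pull v g ho)

end Groth.Agent.FreeCurve
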