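import Groth.Agent.FreeCurve.EvTan
import Groth.Agent.AVLine.Const
import Mathlib

/-!
# The evaluation map is smooth along the free curves
-/

set_option autoImplicit false
set_option linter.style.haveILetI false
set_option backward.isDefEq.respectTransparency false
set_option backward.isDefEq.respectTransparency.types false
set_option synthInstance.maxHeartbeats 400000
set_option maxHeartbeats 1000000

universe u

open CategoryTheory CategoryTheory.Limits AlgebraicGeometry TopologicalSpace Opposite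
open IsLocalRing (closedPoint maximalIdeal)

noncomputable section

namespace Groth.Agent.FreeCurve

open Groth.Agent.P1Split (O)

variable (k : Type u) [Field k]

theorem smooth_toSpec : Smooth (CohB1.ProjSpace.toSpec 1 k) := by
  obtain ⟨e, he⟩ := PnSpec.exists_iso 1 k
  letI := Groth.Agent.AVLine.intAlg k
  haveI : Smooth (CohB1.ProjSpaceOver.toBase 1 (Spec (CommRingCat.of k))) := Groth.Agent.AVLine.smooth_toBase k
  rw [← he]
  infer_instance

variable {k} {X : Scheme.{u}} {q : X ⟶ Spec (CommRingCat.of k)} {M : Over (Spec (CommRingCat.of k))}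
  {v : MorSch.Obj (CohB1.ProjSpace.toSpec 1 k) q M}

theorem mem_sq_of_ringEquiv {R S : Type*} [CommRing R] [IsLocalRing R] [CommRing S] [IsLocalRing S] (e : R ≃+* S)
    {x : R} (h : e x ∈ maximalIdeal S ^ 2) : x ∈ maximalIdeal R ^ 2 := by
  have hle : (maximalIdeal S).map (e.symm : S →+* R) ≤ maximalIdeal R := Ideal.map_le_iff_le_comap.2 fun b hb => by
    rw [IsLocalRing.mem_maximalIdeal] at hb
    rw [Ideal.mem_comap, IsLocalRing.mem_maximalIdeal]
    exact fun hu => hb (by simpa using hu.map (e : R →+* S))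
  have h2 := Ideal.mem_map_of_mem (e.symm : S →+* R) h
  rw [Ideal.map_pow] at h2
  have h3 := Ideal.pow_right_mono hle 2 h2
  simpa using h3

theorem isFinLocFree_twistN : FlatMod.IsFinLocFree (Twist.twistProjSpace 1 k (-1)) :=
  ResDesc.isFinLocFree_of_isInvertible (CohFinite.isInvertible_twist 1 k (-1))

/-- At a rational point, being in the good locus is being a good curve. -/
theorem good_iff_rational [Smooth q] [QuasiSeparated q] (mp : Spec (CommRingCat.of k) ⟶ M.left)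
    (hmp : mp ≫ M.hom = 𝟙 _) :
    Good q (curveAt v mp hmp) ↔ mp (closedPoint k) ∈ goodSet (Twist.twistProjSpace 1 k (-1)) v := by
  haveI := ProjMor.isProper_toSpec 1 k
  let T₁ : Over (Spec (CommRingCat.of k)) := Over.mk (𝟙 _)
  let ε : CohB1.ProjSpace 1 k ≅ PicF.XT (CohB1.ProjSpace.toSpec 1 k) T₁ :=
    (asIso (pullback.fst (CohB1.ProjSpace.toSpec 1 k) (𝟙 (Spec (CommRingCat.of k))))).symm
  have hfst : ε.hom ≫ pullback.fst (CohB1.ProjSpace.toSpec 1 k) T₁.hom = 𝟙 _ := IsIso.inv_hom_id _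
  have hsnd : ε.hom ≫ pullback.snd (CohB1.ProjSpace.toSpec 1 k) T₁.hom = CohB1.ProjSpace.toSpec 1 k := by
    have h1 : pullback.snd (CohB1.ProjSpace.toSpec 1 k) T₁.hom =
        pullback.fst (CohB1.ProjSpace.toSpec 1 k) T₁.hom ≫ CohB1.ProjSpace.toSpec 1 k :=
      (Category.comp_id _).symm.trans pullback.condition.symm
    rw [h1, ← Category.assoc, hfst, Category.id_comp]
  let m₁ : T₁ ⟶ M := Over.homMk mp hmp
  have h := good_iff isFinLocFree_twistN v m₁ (Iso.refl _) ε (by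
    show ε.hom ≫ _ ≫ 𝟙 _ = _
    rw [Category.comp_id]; exact hsnd)
    ((Scheme.Modules.pullbackCongr hfst).app _ ≪≫ (Scheme.Modules.pullbackId _).app _)
  have hc : ε.hom ≫ (MorSch.pull (CohB1.ProjSpace.toSpec 1 k) q m₁ v).1 = curveAt v mp hmp := by
    rw [MorSch.pull_val, curveAt, ← Category.assoc]
    refine congrArg (· ≫ v.1) ?_
    apply pullback.hom_ext
    · rw [Category.assoc, MorSch.XTmap_fst, pullback.lift_fst, hfst]
    · rw [Category.assoc, pullback.lift_snd]
      refine (congrArg (ε.hom ≫ ·) (pullback.lift_snd _ _ _)).trans ?_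
      rw [← Category.assoc, hsnd]
      rfl
  rw [hc] at h
  exact h

/-- The good locus as an open. -/
def goodOpen [Smooth q] [QuasiSeparated q] (v : MorSch.Obj (CohB1.ProjSpace.toSpec 1 k) q M) : M.left.Opens :=
  haveI := ProjMor.isProper_toSpec 1 k
  haveI := smooth_toSpec k
  ⟨goodSet (Twist.twistProjSpace 1 k (-1)) v, isOpen_goodSet isFinLocFree_twistN v⟩

theorem smooth_goodOpen [Smooth q] [QuasiSeparated q] [LocallyOfFiniteType M.hom]
    (hM : IsUnivN (CohB1.ProjSpace.toSpec 1 k) q M v) : Smooth ((goodOpen v).ι ≫ M.hom) := by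
  haveI := ProjMor.isProper_toSpec 1 k
  haveI := smooth_toSpec k
  haveI : IsLocallyNoetherian (Spec (CommRingCat.of k)) := inferInstance
  refine IsZariskiLocalAtSource.of_iSup_eq_top (P := @Smooth)
    (fun U : {U : (goodOpen v : Scheme.{u}).Opens // Smooth (U.ι ≫ (goodOpen v).ι ≫ M.hom)} => U.1)
    (eq_top_iff.2 fun x _ => ?_) fun U => U.2
  obtain ⟨U, hU, hsm⟩ := exists_smooth_nhd_of_mem isFinLocFree_twistN (isP1Tw_toSpec k) hM (m := x.1) x.2
  refine Opens.mem_iSup.2 ⟨⟨(goodOpen v).ι ⁻¹ᵁ U, ?_⟩, hU⟩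
  haveI := hsm
  rw [← Category.assoc, ← morphismRestrict_ι, Category.assoc]
  haveI : Smooth ((goodOpen v).ι ∣_ U) := inferInstance
  infer_instance

variable [IsAlgClosed k]

/-- The evaluation map is smooth over the good locus. -/
theorem smooth_ev_good [Smooth q] [QuasiSeparated q] [LocallyOfFiniteType M.hom]
    (hM : IsUnivN (CohB1.ProjSpace.toSpec 1 k) q M v) (A : M.left.Opens) (hA : A ≤ goodOpen v) :
    Smooth ((pullback.snd (CohB1.ProjSpace.toSpec 1 k) M.hom ⁻¹ᵁ A).ι ≫ v.1) := by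
  haveI := ProjMor.isProper_toSpec 1 k
  haveI := smooth_toSpec k
  set pr₂ := pullback.snd (CohB1.ProjSpace.toSpec 1 k) M.hom
  haveI : Smooth pr₂ := MorphismProperty.pullback_snd _ _ ‹Smooth (CohB1.ProjSpace.toSpec 1 k)›
  haveI : LocallyOfFiniteType (pr₂ ≫ M.hom) := inferInstance
  haveI : Smooth (A.ι ≫ M.hom) := by
    haveI := smooth_goodOpen hM
    rw [show A.ι ≫ M.hom = M.left.homOfLE hA ≫ (goodOpen v).ι ≫ M.hom by rw [Scheme.homOfLE_ι_assoc]]
    infer_instance
  let Z := pr₂ ⁻¹ᵁ A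
  let qZ : (Z : Scheme.{u}) ⟶ Spec (CommRingCat.of k) := Z.ι ≫ pr₂ ≫ M.hom
  haveI : Smooth qZ := by
    show Smooth (Z.ι ≫ pr₂ ≫ M.hom)
    rw [show Z.ι ≫ pr₂ ≫ M.hom = (pr₂ ∣_ A) ≫ A.ι ≫ M.hom by rw [morphismRestrict_ι_assoc]]
    haveI : Smooth (pr₂ ∣_ A) := IsZariskiLocalAtTarget.restrict ‹Smooth pr₂› A
    infer_instance
  let w := Z.ι ≫ v.1
  have hw : w ≫ q = qZ := by
    rw [Category.assoc, v.2, pullback.condition]
  haveI : JacobsonSpace (Z : Scheme.{u}) := LocallyOfFiniteType.jacobsonSpace qZ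
  haveI : LocallyOfFiniteType (w ≫ q) := by rw [hw]; infer_instance
  haveI : LocallyOfFiniteType w := locallyOfFiniteType_of_comp w q
  haveI : IsLocallyNoetherian X := LocallyOfFiniteType.isLocallyNoetherian q
  haveI : LocallyOfFinitePresentation w := LocallyOfFinitePresentation.iff_locallyOfFiniteType.2 inferInstance
  refine Scheme.Hom.smoothLocus_eq_top_iff.1 ?_
  by_contra hne
  obtain ⟨y, hy, hyc⟩ := nonempty_inter_closedPoints (X := (Z : Scheme.{u})) (Z := ((w.smoothLocus : Set _))ᶜ)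
    (Set.nonempty_compl.2 fun h' => hne (Opens.ext h')) w.smoothLocus.2.isClosed_compl.isLocallyClosed
  refine hy (Scheme.Hom.mem_smoothLocus.2 ((SmDiff.formallySmooth_stalkMap_iff_injective qZ q w hw hyc).2 ?_))
  rw [SmDiff.cotangentMapAt_injective_iff]
  intro a ha ha2
  let y₀ := (pointEquivClosedPoint qZ).symm ⟨y, hyc⟩
  have hy₀ : y₀.1 (closedPoint k) = y := congrArg Subtype.val ((pointEquivClosedPoint qZ).apply_symm_apply ⟨y, hyc⟩)
  clear_value y₀
  subst hy₀
  let z := y₀.1 ≫ Z.ι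
  have hz : z ≫ pr₂ ≫ M.hom = 𝟙 _ := (Category.assoc _ _ _).trans y₀.2
  have hmem : (z ≫ pr₂) (closedPoint k) ∈ goodOpen v := hA (y₀.1 (closedPoint k)).2
  have hgood := (good_iff_rational (z ≫ pr₂) ((Category.assoc _ _ _).trans hz)).2 hmem
  obtain ⟨n, d, hd, ⟨e⟩⟩ := exists_split_lt
    (SGA6Ext.isFinLocFree_pullback (curveAt v (z ≫ pr₂) ((Category.assoc _ _ _).trans hz))
      (AVOmega.isFinLocFree_omega q)) (-1) hgood
  refine mem_sq_of_stalkMap hM z hz (fun t => by have := hd t; omega) e ha ?_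
  haveI : IsIso (Z.ι.stalkMap (y₀.1 (closedPoint k))) := inferInstance
  let ι' := (asIso (Z.ι.stalkMap (y₀.1 (closedPoint k)))).commRingCatIsoToRingEquiv
  have h1 : ι' (v.1.stalkMap (Z.ι (y₀.1 (closedPoint k))) a) ∈
      maximalIdeal ((Z : Scheme.{u}).presheaf.stalk (y₀.1 (closedPoint k))) ^ 2 := by
    have h2 := Scheme.Hom.stalkMap_comp Z.ι v.1 (y₀.1 (closedPoint k))
    rw [h2] at ha2
    exact ha2
  exact mem_sq_of_ringEquiv ι' h1

/-- The curves in an open of the good locus sweep out an open. -/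
theorem isOpen_image_ev [Smooth q] [QuasiSeparated q] [LocallyOfFiniteType M.hom]
    (hM : IsUnivN (CohB1.ProjSpace.toSpec 1 k) q M v) (A : M.left.Opens) (hA : A ≤ goodOpen v) :
    IsOpen (v.1 '' (pullback.snd (CohB1.ProjSpace.toSpec 1 k) M.hom ⁻¹ᵁ A : Set _)) := by
  set Z := pullback.snd (CohB1.ProjSpace.toSpec 1 k) M.hom ⁻¹ᵁ A
  haveI := smooth_ev_good hM A hA
  have h := (Z.ι ≫ v.1).isOpenMap.isOpen_range
  rwa [show Set.range (Z.ι ≫ v.1) = v.1 '' (Z : Set _) from
    (Set.range_comp v.1 Z.ι).trans (congrArg (v.1 '' ·) Z.range_ι)] at h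

/-- The closed points swept out are swept out by rational points. -/
theorem exists_rational_of_mem [Smooth q] [QuasiSeparated q] [LocallyOfFiniteType M.hom]
    (A : M.left.Opens) {x : X} (hx : IsClosed ({x} : Set X))
    (hxA : x ∈ v.1 '' (pullback.snd (CohB1.ProjSpace.toSpec 1 k) M.hom ⁻¹ᵁ A : Set _)) :
    ∃ (mp : Spec (CommRingCat.of k) ⟶ M.left) (hmp : mp ≫ M.hom = 𝟙 _),
      mp (closedPoint k) ∈ A ∧ x ∈ Set.range (curveAt v mp hmp) := by
  haveI := ProjMor.isProper_toSpec 1 k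
  set pr₂ := pullback.snd (CohB1.ProjSpace.toSpec 1 k) M.hom
  haveI : LocallyOfFiniteType pr₂ := MorphismProperty.pullback_snd _ _ inferInstance
  let Z := pr₂ ⁻¹ᵁ A
  let qZ : (Z : Scheme.{u}) ⟶ Spec (CommRingCat.of k) := Z.ι ≫ pr₂ ≫ M.hom
  haveI : JacobsonSpace (Z : Scheme.{u}) := LocallyOfFiniteType.jacobsonSpace qZ
  obtain ⟨w, hw, hwx⟩ := hxA
  obtain ⟨y, hy, hyc⟩ := nonempty_inter_closedPoints (X := (Z : Scheme.{u})) (Z := (Z.ι ≫ v.1) ⁻¹' {x})
    ⟨⟨w, hw⟩, hwx⟩ (hx.preimage (Z.ι ≫ v.1).continuous).isLocallyClosed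
  let y₀ := (pointEquivClosedPoint qZ).symm ⟨y, hyc⟩
  have hy₀ : y₀.1 (closedPoint k) = y := congrArg Subtype.val ((pointEquivClosedPoint qZ).apply_symm_apply ⟨y, hyc⟩)
  let z := y₀.1 ≫ Z.ι
  have hz : z ≫ pr₂ ≫ M.hom = 𝟙 _ := (Category.assoc _ _ _).trans y₀.2
  refine ⟨z ≫ pr₂, (Category.assoc _ _ _).trans hz, (y₀.1 (closedPoint k)).2,
    (z ≫ pullback.fst _ _) (closedPoint k), ?_⟩
  have h1 : (z ≫ pullback.fst (CohB1.ProjSpace.toSpec 1 k) M.hom) ≫
      curveAt v (z ≫ pr₂) ((Category.assoc _ _ _).trans hz) = z ≫ v.1 := by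
    rw [curveAt, ← Category.assoc]
    refine congrArg (· ≫ v.1) ?_
    apply pullback.hom_ext
    · rw [Category.assoc, pullback.lift_fst, Category.comp_id]
    · rw [Category.assoc, pullback.lift_snd, ← Category.assoc, Category.assoc z, pullback.condition, hz,
        Category.id_comp]
  rw [← Scheme.Hom.comp_apply, h1]
  show v.1 (Z.ι (y₀.1 (closedPoint k))) = x
  rw [hy₀]
  exact hy

end Groth.Agent.FreeCurve
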