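import Groth.Agent.FreeCurve.FreeIff
import Groth.Agent.FreeCurve.MorP1
import Groth.Agent.ExtShX.Restrict
import Groth.Agent.ExtFund.CanonOpen
import Groth.Agent.SmDesc.Scheme
import Groth.Agent.SmoothRed.Scheme
import Mathlib

/-!
# Free curves in the smooth part of a variety
-/

set_option autoImplicit false
set_option linter.style.haveILetI false
set_option backward.isDefEq.respectTransparency false
set_option backward.isDefEq.respectTransparency.types false
set_option synthInstance.maxHeartbeats 400000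
set_option maxHeartbeats 1000000

universe u

open CategoryTheory CategoryTheory.Limits AlgebraicGeometry TopologicalSpace
open IsLocalRing (closedPoint)

noncomputable section

namespace Groth.Agent.FreeCurve

variable {k : Type u} [Field k] {X : Scheme.{u}}

/-- The dual commutes with restriction to an open. -/
theorem nonempty_dual_restrict (W : X.Opens) (F : X.Modules) :
    Nonempty ((Scheme.Modules.pullback W.ι).obj (RefHull.dual F) ≅ RefHull.dual ((Scheme.Modules.pullback W.ι).obj F)) := by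
  haveI := W7Hull.hasSheafHom_sch F
  haveI := W7Hull.hasSheafHom_sch ((Scheme.Modules.pullback W.ι).obj F)
  obtain ⟨e⟩ := ExtShX.nonempty_homRestrict W F
  exact ⟨(Scheme.Modules.pullback W.ι).mapIso (CycPB.dualIso F).symm ≪≫ e.app (Coh.structureModule X) ≪≫
    (DCoh.sheafHom _).mapIso (DerPerf.pullUnitIso W.ι) ≪≫ CycPB.dualIso _⟩

/-- Freeness only depends on a neighbourhood of the curve. -/
theorem isRFree_restrict_iff (q : X ⟶ Spec (CommRingCat.of k)) [QuasiSeparated q] (W : X.Opens)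
    [QuasiSeparated (W.ι ≫ q)] (g : CohB1.ProjSpace 1 k ⟶ W) (r : ℤ) :
    MorSch.IsRFree (W.ι ≫ q) g r ↔ MorSch.IsRFree q (g ≫ W.ι) r := by
  obtain ⟨c⟩ := ExtFund.nonempty_omega_etale W.ι q (W.ι ≫ q) rfl
  obtain ⟨d⟩ := nonempty_dual_restrict W (Omega.sheaf q)
  let i : (Scheme.Modules.pullback g).obj (RefHull.dual (Omega.sheaf (W.ι ≫ q))) ≅
      (Scheme.Modules.pullback (g ≫ W.ι)).obj (RefHull.dual (Omega.sheaf q)) :=
    (Scheme.Modules.pullback g).mapIso (RefFun.dualIso c.symm ≪≫ d.symm) ≪≫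
      (Scheme.Modules.pullbackComp g W.ι).app _
  exact ⟨gg_of_epi (PicGrp.tensorModIso i (Iso.refl _)).hom, gg_of_epi (PicGrp.tensorModIso i (Iso.refl _)).inv⟩

/-- Freeness only depends on a neighbourhood of the curve. -/
theorem isFree_restrict_iff (q : X ⟶ Spec (CommRingCat.of k)) [QuasiSeparated q] (W : X.Opens)
    [QuasiSeparated (W.ι ≫ q)] (g : CohB1.ProjSpace 1 k ⟶ W) :
    MorSch.IsFree (W.ι ≫ q) g ↔ MorSch.IsFree q (g ≫ W.ι) := by
  obtain ⟨c⟩ := ExtFund.nonempty_omega_etale W.ι q (W.ι ≫ q) rfl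
  obtain ⟨d⟩ := nonempty_dual_restrict W (Omega.sheaf q)
  let i : (Scheme.Modules.pullback g).obj (RefHull.dual (Omega.sheaf (W.ι ≫ q))) ≅
      (Scheme.Modules.pullback (g ≫ W.ι)).obj (RefHull.dual (Omega.sheaf q)) :=
    (Scheme.Modules.pullback g).mapIso (RefFun.dualIso c.symm ≪≫ d.symm) ≪≫
      (Scheme.Modules.pullbackComp g W.ι).app _
  exact ⟨gg_of_epi i.hom, gg_of_epi i.inv⟩

/-- The smooth part is quasi-projective and smooth. -/
theorem smoothPart (q : X ⟶ Spec (CommRingCat.of k)) [LocallyOfFinitePresentation q]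
    (hqp : ∃ (N : ℕ) (ι : X ⟶ CohB1.ProjSpace N k), IsImmersion ι ∧ ι ≫ CohB1.ProjSpace.toSpec N k = q) :
    Smooth (q.smoothLocus.ι ≫ q) ∧ IsSeparated (q.smoothLocus.ι ≫ q) ∧
      ∃ (N : ℕ) (ι : (q.smoothLocus : Scheme.{u}) ⟶ CohB1.ProjSpace N k), IsImmersion ι ∧ QuasiCompact ι ∧
        ι ≫ CohB1.ProjSpace.toSpec N k = q.smoothLocus.ι ≫ q := by
  obtain ⟨N, ι, hι, rfl⟩ := hqp
  haveI := hι
  haveI := ProjMor.isProper_toSpec N k
  haveI : IsLocallyNoetherian (CohB1.ProjSpace N k) :=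
    LocallyOfFiniteType.isLocallyNoetherian (CohB1.ProjSpace.toSpec N k)
  refine ⟨SmDesc.smooth_smoothLocus _, inferInstance, N, _, inferInstance, ?_, Category.assoc _ _ _⟩
  haveI : CompactSpace ↥(CohB1.ProjSpace N k) := QuasiCompact.compactSpace_of_compactSpace (CohB1.ProjSpace.toSpec N k)
  haveI : IsNoetherian (CohB1.ProjSpace N k) := { }
  let g := (ι ≫ CohB1.ProjSpace.toSpec N k).smoothLocus.ι ≫ ι
  haveI : IsImmersion g := inferInstanceAs (IsImmersion (_ ≫ ι))
  haveI := g.isEmbedding.isInducing.noetherianSpace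
  exact ⟨fun U _ _ => NoetherianSpace.isCompact _⟩

/-- An open containing a point contains an affine integral open, if the scheme is smooth over the field there. -/
theorem exists_var_open {M : Scheme.{u}} (h : M ⟶ Spec (CommRingCat.of k)) [LocallyOfFiniteType h] (A : M.Opens)
    [Smooth (A.ι ≫ h)] (hA : (A : Set M).Nonempty) :
    ∃ B : M.Opens, B ≤ A ∧ (B : Set M).Nonempty ∧ MorSch.IsVar k (B.ι ≫ h) := by
  obtain ⟨m, hm⟩ := hA
  haveI : IsLocallyNoetherian M := LocallyOfFiniteType.isLocallyNoetherian h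
  obtain ⟨W, hW, hmW, hWA⟩ := exists_isAffineOpen_mem_and_subset (X := M) (x := m) (U := A) hm
  haveI : IsAffine W := hW
  haveI : IsNoetherian (W : Scheme.{u}) := { }
  obtain ⟨Z, hZ⟩ : ∃ Z, Z ∈ irreducibleComponents ↥(W : Scheme.{u}) :=
    ⟨irreducibleComponent ⟨m, hmW⟩, irreducibleComponent_mem_irreducibleComponents _⟩
  obtain ⟨O, hO, hne, hOZ⟩ := NoetherianSpace.exists_isOpen_nonempty_subset_irreducibleComponent Z hZ
  obtain ⟨w, hw⟩ := hne
  obtain ⟨B₀, hB₀, hwB₀, hB₀O⟩ := exists_isAffineOpen_mem_and_subset (X := (W : Scheme.{u})) (x := w)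
    (U := ⟨O, hO⟩) hw
  let B : M.Opens := W.ι ''ᵁ B₀
  have hB : IsAffineOpen B := hB₀.image_of_isOpenImmersion W.ι
  haveI : IsAffine B := hB
  have hBA : B ≤ A := fun y hy => by
    obtain ⟨z, -, rfl⟩ := hy
    exact hWA z.2
  haveI : Smooth (B.ι ≫ h) := by
    rw [show B.ι ≫ h = M.homOfLE hBA ≫ A.ι ≫ h by rw [Scheme.homOfLE_ι_assoc]]
    infer_instance
  have hirr : IsIrreducible (W.ι '' (B₀ : Set ↥(W : Scheme.{u}))) := by
    refine IsIrreducible.image ⟨⟨w, hwB₀⟩, ?_⟩ _ W.ι.continuous.continuousOn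
    exact hZ.1.isPreirreducible.open_subset B₀.2 (Set.Subset.trans hB₀O hOZ)
  haveI : IrreducibleSpace ↥(B : Scheme.{u}) := Subtype.irreducibleSpace hirr
  haveI : IsReduced (B : Scheme.{u}) := SmoothRed.isReduced_of_smooth_scheme (B.ι ≫ h)
  haveI : IsIntegral (B : Scheme.{u}) := isIntegral_of_irreducibleSpace_of_isReduced _
  exact ⟨B, hBA, ⟨W.ι w, w, hwB₀, rfl⟩, inferInstance, inferInstance, inferInstance, inferInstance⟩

end Groth.Agent.FreeCurve
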