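import Groth.Agent.FreeCurve.GeomFree
import Groth.Agent.FreeCurve.SmoothEv
import Groth.Agent.FreeCurve.SmoothPart
import Groth.Agent.FreeCurve.MorP1
import Mathlib

/-!
# Open families of free or very free curves parametrised by a variety
-/

set_option autoImplicit false
set_option linter.style.haveILetI false
set_option backward.isDefEq.respectTransparency false
set_option backward.isDefEq.respectTransparency.types false
set_option synthInstance.maxHeartbeats 400000
set_option maxHeartbeats 1000000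

universe u

open CategoryTheory CategoryTheory.Limits AlgebraicGeometry TopologicalSpace
open IsLocalRing (closedPoint)

noncomputable section

namespace Groth.Agent.FreeCurve

variable {k : Type u} [Field k] {X : Scheme.{u}} {q : X ⟶ Spec (CommRingCat.of k)}
  {M : Over (Spec (CommRingCat.of k))} (v : MorSch.Obj (CohB1.ProjSpace.toSpec 1 k) q M)

/-- The chart of the fibre at a rational point. -/
theorem exists_eps (mp : Spec (CommRingCat.of k) ⟶ M.left) (hmp : mp ≫ M.hom = 𝟙 _) :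
    ∃ ε : CohB1.ProjSpace 1 k ≅ PicF.XT (CohB1.ProjSpace.toSpec 1 k) (Over.mk (mp ≫ M.hom)),
      ε.hom ≫ PicF.XTproj (CohB1.ProjSpace.toSpec 1 k) _ = CohB1.ProjSpace.toSpec 1 k ∧
      ε.hom ≫ (MorSch.pull (CohB1.ProjSpace.toSpec 1 k) q (Over.homMk mp rfl : Over.mk (mp ≫ M.hom) ⟶ M) v).1 =
        curveAt v mp hmp := by
  haveI : IsIso (Over.mk (mp ≫ M.hom)).hom := by
    show IsIso (mp ≫ M.hom)
    rw [hmp]; infer_instance
  let p := CohB1.ProjSpace.toSpec 1 k
  let T := Over.mk (mp ≫ M.hom)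
  have hsnd : pullback.snd p T.hom = pullback.fst p T.hom ≫ p :=
    ((pullback.condition (f := p) (g := T.hom)).trans
      ((congrArg (pullback.snd p T.hom ≫ ·) hmp).trans (Category.comp_id _))).symm
  let ε : CohB1.ProjSpace 1 k ≅ PicF.XT p T := (asIso (pullback.fst p T.hom)).symm
  have h1 : ε.hom ≫ pullback.fst p T.hom = 𝟙 _ := IsIso.inv_hom_id _
  have h2 : ε.hom ≫ pullback.snd p T.hom = p := by rw [hsnd, reassoc_of% h1]
  refine ⟨ε, h2, ?_⟩
  rw [MorSch.pull_val, curveAt, ← Category.assoc]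
  refine congrArg (· ≫ v.1) ?_
  apply pullback.hom_ext
  · rw [Category.assoc, MorSch.XTmap_fst, pullback.lift_fst]
    exact h1
  · rw [Category.assoc, pullback.lift_snd]
    refine (congrArg (ε.hom ≫ ·) (pullback.lift_snd _ _ _)).trans ?_
    rw [← Category.assoc]
    exact congrArg (· ≫ mp) h2

variable [IsAlgClosed k]

/-- The separated curves form an open. -/
theorem exists_sepOpen [IsSeparated q] :
    ∃ A : M.left.Opens, ∀ (mp : Spec (CommRingCat.of k) ⟶ M.left) (hmp : mp ≫ M.hom = 𝟙 _),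
      mp (closedPoint k) ∈ A ↔ Sep (curveAt v mp hmp) := by
  haveI := smooth_toSpec k
  obtain ⟨A, hA⟩ := exists_sep_open' v
  refine ⟨A, fun mp hmp => ?_⟩
  obtain ⟨ε, hε, hc⟩ := exists_eps v mp hmp
  rw [hA k mp ε hε, hc]

/-- The very free curves form an open. -/
theorem exists_vfOpen [Smooth q] [QuasiSeparated q] :
    ∃ A : M.left.Opens, ∀ (mp : Spec (CommRingCat.of k) ⟶ M.left) (hmp : mp ≫ M.hom = 𝟙 _),
      mp (closedPoint k) ∈ A ↔ Subsingleton (Coh.HH (CohB1.ProjSpace 1 k)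
        ((Scheme.Modules.pullback (curveAt v mp hmp)).obj (Omega.sheaf q)) 0) := by
  haveI := ProjMor.isProper_toSpec 1 k
  haveI := smooth_toSpec k
  obtain ⟨A, hA⟩ := exists_open_hh0 (p := CohB1.ProjSpace.toSpec 1 k) (AVOmega.isFinLocFree_omega q) v
  refine ⟨A, fun mp hmp => ?_⟩
  obtain ⟨ε, hε, hc⟩ := exists_eps v mp hmp
  rw [hA k mp ε hε, hc]

/-- A variety of good separated curves near a given one. -/
theorem exists_var_family [Smooth q] [IsSeparated q] [LocallyOfFiniteType M.hom]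
    (hM : IsUnivN (CohB1.ProjSpace.toSpec 1 k) q M v) (O : M.left.Opens)
    (mp : Spec (CommRingCat.of k) ⟶ M.left) (hmp : mp ≫ M.hom = 𝟙 _) (hO : mp (closedPoint k) ∈ O)
    (hgood : Good q (curveAt v mp hmp)) (hsep : Sep (curveAt v mp hmp)) :
    ∃ (B : M.left.Opens) (mb : Spec (CommRingCat.of k) ⟶ M.left) (hmb : mb ≫ M.hom = 𝟙 _),
      B ≤ O ∧ B ≤ goodOpen v ∧ MorSch.IsVar k (B.ι ≫ M.hom) ∧ Smooth (B.ι ≫ M.hom) ∧
      mb (closedPoint k) ∈ B ∧ Sep (curveAt v mb hmb) := by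
  obtain ⟨A, hA⟩ := exists_sepOpen v
  let A₀ := goodOpen v ⊓ A ⊓ O
  haveI : Smooth (A₀.ι ≫ M.hom) := by
    haveI := smooth_goodOpen hM
    rw [show A₀.ι ≫ M.hom = M.left.homOfLE (inf_le_left.trans inf_le_left) ≫ (goodOpen v).ι ≫ M.hom by
      rw [Scheme.homOfLE_ι_assoc]]
    infer_instance
  obtain ⟨B, hB, ⟨b, hb⟩, hvar⟩ := exists_var_open M.hom A₀
    ⟨_, ⟨(good_iff_rational mp hmp).1 hgood, (hA mp hmp).2 hsep⟩, hO⟩
  haveI : JacobsonSpace ↥M.left := LocallyOfFiniteType.jacobsonSpace M.hom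
  obtain ⟨c, hc, hcc⟩ := nonempty_inter_closedPoints (Z := (B : Set M.left)) ⟨b, hb⟩ B.2.isLocallyClosed
  let mb := (pointEquivClosedPoint M.hom).symm ⟨c, hcc⟩
  have hmb : mb.1 (closedPoint k) = c :=
    congrArg Subtype.val ((pointEquivClosedPoint M.hom).apply_symm_apply ⟨c, hcc⟩)
  have hsmB : Smooth (B.ι ≫ M.hom) := by
    rw [show B.ι ≫ M.hom = M.left.homOfLE hB ≫ A₀.ι ≫ M.hom by rw [Scheme.homOfLE_ι_assoc]]
    infer_instance
  refine ⟨B, mb.1, mb.2, hB.trans inf_le_right, hB.trans (inf_le_left.trans inf_le_left), hvar, hsmB,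
    by rw [hmb]; exact hc, (hA mb.1 mb.2).1 (by rw [hmb]; exact (hB hc).1.2)⟩

/-- The product of the line with an open of the parameter space is the preimage. -/
def prodOpenIso (B : M.left.Opens) :
    pullback (CohB1.ProjSpace.toSpec 1 k) (B.ι ≫ M.hom) ≅
      ((pullback.snd (CohB1.ProjSpace.toSpec 1 k) M.hom ⁻¹ᵁ B).toScheme) :=
  (((isPullback_morphismRestrict (pullback.snd (CohB1.ProjSpace.toSpec 1 k) M.hom) B).flip.paste_horiz
    (IsPullback.of_hasPullback (CohB1.ProjSpace.toSpec 1 k) M.hom)).isoPullback).symm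

theorem prodOpenIso_fst (B : M.left.Opens) :
    (prodOpenIso B).hom ≫ (pullback.snd (CohB1.ProjSpace.toSpec 1 k) M.hom ⁻¹ᵁ B).ι ≫
      pullback.fst _ _ = pullback.fst _ _ :=
  IsPullback.isoPullback_inv_fst _

theorem prodOpenIso_snd (B : M.left.Opens) :
    (prodOpenIso B).hom ≫ (pullback.snd (CohB1.ProjSpace.toSpec 1 k) M.hom ∣_ B) = pullback.snd _ _ :=
  IsPullback.isoPullback_inv_snd _

omit [IsAlgClosed k] in
/-- A curve in the smooth part, and separated points on it. -/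
theorem exists_lift_smooth [IsAlgClosed k] (pX : X ⟶ Spec (CommRingCat.of k)) [IsSeparated pX]
    [LocallyOfFinitePresentation pX] (f : CohB1.ProjSpace 1 k ⟶ X) (hf : f ≫ pX = CohB1.ProjSpace.toSpec 1 k)
    (hnc : ¬ ∃ x : X, Set.range f.base ⊆ {x}) (hsm : Set.range f.base ⊆ (pX.smoothLocus : Set X)) :
    ∃ f' : CohB1.ProjSpace 1 k ⟶ pX.smoothLocus,
      f' ≫ pX.smoothLocus.ι = f ∧ f' ≫ (pX.smoothLocus.ι ≫ pX) = CohB1.ProjSpace.toSpec 1 k ∧ Sep f' := by
  let f' := IsOpenImmersion.lift pX.smoothLocus.ι f (by rw [Scheme.Opens.range_ι]; exact hsm)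
  have h : f' ≫ pX.smoothLocus.ι = f := IsOpenImmersion.lift_fac _ _ _
  obtain ⟨t, t', ht, ht', hne⟩ := (sep_iff_nonconst f hf).2 hnc
  exact ⟨f', h, by rw [reassoc_of% h, hf], t, t', ht, ht', fun he => hne (by rw [← h, reassoc_of% he])⟩

end Groth.Agent.FreeCurve
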