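import Groth.Agent.FreeCurve.PairTan
import Groth.Agent.FreeCurve.CurveFamily
import Mathlib

/-!
# The two point evaluation is smooth along very free curves
-/

set_option autoImplicit false
set_option linter.style.haveILetI false
set_option backward.isDefEq.respectTransparency false
set_option backward.isDefEq.respectTransparency.types false
set_option synthInstance.maxHeartbeats 400000
set_option maxHeartbeats 1000000

universe u

open CategoryTheory CategoryTheory.Limits AlgebraicGeometry TopologicalSpace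
open IsLocalRing (closedPoint maximalIdeal)

noncomputable section

namespace Groth.Agent.FreeCurve

open Groth.Agent.P1Split (O U)

variable {k : Type u} [Field k]

/-- There are two rational points on the first chart of the line. -/
theorem exists_two_points_chart :
    ∃ t t' : Spec (CommRingCat.of k) ⟶ CohB1.ProjSpace 1 k, t ≫ CohB1.ProjSpace.toSpec 1 k = 𝟙 _ ∧
      t' ≫ CohB1.ProjSpace.toSpec 1 k = 𝟙 _ ∧ t ≠ t' ∧ ⊤ ≤ t ⁻¹ᵁ U k 0 ∧ ⊤ ≤ t' ⁻¹ᵁ U k 0 := by
  obtain ⟨e, he⟩ := CurveP1.exists_chart k 0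
  let κ : k →+* Γ(Spec (CommRingCat.of k), ⊤) := (Scheme.ΓSpecIso (CommRingCat.of k)).inv.hom
  let ψ : k → (Γ(CohB1.ProjSpace 1 k, U k 0) →+* Γ(Spec (CommRingCat.of k), ⊤)) := fun c =>
    κ.comp ((Polynomial.evalRingHom c).comp e.toRingHom)
  have hpt : ∀ c, ∃ (r : Spec (CommRingCat.of k) ⟶ CohB1.ProjSpace 1 k) (h : ⊤ ≤ r ⁻¹ᵁ U k 0),
      r ≫ CohB1.ProjSpace.toSpec 1 k = 𝟙 _ ∧ ∀ f, r.appLE (U k 0) ⊤ h f = ψ c f := fun c => by
    obtain ⟨r, h, hr⟩ := ProjMor.exists_hom_of_ringHom (X := Spec (CommRingCat.of k)) (U k 0)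
      (P1Split.isAffine_U 0) (ψ c)
    refine ⟨r, h, ProjMor.ext_toSpec fun a => ?_, fun f => DFunLike.congr_fun hr f⟩
    have h1 := ProjMor.ev_deh_algebraMap (CohB1.polyGrading 1 k) r
      (q := r ≫ CohB1.ProjSpace.toSpec 1 k) rfl (CurveP1.X_mem k 0) h a
    rw [Groth.Agent.QC.resO_self] at h1
    refine h1.symm.trans ((DFunLike.congr_fun hr _).trans ?_)
    show κ (Polynomial.eval c (e (GrT.deh _ (CurveP1.X_mem k 0) (algebraMap k (MvPolynomial (Fin 2) k) a)))) = _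
    rw [he, Polynomial.eval_C]
    rfl
  obtain ⟨t, h, ht, hf⟩ := hpt 0
  obtain ⟨t', h', ht', hf'⟩ := hpt 1
  refine ⟨t, t', ht, ht', fun hne => ?_, h, h'⟩
  subst hne
  have h2 := (hf (e.symm Polynomial.X)).symm.trans (hf' (e.symm Polynomial.X))
  have h3 : κ (Polynomial.eval 0 (e (e.symm Polynomial.X))) = κ (Polynomial.eval 1 (e (e.symm Polynomial.X))) := h2
  rw [RingEquiv.apply_symm_apply, Polynomial.eval_X, Polynomial.eval_X] at h3
  exact zero_ne_one (κ.injective h3)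

variable {X : Scheme.{u}} {q : X ⟶ Spec (CommRingCat.of k)} {M : Over (Spec (CommRingCat.of k))}

local notation "pr₂" => pullback.snd (CohB1.ProjSpace.toSpec 1 k) M.hom
local notation "pr₁" => pullback.fst (CohB1.ProjSpace.toSpec 1 k) M.hom

theorem isClosed_range_diag :
    IsClosed (Set.range (pullback.diagonal pr₂)) := by
  haveI := ProjMor.isProper_toSpec 1 k
  haveI : IsSeparated pr₂ := MorphismProperty.pullback_snd _ _ inferInstance
  exact (pullback.diagonal pr₂).isClosedEmbedding.isClosed_range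

/-- The pairs of distinct points in the first chart on the curves of an open family. -/
def pairOpen (A : M.left.Opens) : (pairSpace k M).Opens :=
  ((pullback.fst pr₂ pr₂ ≫ pr₂) ⁻¹ᵁ A ⊓
    ((pullback.fst pr₂ pr₂ ≫ pr₁) ⁻¹ᵁ U k 0 ⊓ (pullback.snd pr₂ pr₂ ≫ pr₁) ⁻¹ᵁ U k 0)) ⊓
    ⟨(Set.range (pullback.diagonal pr₂))ᶜ, isClosed_range_diag.isOpen_compl⟩

theorem ne_of_mem_pairOpen {A : M.left.Opens} (z : Spec (CommRingCat.of k) ⟶ pairSpace k M)
    (hz : z (closedPoint k) ∈ pairOpen A) :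
    z ≫ pullback.fst _ _ ≫ pr₁ ≠ z ≫ pullback.snd _ _ ≫ pr₁ := fun he => hz.2 (by
  have h1 : z ≫ pullback.fst pr₂ pr₂ = z ≫ pullback.snd pr₂ pr₂ := by
    apply pullback.hom_ext
    · simpa only [Category.assoc] using he
    · simp only [Category.assoc, pullback.condition]
  have h2 : z = (z ≫ pullback.fst pr₂ pr₂) ≫ pullback.diagonal pr₂ := by
    apply pullback.hom_ext
    · simp
    · simp [h1]
  exact ⟨(z ≫ pullback.fst pr₂ pr₂) (closedPoint k), by rw [← Scheme.Hom.comp_apply, ← h2]⟩)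

theorem le_preimage_of_mem {Z : Scheme.{u}} (z : Spec (CommRingCat.of k) ⟶ Z) {W : Z.Opens} (h : z (closedPoint k) ∈ W) :
    ⊤ ≤ z ⁻¹ᵁ W := fun y _ => by
  obtain rfl : y = closedPoint k := Subsingleton.elim (α := PrimeSpectrum k) _ _
  exact h

/-- Two points on a curve of the family give a point of the open of pairs. -/
theorem exists_pairPoint [IsAlgClosed k] [LocallyOfFiniteType M.hom] (A : M.left.Opens)
    (mp : Spec (CommRingCat.of k) ⟶ M.left) (hmp : mp ≫ M.hom = 𝟙 _) (hA : mp (closedPoint k) ∈ A)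
    (t t' : Spec (CommRingCat.of k) ⟶ CohB1.ProjSpace 1 k) (ht : t ≫ CohB1.ProjSpace.toSpec 1 k = 𝟙 _)
    (ht' : t' ≫ CohB1.ProjSpace.toSpec 1 k = 𝟙 _) (hne : t ≠ t') (h0 : ⊤ ≤ t ⁻¹ᵁ U k 0) (h0' : ⊤ ≤ t' ⁻¹ᵁ U k 0) :
    ∃ z : Spec (CommRingCat.of k) ⟶ pairSpace k M, z (closedPoint k) ∈ pairOpen A ∧
      z ≫ pullback.fst _ _ ≫ pr₂ = mp ∧ z ≫ pullback.fst _ _ ≫ pr₁ = t ∧ z ≫ pullback.snd _ _ ≫ pr₁ = t' := by
  let a := pullback.lift (f := CohB1.ProjSpace.toSpec 1 k) (g := M.hom) t mp (by rw [ht, hmp])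
  let b := pullback.lift (f := CohB1.ProjSpace.toSpec 1 k) (g := M.hom) t' mp (by rw [ht', hmp])
  have hab : a ≫ pr₂ = b ≫ pr₂ := (pullback.lift_snd _ _ _).trans (pullback.lift_snd _ _ _).symm
  refine ⟨pullback.lift a b hab, ⟨⟨?_, ?_, ?_⟩, ?_⟩, by simp [a], by simp [a], by simp [b]⟩
  · show (pullback.lift a b hab ≫ pullback.fst pr₂ pr₂ ≫ pr₂) (closedPoint k) ∈ A
    simpa [a] using hA
  · show (pullback.lift a b hab ≫ pullback.fst pr₂ pr₂ ≫ pr₁) (closedPoint k) ∈ U k 0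
    simpa [a] using h0 (Set.mem_univ (closedPoint k))
  · show (pullback.lift a b hab ≫ pullback.snd pr₂ pr₂ ≫ pr₁) (closedPoint k) ∈ U k 0
    simpa [b] using h0' (Set.mem_univ (closedPoint k))
  · rintro ⟨w, hw⟩
    haveI := ProjMor.isProper_toSpec 1 k
    haveI : IsSeparated pr₂ := MorphismProperty.pullback_snd _ _ inferInstance
    haveI : LocallyOfFiniteType pr₂ := MorphismProperty.pullback_snd _ _ inferInstance
    haveI : LocallyOfFiniteType (pullback.fst pr₂ pr₂) := MorphismProperty.pullback_fst _ _ inferInstance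
    refine hne ?_
    have h3 : pullback.lift a b hab = a ≫ pullback.diagonal pr₂ := by
      refine ext_of_apply_closedPoint_eq (pullback.fst pr₂ pr₂ ≫ pr₂ ≫ M.hom) ?_ ?_ ?_
      · simp [a, hmp]
      · simp [a, hmp]
      · have h4 : a (closedPoint k) = w := by
          have h5 := congrArg (pullback.fst pr₂ pr₂) hw
          rw [← Scheme.Hom.comp_apply, ← Scheme.Hom.comp_apply, pullback.diagonal_fst, pullback.lift_fst] at h5
          exact h5.symm
        rw [Scheme.Hom.comp_apply, h4, hw]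
    have h6 := congrArg (· ≫ pullback.snd pr₂ pr₂ ≫ pr₁) h3
    simpa [a, b] using h6.symm

variable [IsAlgClosed k] {v : MorSch.Obj (CohB1.ProjSpace.toSpec 1 k) q M}

/-- Two point evaluation is smooth at distinct points of very free curves. -/
theorem smooth_ev₂ [Smooth q] [IsSeparated q] [LocallyOfFiniteType M.hom]
    (hM : IsUnivN (CohB1.ProjSpace.toSpec 1 k) q M v) (A : M.left.Opens) (hA : A ≤ goodOpen v)
    (hvf : ∀ (mp : Spec (CommRingCat.of k) ⟶ M.left) (hmp : mp ≫ M.hom = 𝟙 _), mp (closedPoint k) ∈ A →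
      Subsingleton (Coh.HH (CohB1.ProjSpace 1 k) ((Scheme.Modules.pullback (curveAt v mp hmp)).obj (Omega.sheaf q)) 0)) :
    Smooth ((pairOpen A).ι ≫ ev₂ v) := by
  haveI := ProjMor.isProper_toSpec 1 k
  haveI := smooth_toSpec k
  haveI : Smooth pr₂ := MorphismProperty.pullback_snd _ _ ‹Smooth (CohB1.ProjSpace.toSpec 1 k)›
  haveI : Smooth (A.ι ≫ M.hom) := by
    haveI := smooth_goodOpen hM
    rw [show A.ι ≫ M.hom = M.left.homOfLE hA ≫ (goodOpen v).ι ≫ M.hom by rw [Scheme.homOfLE_ι_assoc]]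
    infer_instance
  let f₂ := pullback.fst pr₂ pr₂ ≫ pr₂
  haveI : Smooth (pullback.fst pr₂ pr₂) := MorphismProperty.pullback_fst _ _ ‹Smooth pr₂›
  haveI : Smooth f₂ := inferInstanceAs (Smooth (_ ≫ _))
  let Z := pairOpen (k := k) A
  have hZA : Z ≤ f₂ ⁻¹ᵁ A := inf_le_left.trans inf_le_left
  let qZ : (Z : Scheme.{u}) ⟶ Spec (CommRingCat.of k) := Z.ι ≫ f₂ ≫ M.hom
  haveI : Smooth qZ := by
    show Smooth (Z.ι ≫ f₂ ≫ M.hom)
    rw [show Z.ι ≫ f₂ ≫ M.hom = (pairSpace k M).homOfLE hZA ≫ (f₂ ∣_ A) ≫ A.ι ≫ M.hom by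
      rw [morphismRestrict_ι_assoc, Scheme.homOfLE_ι_assoc]]
    haveI : Smooth (f₂ ∣_ A) := IsZariskiLocalAtTarget.restrict ‹Smooth f₂› A
    infer_instance
  let q₂ : pullback q q ⟶ Spec (CommRingCat.of k) := pullback.fst q q ≫ q
  haveI : Smooth (pullback.fst q q) := MorphismProperty.pullback_fst _ _ ‹Smooth q›
  haveI : Smooth q₂ := inferInstanceAs (Smooth (_ ≫ _))
  let w := Z.ι ≫ ev₂ v
  have hw : w ≫ q₂ = qZ := by
    show (Z.ι ≫ ev₂ v) ≫ pullback.fst q q ≫ q = _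
    rw [Category.assoc, ← Category.assoc (ev₂ v), ev₂_fst, Category.assoc, v.2, pullback.condition]
    rfl
  haveI : JacobsonSpace (Z : Scheme.{u}) := LocallyOfFiniteType.jacobsonSpace qZ
  haveI : LocallyOfFiniteType (w ≫ q₂) := by rw [hw]; infer_instance
  haveI : LocallyOfFiniteType w := locallyOfFiniteType_of_comp w q₂
  haveI : IsLocallyNoetherian (pullback q q) := LocallyOfFiniteType.isLocallyNoetherian q₂
  haveI : LocallyOfFinitePresentation w := LocallyOfFinitePresentation.iff_locallyOfFiniteType.2 inferInstance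
  refine Scheme.Hom.smoothLocus_eq_top_iff.1 ?_
  by_contra hne
  obtain ⟨y, hy, hyc⟩ := nonempty_inter_closedPoints (X := (Z : Scheme.{u})) (Z := ((w.smoothLocus : Set _))ᶜ)
    (Set.nonempty_compl.2 fun h' => hne (Opens.ext h')) w.smoothLocus.2.isClosed_compl.isLocallyClosed
  refine hy (Scheme.Hom.mem_smoothLocus.2 ((SmDiff.formallySmooth_stalkMap_iff_injective qZ q₂ w hw hyc).2 ?_))
  rw [SmDiff.cotangentMapAt_injective_iff]
  intro a ha ha2
  let y₀ := (pointEquivClosedPoint qZ).symm ⟨y, hyc⟩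
  have hy₀ : y₀.1 (closedPoint k) = y := congrArg Subtype.val ((pointEquivClosedPoint qZ).apply_symm_apply ⟨y, hyc⟩)
  clear_value y₀
  subst hy₀
  let z := y₀.1 ≫ Z.ι
  have hz : (z ≫ pullback.fst pr₂ pr₂ ≫ pr₂) ≫ M.hom = 𝟙 _ := by
    refine Eq.trans ?_ y₀.2
    simp only [z, qZ, f₂, Category.assoc]
  have hmem : z (closedPoint k) ∈ Z := (y₀.1 (closedPoint k)).2
  obtain ⟨n, d, hd, ⟨e⟩⟩ := exists_split_neg
    (SGA6Ext.isFinLocFree_pullback (curveAt v (z ≫ pullback.fst pr₂ pr₂ ≫ pr₂) hz)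
      (AVOmega.isFinLocFree_omega q)) (hvf _ hz hmem.1.1)
  refine mem_sq_pair hM z hz hd e (ne_of_mem_pairOpen z hmem)
    (le_preimage_of_mem _ hmem.1.2.1) (le_preimage_of_mem _ hmem.1.2.2) ha ?_
  haveI : IsIso (Z.ι.stalkMap (y₀.1 (closedPoint k))) := inferInstance
  let ι' := (asIso (Z.ι.stalkMap (y₀.1 (closedPoint k)))).commRingCatIsoToRingEquiv
  have h1 : ι' ((ev₂ v).stalkMap (Z.ι (y₀.1 (closedPoint k))) a) ∈
      maximalIdeal ((Z : Scheme.{u}).presheaf.stalk (y₀.1 (closedPoint k))) ^ 2 := by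
    have h2 := Scheme.Hom.stalkMap_comp Z.ι (ev₂ v) (y₀.1 (closedPoint k))
    rw [h2] at ha2
    exact ha2
  exact mem_sq_of_ringEquiv ι' h1

end Groth.Agent.FreeCurve
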