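import Groth.Agent.FreeCurve.EvTan
import Groth.Agent.FreeCurve.FreeIff
import Groth.Agent.FreeCurve.SmoothEv
import Groth.Agent.PnEuler.Split
import Groth.Agent.SmDiff.Closed
import Groth.Agent.RefStalk.Generic
import Mathlib

/-!
# A family of curves whose evaluation is injective on cotangent spaces consists of free curves
-/

set_option autoImplicit false
set_option linter.style.haveILetI false
set_option backward.isDefEq.respectTransparency false
set_option backward.isDefEq.respectTransparency.types false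
set_option synthInstance.maxHeartbeats 400000
set_option maxHeartbeats 1000000

universe u

open CategoryTheory CategoryTheory.Limits AlgebraicGeometry TopologicalSpace Opposite
open Groth.Agent.QC (resO res app_res res_res)
open Groth.Agent.ExpSeq (Xε sect dnMap dnPoint)
open Groth.Agent.HomTan (IsLift IsTan val pb em)
open Groth.Agent.SGA6Ext (Sec)
open Groth.Agent.WeakAssLib (mgerm mgerm_res)
open IsLocalRing (closedPoint maximalIdeal)

noncomputable section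

namespace Groth.Agent.FreeCurve

open Groth.Agent.P1Split (O U)

variable {k : Type u} [Field k]

local instance : (Spec (CommRingCat.of k)).Over (Spec (CommRingCat.of k)) := ⟨𝟙 _⟩
local instance : (CohB1.ProjSpace 1 k).Over (Spec (CommRingCat.of k)) := ⟨CohB1.ProjSpace.toSpec 1 k⟩

/-- A function vanishing at a rational point lies in the maximal ideal. -/
theorem mem_maximal_of_appLE {Z : Scheme.{u}} (zs : Spec (CommRingCat.of k) ⟶ Z) {W : Z.Opens}
    (hW : zs (closedPoint k) ∈ W) (e : ⊤ ≤ zs ⁻¹ᵁ W) (r : Γ(Z, W)) (hr : zs.appLE W ⊤ e r = 0) :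
    Z.presheaf.germ W _ hW r ∈ maximalIdeal (Z.presheaf.stalk (zs (closedPoint k))) := by
  rw [IsLocalRing.mem_maximalIdeal]
  intro hu
  have h1 := hu.map (zs.stalkMap (closedPoint k)).hom
  have h2 : zs.stalkMap (closedPoint k) (Z.presheaf.germ W _ hW r) =
      (Spec (CommRingCat.of k)).presheaf.germ ⊤ (closedPoint k) trivial (zs.appLE W ⊤ e r) := by
    rw [Scheme.Hom.germ_stalkMap_apply]
    exact (TopCat.Presheaf.germ_res_apply _ (homOfLE e) (closedPoint k) trivial (zs.app W r)).symm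
  rw [hr, map_zero] at h2
  exact not_isUnit_zero (h2 ▸ h1)

/-- Positive twists have no maps to the structure sheaf. -/
theorem hom_pos_eq_zero {d : ℤ} (hd : 0 < d) (c : O k d ⟶ Coh.structureModule (CohB1.ProjSpace 1 k)) : c = 0 := by
  obtain ⟨t⟩ := RegCx.twist_twist (k := k) (n := 1) (-d) d 0 (neg_add_cancel d)
  obtain ⟨w⟩ := PnHodge.nonempty_twist_zero_iso (n := 1) (A := k)
  refine P1Split.hom_ext_gen (t ≪≫ w) (CohFinite.isInvertible_twist 1 k (-d)) c 0 ?_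
  have h0 : ∀ z : Γ(CohB1.tensorMod (Coh.structureModule (CohB1.ProjSpace 1 k)) (O k (-d)), ⊤), z = 0 := fun z =>
    P1Split.zero_of_hh0 k (CohQC.hh_subsingleton_of_iso (TMul.leftUnitIso _).symm _
      (subsingleton_twist_neg (k := k) (d := -d) (by omega))) z
  exact (h0 _).trans (h0 _).symm

variable {X : Scheme.{u}}

/-- On a curve with a positive summand some function has a differential killed by all deformations. -/
theorem exists_covector (q : X ⟶ Spec (CommRingCat.of k)) [Smooth q] [QuasiSeparated q]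
    (f : CohB1.ProjSpace 1 k ⟶ X) {n : ℕ} {d : Fin n → ℤ}
    (e : (Scheme.Modules.pullback f).obj (Omega.sheaf q) ≅ ∐ fun i : Fin n => O k (d i)) {j : Fin n} (hj : 0 < d j)
    (t : Spec (CommRingCat.of k) ⟶ CohB1.ProjSpace 1 k) (hxs : (t ≫ f) ≫ q = 𝟙 _) :
    ∃ (V : X.affineOpens) (hxV : (t ≫ f) (closedPoint k) ∈ V.1) (e₀ : ⊤ ≤ t ⁻¹ᵁ (f ⁻¹ᵁ V.1)) (s : Γ(X, V.1)),
      (t ≫ f).appLE V.1 ⊤ e₀ s = 0 ∧
      X.presheaf.germ V.1 _ hxV s ∉ maximalIdeal (X.presheaf.stalk ((t ≫ f) (closedPoint k))) ^ 2 ∧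
      ∀ α : Omega.sheaf q ⟶ (Scheme.Modules.pushforward f).obj (Coh.structureModule (CohB1.ProjSpace 1 k)),
        t.appLE (f ⁻¹ᵁ V.1) ⊤ e₀ (α.app V.1 (OmegaSh.dSect q V.1 s)) = 0 := by
  classical
  obtain ⟨U₀, m, fr, hxU₀, hfr⟩ := TMul.exists_isFrame (AVOmega.isFinLocFree_omega q) ((t ≫ f) (closedPoint k))
  obtain ⟨V, hV, hxV, hle⟩ := exists_isAffineOpen_mem_and_subset (X := X) (x := (t ≫ f) (closedPoint k)) (U := U₀)
    hxU₀
  have hfrV := W7Strat.isFrame_res hfr hle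
  let frV : Fin m → Γ(Omega.sheaf q, V) := fun l => res (Omega.sheaf q) hle (fr l)
  obtain ⟨G₀, gen, hG₀, hgen⟩ := TMul.exists_isGen (CohFinite.isInvertible_twist 1 k (d j)) (t (closedPoint k))
  let W := f ⁻¹ᵁ V ⊓ G₀
  have hW : ⊤ ≤ t ⁻¹ᵁ W := fun y _ => by
    obtain rfl : y = closedPoint k := Subsingleton.elim (α := PrimeSpectrum k) _ _
    exact ⟨hxV, hG₀⟩
  have e₀ : ⊤ ≤ t ⁻¹ᵁ (f ⁻¹ᵁ V) := fun y hy => (hW hy).1
  let χ : Γ(CohB1.ProjSpace 1 k, W) →+* Γ(Spec (CommRingCat.of k), ⊤) := (t.appLE W ⊤ hW).hom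
  have hχ : ∀ r : Γ(CohB1.ProjSpace 1 k, f ⁻¹ᵁ V),
      χ (resO (CohB1.ProjSpace 1 k) (inf_le_left : W ≤ f ⁻¹ᵁ V) r) = t.appLE _ ⊤ e₀ r := fun r =>
    ConcreteCategory.congr_hom (t.map_appLE hW (homOfLE (inf_le_left : W ≤ f ⁻¹ᵁ V)).op) r
  have he' := hfrV.pullback f
  let adj := Scheme.Modules.pullbackPushforwardAdjunction f
  let E := (Scheme.Modules.pullback f).obj (Omega.sheaf q)
  let gW : Γ(O k (d j), W) := res (O k (d j)) (inf_le_right : W ≤ G₀) gen
  let ιj : O k (d j) ⟶ E := Sigma.ι (fun i : Fin n => O k (d i)) j ≫ e.inv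
  let c : Fin m → Γ(CohB1.ProjSpace 1 k, W) := (he'.equiv (inf_le_left : W ≤ f ⁻¹ᵁ V)).symm (ιj.app W gW)
  have hvc : (∑ l, c l • res E (inf_le_left : W ≤ f ⁻¹ᵁ V) ((adj.unit.app (Omega.sheaf q)).app V (frV l))) =
      ιj.app W gW :=
    LinearEquiv.apply_symm_apply (he'.equiv (inf_le_left : W ≤ f ⁻¹ᵁ V)) _
  -- all deformations kill this direction
  have hform : ∀ α : Omega.sheaf q ⟶ (Scheme.Modules.pushforward f).obj (Coh.structureModule (CohB1.ProjSpace 1 k)),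
      ∑ l, χ (c l) * t.appLE _ ⊤ e₀ (α.app V (frV l)) = 0 := fun α => by
    let ψ := (adj.homEquiv _ _).symm α
    have hα : α = adj.unit.app _ ≫ (Scheme.Modules.pushforward f).map ψ :=
      ((adj.homEquiv _ _).apply_symm_apply α).symm.trans (adj.homEquiv_unit _ _ _)
    have hv : ψ.app W (ιj.app W gW) = 0 := by
      show (ιj ≫ ψ).app W gW = 0
      rw [hom_pos_eq_zero hj (ιj ≫ ψ)]
      rfl
    rw [← hvc, map_sum] at hv
    have h1 := congrArg χ hv
    rw [map_zero, map_sum] at h1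
    refine Eq.trans (Finset.sum_congr rfl fun l _ => ?_) h1
    rw [Scheme.Modules.Hom.app_smul, ← app_res ψ, hα]
    show _ = χ (c l * resO (CohB1.ProjSpace 1 k) (inf_le_left : W ≤ f ⁻¹ᵁ V)
      (ψ.app (f ⁻¹ᵁ V) ((adj.unit.app (Omega.sheaf q)).app V (frV l))))
    rw [map_mul, hχ]
    rfl
  -- the direction is not zero
  obtain ⟨l₀, hl₀⟩ : ∃ l, χ (c l) ≠ 0 := by
    by_contra hall
    push Not at hall
    obtain ⟨π, h1, -, -⟩ := P1Split.exists_proj fun i : Fin n => O k (d i)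
    choose r hr using fun l => (hgen W inf_le_right).2 ((e.hom ≫ π j).app W
      (res E (inf_le_left : W ≤ f ⁻¹ᵁ V) ((adj.unit.app (Omega.sheaf q)).app V (frV l))))
    have hg : (e.hom ≫ π j).app W (ιj.app W gW) = gW := by
      show (ιj ≫ e.hom ≫ π j).app W gW = gW
      rw [show ιj ≫ e.hom ≫ π j = 𝟙 _ by simp only [ιj, Category.assoc, Iso.inv_hom_id_assoc]; exact h1 j]
      rfl
    rw [← hvc, map_sum] at hg
    have hone : (∑ l, c l * r l) = 1 := by
      refine (hgen W inf_le_right).1 ?_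
      show (∑ l, c l * r l) • gW = (1 : Γ(CohB1.ProjSpace 1 k, W)) • gW
      rw [one_smul, Finset.sum_smul]
      refine Eq.trans (Finset.sum_congr rfl fun l _ => ?_) hg
      rw [Scheme.Modules.Hom.app_smul, mul_smul]
      exact congrArg (c l • ·) (hr l)
    have h01 := congrArg χ hone
    rw [map_sum, map_one, Finset.sum_eq_zero fun l _ => by rw [map_mul, hall l, zero_mul]] at h01
    exact zero_ne_one h01
  -- a function with this differential
  let xv : Γ(X, V) →+* Γ(Spec (CommRingCat.of k), ⊤) := ((t ≫ f).appLE V ⊤ e₀).hom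
  have hev : ∀ r : Γ(X, V), t.appLE _ ⊤ e₀ (f.app V r) = xv r := fun r => by
    show (f.app V ≫ t.appLE _ ⊤ e₀) r = _
    rw [Scheme.Hom.app_eq_appLE, Scheme.Hom.appLE_comp_appLE]
  let σ : Γ(Spec (CommRingCat.of k), ⊤) →+* Γ(X, V) := (q.appLE ⊤ V le_top).hom
  have hσ : ∀ a, xv (σ a) = a := fun a => by
    show (q.appLE ⊤ V le_top ≫ (t ≫ f).appLE V ⊤ e₀) a = a
    rw [Scheme.Hom.appLE_comp_appLE]
    have key : ∀ (g : Spec (CommRingCat.of k) ⟶ Spec (CommRingCat.of k)) (e : ⊤ ≤ g ⁻¹ᵁ ⊤), g = 𝟙 _ →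
        g.appLE ⊤ ⊤ e a = a := by
      rintro g e rfl
      simp [Scheme.Hom.appLE]
    exact key _ _ hxs
  have hdσ : ∀ a, OmegaSh.dSect q V (σ a) = 0 := fun a => OmAff.dSect_appLE q ⊤ V le_top a
  let co := (hfrV.equiv (le_refl V)).symm
  have hd : ∀ ω : Γ(Omega.sheaf q, V), ∃ s, xv s = 0 ∧ ∀ l, xv (co (OmegaSh.dSect q V s) l) = xv (co ω l) :=
    fun ω => by
    have hω : ω ∈ Submodule.span Γ(X, V) (Set.range fun a => OmegaSh.dSect q V a) := by
      rw [DefLift.span_dSect q ⟨V, hV⟩]; trivial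
    induction hω using Submodule.span_induction with
    | mem y hy =>
      obtain ⟨a, rfl⟩ := hy
      refine ⟨a + σ (-xv a), by rw [map_add, hσ, add_neg_cancel], fun l => ?_⟩
      rw [OmegaSh.dSect_add, hdσ, add_zero]
    | zero => exact ⟨0, map_zero _, fun l => by
        rw [show OmegaSh.dSect q V (0 : Γ(X, V)) = 0 by rw [← map_zero σ]; exact hdσ 0]⟩
    | add y z _ _ hy hz =>
      obtain ⟨a, ha, ha'⟩ := hy
      obtain ⟨b, hb, hb'⟩ := hz
      refine ⟨a + b, by rw [map_add, ha, hb, add_zero], fun l => ?_⟩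
      rw [OmegaSh.dSect_add, map_add, map_add, Pi.add_apply, Pi.add_apply, map_add, map_add, ha', hb']
    | smul r y _ hy =>
      obtain ⟨a, ha, ha'⟩ := hy
      refine ⟨σ (xv r) * a, by rw [map_mul, ha, mul_zero], fun l => ?_⟩
      rw [OmegaSh.dSect_mul, hdσ, smul_zero, add_zero, map_smul, map_smul, Pi.smul_apply, Pi.smul_apply,
        smul_eq_mul, smul_eq_mul, map_mul, map_mul, hσ, ha']
  obtain ⟨s, hs0, hs⟩ := hd (∑ l, σ (χ (c l)) • frV l)
  have hcoord : ∀ l, xv (co (OmegaSh.dSect q V s) l) = χ (c l) := fun l => by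
    rw [hs l, show co (∑ l, σ (χ (c l)) • frV l) = fun l => σ (χ (c l)) from
      (LinearEquiv.symm_apply_eq _).2 (Finset.sum_congr rfl fun i _ => by
        rw [Groth.Agent.QC.res_self])]
    exact hσ _
  have hds : (∑ l, co (OmegaSh.dSect q V s) l • frV l) = OmegaSh.dSect q V s := by
    refine Eq.trans ?_ (LinearEquiv.apply_symm_apply (hfrV.equiv (le_refl V)) _)
    exact Finset.sum_congr rfl fun i _ => by rw [Groth.Agent.QC.res_self]
  refine ⟨⟨V, hV⟩, hxV, e₀, s, hs0, fun hs2 => hl₀ ?_, fun α => ?_⟩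
  swap
  · rw [← hds, map_sum, map_sum]
    refine Eq.trans (Finset.sum_congr rfl fun l _ => ?_) (hform α)
    rw [Scheme.Modules.Hom.app_smul]
    show t.appLE _ ⊤ e₀ (f.app V (co (OmegaSh.dSect q V s) l) *
      (show Γ(CohB1.ProjSpace 1 k, f ⁻¹ᵁ V) from α.app V (frV l))) = _
    rw [map_mul, hev, hcoord]
  -- a coordinate of the differential is a tangent vector
  let xs := t ≫ f
  have fr0 := hfrV.pullback xs
  have e₁ : ⊤ ≤ xs ⁻¹ᵁ V := e₀
  let adj₀ := Scheme.Modules.pullbackPushforwardAdjunction xs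
  let g : Γ(RefHull.dual ((Scheme.Modules.pullback xs).obj (Omega.sheaf q)), ⊤) :=
    res _ e₁ (ResDesc.coord fr0 l₀)
  obtain ⟨b, hb⟩ := RefStalk.exists_hom g
  let β : Omega.sheaf q ⟶ (Scheme.Modules.pushforward xs).obj (Coh.structureModule (Spec (CommRingCat.of k))) :=
    adj₀.unit.app (Omega.sheaf q) ≫ (Scheme.Modules.pushforward xs).map b
  have hβ : ∀ i, β.app V (frV i) = (if i = l₀ then 1 else 0 : Γ(Spec (CommRingCat.of k), xs ⁻¹ᵁ V)) := fun i => by
    refine RefStalk.germ_ext (G := Coh.structureModule (Spec (CommRingCat.of k))) fun y hy => ?_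
    refine (RefHull.stalkMapₗ_germ b y hy ((adj₀.unit.app (Omega.sheaf q)).app V (frV i))).symm.trans ?_
    rw [hb y]
    refine (ResDesc.coord_germ fr0 l₀ i hy).trans ?_
    split_ifs with h
    · refine Eq.trans ?_ (ResDesc.germ_smul_one hy (1 : Γ(Spec (CommRingCat.of k), xs ⁻¹ᵁ V)))
      rw [map_one, one_smul]
    · exact (map_zero _).symm
  obtain ⟨h, hh, hhα⟩ := HomTan.exists_isLift (X := Spec (CommRingCat.of k))
    (hxs : xs ≫ q = (Spec (CommRingCat.of k)) ↘ Spec (CommRingCat.of k)) β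
  let S := Spec (CommRingCat.of k)
  have hz : h (sect k S (closedPoint k)) = xs (closedPoint k) := by
    rw [← Scheme.Hom.comp_apply, hh.res]
  have hle' := HomTan.le_preimage_lift hh V
  have h0 := appLE_eq_zero_of_sq h hz hxV (((pr k S).preimage_mono e₁).trans hle') s hs2
  have hval := congrArg (resO _ ((pr k S).preimage_mono e₁)) (hhα ⟨V, hV⟩ s hle')
  rw [map_add, HomTan.pb_res (k := k) S e₁, HomTan.em_res (k := k) S e₁,
    show resO S e₁ (xs.app V s) = 0 from hs0, map_zero, zero_add] at hval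
  have hval' : resO S e₁ (val q xs β V s) = 0 := by
    refine HomTan.em_injective (k := k) S ⊤ (hval.symm.trans ?_)
    rw [HomTan.em_zero]
    refine Eq.trans ?_ h0
    exact ConcreteCategory.congr_hom (h.appLE_map hle' (homOfLE ((pr k S).preimage_mono e₁)).op) s
  have key : ∀ a : Fin m → Γ(X, V), xv (a l₀) = resO S e₁ (β.app V (∑ l, a l • frV l)) := fun a => by
    rw [map_sum, map_sum, Finset.sum_eq_single l₀]
    · rw [Scheme.Modules.Hom.app_smul, hβ, if_pos rfl]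
      show _ = resO S e₁ (xs.app V (a l₀) * 1)
      rw [mul_one]
      rfl
    · intro l _ hl
      rw [Scheme.Modules.Hom.app_smul, hβ, if_neg hl]
      show resO S e₁ (xs.app V _ * 0) = 0
      rw [mul_zero, map_zero]
    · exact fun h => absurd (Finset.mem_univ _) h
  rw [← hcoord l₀, key fun l => co (OmegaSh.dSect q V s) l, hds]
  exact hval'

/-- On the line, tangent vectors are detected by the vector fields. -/
theorem tangent_eq_zero_of_fields (t : Spec (CommRingCat.of k) ⟶ CohB1.ProjSpace 1 k)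
    [QuasiSeparated (CohB1.ProjSpace.toSpec 1 k)] (W : (CohB1.ProjSpace 1 k).affineOpens) (r : Γ(CohB1.ProjSpace 1 k, W.1))
    (e : ⊤ ≤ t ⁻¹ᵁ W.1)
    (hr : ∀ α : Omega.sheaf (CohB1.ProjSpace.toSpec 1 k) ⟶
        (Scheme.Modules.pushforward (𝟙 (CohB1.ProjSpace 1 k))).obj (Coh.structureModule (CohB1.ProjSpace 1 k)),
      t.appLE ((𝟙 (CohB1.ProjSpace 1 k) : _ ⟶ _) ⁻¹ᵁ W.1) ⊤ e (α.app W.1 (OmegaSh.dSect _ W.1 r)) = 0)
    (β : Omega.sheaf (CohB1.ProjSpace.toSpec 1 k) ⟶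
      (Scheme.Modules.pushforward t).obj (Coh.structureModule (Spec (CommRingCat.of k)))) :
    resO (Spec (CommRingCat.of k)) e (β.app W.1 (OmegaSh.dSect _ W.1 r)) = 0 := by
  classical
  haveI := smooth_toSpec k
  let q := CohB1.ProjSpace.toSpec 1 k
  obtain ⟨U₀, m, fr, hxU₀, hfr⟩ := TMul.exists_isFrame (AVOmega.isFinLocFree_omega q) (t (closedPoint k))
  let W' := W.1 ⊓ U₀
  have e' : ⊤ ≤ t ⁻¹ᵁ W' := fun y hy => by
    obtain rfl : y = closedPoint k := Subsingleton.elim (α := PrimeSpectrum k) _ _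
    exact ⟨e hy, hxU₀⟩
  have hfrW := W7Strat.isFrame_res hfr (inf_le_right : W' ≤ U₀)
  let frW : Fin m → Γ(Omega.sheaf q, W') := fun l => res (Omega.sheaf q) inf_le_right (fr l)
  obtain ⟨cc, hc⟩ := hfrW.comb_surjective le_rfl (OmegaSh.dSect q W' (resO _ (inf_le_left : W' ≤ W.1) r))
  have hc' : (∑ l, cc l • frW l) = OmegaSh.dSect q W' (resO _ (inf_le_left : W' ≤ W.1) r) := by
    rw [← hc]; simp only [Groth.Agent.QC.res_self]; rfl
  have hres : ∀ {Z : Scheme.{u}} (F : Z.Modules) (g : Z ⟶ CohB1.ProjSpace 1 k)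
      (α : Omega.sheaf q ⟶ (Scheme.Modules.pushforward g).obj F),
      res F (g.preimage_mono (inf_le_left : W' ≤ W.1)) (α.app W.1 (OmegaSh.dSect q W.1 r)) =
        α.app W' (OmegaSh.dSect q W' (resO _ (inf_le_left : W' ≤ W.1) r)) := fun F g α => by
    rw [show OmegaSh.dSect q W' (resO _ (inf_le_left : W' ≤ W.1) r) =
      res (Omega.sheaf q) (inf_le_left : W' ≤ W.1) (OmegaSh.dSect q W.1 r) from OmegaSh.dSect_map q _ r]
    exact app_res α _ _
  by_contra hne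
  obtain ⟨j, hj⟩ : ∃ j, t.appLE W' ⊤ e' (cc j) ≠ 0 := by
    by_contra hall
    push Not at hall
    refine hne ?_
    refine (Groth.Agent.QC.resO_resO e' (t.preimage_mono (inf_le_left : W' ≤ W.1)) _).symm.trans ?_
    rw [show resO (Spec (CommRingCat.of k)) (t.preimage_mono (inf_le_left : W' ≤ W.1))
      (β.app W.1 (OmegaSh.dSect q W.1 r)) = _ from hres _ t β, ← hc', map_sum, map_sum]
    refine Finset.sum_eq_zero fun l _ => ?_
    rw [Scheme.Modules.Hom.app_smul]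
    show resO (Spec (CommRingCat.of k)) e' (t.app W' (cc l) * _) = 0
    rw [map_mul, show resO (Spec (CommRingCat.of k)) e' (t.app W' (cc l)) = 0 from hall l, zero_mul]
  obtain ⟨w⟩ := PnEuler.nonempty_omega_line (k := k)
  let i : (Scheme.Modules.pullback (𝟙 (CohB1.ProjSpace 1 k))).obj (Omega.sheaf q) ≅
      ∐ fun _ : Fin 1 => O k (-2) :=
    (Scheme.Modules.pullbackId _).app _ ≪≫ w ≪≫ (coproductUniqueIso fun _ : Fin 1 => O k (-2)).symm
  obtain ⟨α, hα⟩ := exists_form (𝟙 (CohB1.ProjSpace 1 k)) i (fun _ => by norm_num) hfrW t e' cc (j := j) hj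
  refine hα ?_
  rw [hc', ← hres _ _ α]
  refine Eq.trans ?_ (hr α)
  exact ConcreteCategory.congr_hom (t.map_appLE e' (homOfLE (inf_le_left : W' ≤ W.1)).op) _

theorem appLE_congr_apply {Y Z : Scheme.{u}} {g g' : Y ⟶ Z} (h : g = g') {V : Z.Opens} {W : Y.Opens}
    (e : W ≤ g ⁻¹ᵁ V) (e' : W ≤ g' ⁻¹ᵁ V) (s : Γ(Z, V)) : g.appLE V W e s = g'.appLE V W e' s := by
  subst h
  rfl

section Restrict

variable {A Z : Scheme.{u}} [A.Over (Spec (CommRingCat.of k))] {yY : Z ⟶ Spec (CommRingCat.of k)}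
  [QuasiSeparated yY] {g : A ⟶ Z}

/-- The value of an extension on a smaller open. -/
theorem appLE_of_isTan {h : Xε k A ⟶ Z} (hh : IsLift yY g h)
    {α : Omega.sheaf yY ⟶ (Scheme.Modules.pushforward g).obj (Coh.structureModule A)} (hα : IsTan yY g h α)
    (V : Z.affineOpens) {W : A.Opens} (hW : W ≤ g ⁻¹ᵁ V.1) (e : pr k A ⁻¹ᵁ W ≤ h ⁻¹ᵁ V.1) (s : Γ(Z, V.1)) :
    h.appLE V.1 _ e s = pb k A W (g.appLE V.1 W hW s) + em k A W (resO A hW (val yY g α V.1 s)) := by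
  have hle := HomTan.le_preimage_lift hh V.1
  have h1 := congrArg (resO _ ((pr k A).preimage_mono hW)) (hα V s hle)
  rw [map_add, HomTan.pb_res (k := k) A hW, HomTan.em_res (k := k) A hW] at h1
  exact (ConcreteCategory.congr_hom (h.appLE_map hle (homOfLE ((pr k A).preimage_mono hW)).op) s).symm.trans h1

end Restrict

/-- A family of curves with evaluation injective on cotangent spaces at a point of a curve makes it free. -/
theorem good_of_cotangent (q : X ⟶ Spec (CommRingCat.of k)) [Smooth q] [QuasiSeparated q] {M : Scheme.{u}}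
    (qM : M ⟶ Spec (CommRingCat.of k)) (m : Spec (CommRingCat.of k) ⟶ M)
    (e : pullback (CohB1.ProjSpace.toSpec 1 k) qM ⟶ X)
    (he : e ≫ q = pullback.fst (CohB1.ProjSpace.toSpec 1 k) qM ≫ CohB1.ProjSpace.toSpec 1 k)
    (i : CohB1.ProjSpace 1 k ⟶ pullback (CohB1.ProjSpace.toSpec 1 k) qM)
    (hi₁ : i ≫ pullback.fst _ _ = 𝟙 _) (hi₂ : i ≫ pullback.snd _ _ = CohB1.ProjSpace.toSpec 1 k ≫ m)
    (t : Spec (CommRingCat.of k) ⟶ CohB1.ProjSpace 1 k) (ht : t ≫ CohB1.ProjSpace.toSpec 1 k = 𝟙 _)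
    (hinj : ∀ a ∈ maximalIdeal (X.presheaf.stalk (e ((t ≫ i) (closedPoint k)))),
      (e.stalkMap ((t ≫ i) (closedPoint k))).hom a ∈ maximalIdeal _ ^ 2 → a ∈ maximalIdeal _ ^ 2) :
    Good q (i ≫ e) := by
  classical
  haveI := ProjMor.isProper_toSpec 1 k
  by_contra hbad
  let f := i ≫ e
  have hfq : f ≫ q = CohB1.ProjSpace.toSpec 1 k := by
    rw [Category.assoc, he, reassoc_of% hi₁]
  obtain ⟨n, d, ⟨ee⟩⟩ := exists_split_locFree (SGA6Ext.isFinLocFree_pullback f (AVOmega.isFinLocFree_omega q))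
  obtain ⟨j, hj⟩ : ∃ j, 0 < d j := by
    by_contra hall
    push Not at hall
    exact hbad ((hh0_coprod_iff d (-1) ee).2 fun l => by have := hall l; omega)
  have hxs : (t ≫ f) ≫ q = 𝟙 _ := by rw [Category.assoc, hfq, ht]
  obtain ⟨V, hxV, e₀, s, hs0, hns, hform⟩ := exists_covector q f ee hj t hxs
  set z := (t ≫ i) (closedPoint k) with hzdef
  have hxV' : e z ∈ V.1 := hxV
  have hns' : X.presheaf.germ V.1 _ hxV' s ∉ maximalIdeal _ ^ 2 := hns
  have hmem : X.presheaf.germ V.1 _ hxV' s ∈ maximalIdeal _ := mem_maximal_of_appLE (t ≫ f) hxV e₀ s hs0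
  refine hns' (hinj _ hmem ?_)
  by_contra hb
  -- an affine neighbourhood and a tangent vector
  obtain ⟨W, hW, hzW, -⟩ := exists_isAffineOpen_mem_and_subset
    (X := pullback (CohB1.ProjSpace.toSpec 1 k) qM) (x := z) (U := ⊤) trivial
  haveI : IsAffine W := hW
  let qW : (W : Scheme.{u}) ⟶ Spec (CommRingCat.of k) :=
    W.ι ≫ pullback.fst (CohB1.ProjSpace.toSpec 1 k) qM ≫ CohB1.ProjSpace.toSpec 1 k
  haveI : QuasiSeparated qW := inferInstance
  let zW : Spec (CommRingCat.of k) ⟶ W := IsOpenImmersion.lift W.ι (t ≫ i) (by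
    rintro _ ⟨y, rfl⟩
    obtain rfl : y = closedPoint k := Subsingleton.elim (α := PrimeSpectrum k) _ _
    rw [W.range_ι]
    exact hzW)
  have hzWι : zW ≫ W.ι = t ≫ i := IsOpenImmersion.lift_fac _ _ _
  have hzWq : zW ≫ qW = 𝟙 _ := by
    rw [reassoc_of% hzWι, reassoc_of% hi₁, ht]
  let wm : (W : Scheme.{u}) ⟶ X := W.ι ≫ e
  have hzwm : zW ≫ wm = t ≫ f := by rw [reassoc_of% hzWι]
  obtain ⟨V', hV', hzV', hV'le⟩ := exists_isAffineOpen_mem_and_subset (X := (W : Scheme.{u}))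
    (x := zW (closedPoint k)) (U := wm ⁻¹ᵁ V.1) (show (zW ≫ wm) (closedPoint k) ∈ V.1 by rw [hzwm]; exact hxV)
  let r : Γ((W : Scheme.{u}), V') := wm.appLE V.1 V' hV'le s
  have ezW : ⊤ ≤ zW ⁻¹ᵁ V' := fun y _ => by
    obtain rfl : y = closedPoint k := Subsingleton.elim (α := PrimeSpectrum k) _ _
    exact hzV'
  have hr0 : zW.appLE V' ⊤ ezW r = 0 := by
    refine Eq.trans ?_ hs0
    show (wm.appLE V.1 V' hV'le ≫ zW.appLE V' ⊤ ezW) s = _
    rw [Scheme.Hom.appLE_comp_appLE]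
    exact appLE_congr_apply hzwm _ _ s
  have hr2 : (W : Scheme.{u}).presheaf.germ V' _ hzV' r ∉ maximalIdeal _ ^ 2 := by
    intro h
    have hz' : W.ι (zW (closedPoint k)) = z := by rw [← Scheme.Hom.comp_apply, hzWι]
    have h1 : e.stalkMap (W.ι (zW (closedPoint k))) (X.presheaf.germ V.1 _ (hV'le hzV') s) ∉ maximalIdeal _ ^ 2 := by
      have key : ∀ z' (_ : z' = z) (hz'V : e z' ∈ V.1),
          e.stalkMap z' (X.presheaf.germ V.1 _ hz'V s) ∉ maximalIdeal _ ^ 2 := by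
        rintro z' rfl _
        exact hb
      exact key _ hz' _
    let ι' := (asIso (W.ι.stalkMap (zW (closedPoint k)))).commRingCatIsoToRingEquiv
    refine h1 (mem_sq_of_ringEquiv ι' ?_)
    have h2 : wm.stalkMap (zW (closedPoint k)) (X.presheaf.germ V.1 _ (hV'le hzV') s) =
        (W : Scheme.{u}).presheaf.germ V' _ hzV' r := by
      rw [Scheme.Hom.germ_stalkMap_apply]
      exact (TopCat.Presheaf.germ_res_apply _ (homOfLE hV'le) _ hzV' (wm.app V.1 s)).symm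
    rw [← h2, Scheme.Hom.stalkMap_comp W.ι e (zW (closedPoint k))] at h
    exact h
  obtain ⟨β, hβ⟩ := exists_tangent qW zW hzWq ⟨V', hV'⟩ hzV' r (mem_maximal_of_appLE zW hzV' ezW r hr0) hr2 ezW
  obtain ⟨h₀, hh₀, hh₀β⟩ := HomTan.exists_isLift (X := Spec (CommRingCat.of k))
    (hzWq : zW ≫ qW = (Spec (CommRingCat.of k)) ↘ Spec (CommRingCat.of k)) β
  let S := Spec (CommRingCat.of k)
  let P₁ := CohB1.ProjSpace 1 k
  let τ : Xε k S ⟶ pullback (CohB1.ProjSpace.toSpec 1 k) qM := h₀ ≫ W.ι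
  let τ₁ : Xε k S ⟶ P₁ := τ ≫ pullback.fst _ _
  let iε : Xε k S ⟶ Spec (CommRingCat.of (DualNumber k)) := pullback.snd _ _
  haveI : IsIso iε := by
    haveI : IsIso (S ↘ Spec (CommRingCat.of k)) := inferInstanceAs (IsIso (𝟙 _))
    exact inferInstanceAs (IsIso (pullback.snd (S ↘ Spec (CommRingCat.of k)) (dnMap k)))
  have hτ₁q : τ₁ ≫ CohB1.ProjSpace.toSpec 1 k = pr k S ≫ (S ↘ Spec (CommRingCat.of k)) := by
    refine Eq.trans ?_ hh₀.comp
    simp only [τ₁, τ, qW, Category.assoc]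
  let τd := inv iε ≫ τ ≫ pullback.snd _ _
  have hτd : τd ≫ qM = dnMap k := by
    rw [Category.assoc, Category.assoc, ← pullback.condition, IsIso.inv_comp_eq]
    refine Eq.trans ?_ pullback.condition
    rw [← Category.assoc]
    exact hτ₁q
  let G : Xε k P₁ ⟶ pullback (CohB1.ProjSpace.toSpec 1 k) qM :=
    pullback.lift (pr k P₁) (pullback.snd _ _ ≫ τd) (by
      rw [Category.assoc, hτd]
      exact pullback.condition)
  let h := G ≫ e
  have hsG : sect k P₁ ≫ G = i := by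
    apply pullback.hom_ext
    · rw [Category.assoc, pullback.lift_fst, hi₁]
      exact ExpSeq.sect_fst _
    · rw [Category.assoc, pullback.lift_snd, hi₂]
      refine Eq.trans (pullback.lift_snd_assoc _ _ _ _) ?_
      refine (Category.assoc _ _ _).trans ?_
      refine congrArg (CohB1.ProjSpace.toSpec 1 k ≫ ·) ?_
      have hd : dnPoint k = sect k S ≫ iε :=
        ((pullback.lift_snd _ _ _).trans (Category.id_comp _)).symm
      rw [hd, Category.assoc, IsIso.hom_inv_id_assoc, show τ = h₀ ≫ W.ι from rfl, Category.assoc,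
        reassoc_of% hh₀.res, reassoc_of% hzWι, hi₂,
        reassoc_of% ht]
  have hh : IsLift q f h := by
    refine ⟨?_, ?_⟩
    · show (G ≫ e) ≫ q = _
      rw [Category.assoc, he, pullback.lift_fst_assoc]
      rfl
    · rw [← Category.assoc, hsG]
  obtain ⟨α, hα⟩ := HomTan.exists_isTan (X := P₁) (hfq : f ≫ q = P₁ ↘ Spec (CommRingCat.of k)) hh
  have hh₁ : IsLift (CohB1.ProjSpace.toSpec 1 k) t τ₁ := by
    refine ⟨hτ₁q, ?_⟩
    simp only [τ₁, τ, Category.assoc]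
    rw [reassoc_of% hh₀.res, reassoc_of% hzWι, hi₁, Category.comp_id]
  obtain ⟨β₁, hβ₁⟩ := HomTan.exists_isTan (X := S)
    (ht : t ≫ CohB1.ProjSpace.toSpec 1 k = S ↘ Spec (CommRingCat.of k)) hh₁
  let ψ : Xε k S ⟶ Xε k P₁ := pullback.lift τ₁ iε (by
    show τ₁ ≫ CohB1.ProjSpace.toSpec 1 k = _
    rw [hτ₁q]
    exact pullback.condition)
  have hψG : ψ ≫ G = τ := by
    apply pullback.hom_ext
    · rw [Category.assoc, pullback.lift_fst, pullback.lift_fst]
    · rw [Category.assoc, pullback.lift_snd, pullback.lift_snd_assoc, IsIso.hom_inv_id_assoc]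
  have hcomp : ψ ≫ h = h₀ ≫ wm := by
    simp only [h, wm]
    rw [reassoc_of% hψG]
    simp only [τ, Category.assoc]
  -- an affine neighbourhood of the point of the line
  obtain ⟨W'', hW'', htW'', hW''le⟩ := exists_isAffineOpen_mem_and_subset (X := P₁) (x := t (closedPoint k))
    (U := f ⁻¹ᵁ V.1) hxV
  have et : ⊤ ≤ t ⁻¹ᵁ W'' := fun y _ => by
    obtain rfl : y = closedPoint k := Subsingleton.elim (α := PrimeSpectrum k) _ _
    exact htW''
  let r₁ : Γ(P₁, W'') := f.appLE V.1 W'' hW''le s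
  let v : Γ(P₁, W'') := resO P₁ hW''le (val q f α V.1 s)
  have hev : ∀ u : Γ(P₁, f ⁻¹ᵁ V.1), t.appLE W'' ⊤ et (resO P₁ hW''le u) = t.appLE (f ⁻¹ᵁ V.1) ⊤ e₀ u := fun u =>
    ConcreteCategory.congr_hom (t.map_appLE et (homOfLE hW''le).op) u
  have htr₁ : t.appLE W'' ⊤ et r₁ = 0 := by
    refine Eq.trans ?_ hs0
    show (f.appLE V.1 W'' hW''le ≫ t.appLE W'' ⊤ et) s = _
    rw [Scheme.Hom.appLE_comp_appLE]
  have htv : t.appLE W'' ⊤ et v = 0 := (hev _).trans (hform α)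
  -- the tangent vector on the line kills the function
  have hfields : ∀ α₁ : Omega.sheaf (CohB1.ProjSpace.toSpec 1 k) ⟶
      (Scheme.Modules.pushforward (𝟙 P₁)).obj (Coh.structureModule P₁),
      t.appLE ((𝟙 P₁ : P₁ ⟶ P₁) ⁻¹ᵁ W'') ⊤ et (α₁.app W'' (OmegaSh.dSect _ W'' r₁)) = 0 := fun α₁ => by
    obtain ⟨h₁, hh₁', hh₁α⟩ := HomTan.exists_isLift (X := P₁)
      (Category.id_comp _ : 𝟙 P₁ ≫ CohB1.ProjSpace.toSpec 1 k = P₁ ↘ Spec (CommRingCat.of k)) α₁
    have hl : IsLift q f (h₁ ≫ f) := by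
      refine ⟨?_, ?_⟩
      · rw [Category.assoc, hfq]; exact hh₁'.comp
      · rw [← Category.assoc, hh₁'.res, Category.id_comp]
    obtain ⟨α', hα'⟩ := HomTan.exists_isTan (X := P₁) (hfq : f ≫ q = P₁ ↘ Spec (CommRingCat.of k)) hl
    have eA : pr k P₁ ⁻¹ᵁ W'' ≤ h₁ ⁻¹ᵁ W'' := HomTan.le_preimage_lift hh₁' W''
    have eB : pr k P₁ ⁻¹ᵁ W'' ≤ (h₁ ≫ f) ⁻¹ᵁ V.1 := eA.trans (h₁.preimage_mono hW''le)
    have a1 := appLE_of_isTan hl hα' V hW''le eB s
    have a2 := appLE_of_isTan hh₁' hh₁α ⟨W'', hW''⟩ (W := W'') le_rfl eA r₁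
    have a3 : h₁.appLE W'' _ eA r₁ = (h₁ ≫ f).appLE V.1 _ eB s :=
      ConcreteCategory.congr_hom (Scheme.Hom.appLE_comp_appLE h₁ f V.1 W'' _ hW''le eA) s
    have a4 : (𝟙 P₁ : P₁ ⟶ P₁).appLE W'' W'' le_rfl r₁ = r₁ := Groth.Agent.QC.resO_self (X := P₁) le_rfl r₁
    rw [a3, a1, a4] at a2
    have a5 := HomTan.em_injective (k := k) P₁ W'' (add_left_cancel a2)
    refine Eq.trans (congrArg _ (a5.trans (Groth.Agent.QC.resO_self _ _)).symm) ?_
    exact (hev _).trans (hform α')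
  have hτr : τ₁.appLE W'' (pr k S ⁻¹ᵁ ⊤) (((pr k S).preimage_mono et).trans (HomTan.le_preimage_lift hh₁ W'')) r₁ = 0 := by
    rw [appLE_of_isTan hh₁ hβ₁ ⟨W'', hW''⟩ et _ r₁, htr₁,
      show resO S et (val (CohB1.ProjSpace.toSpec 1 k) t β₁ W'' r₁) = 0 from
        tangent_eq_zero_of_fields t ⟨W'', hW''⟩ r₁ et hfields β₁, map_zero, HomTan.em_zero, add_zero]
  -- so the composite kills the function
  have hψle : pr k S ⁻¹ᵁ ⊤ ≤ ψ ⁻¹ᵁ (pr k P₁ ⁻¹ᵁ W'') := by
    rw [← Scheme.Hom.comp_preimage, show ψ ≫ pr k P₁ = τ₁ from pullback.lift_fst _ _ _]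
    exact ((pr k S).preimage_mono et).trans (HomTan.le_preimage_lift hh₁ W'')
  have hψpb : ∀ u : Γ(P₁, W''), ψ.appLE _ _ hψle (pb k P₁ W'' u) =
      τ₁.appLE W'' _ (((pr k S).preimage_mono et).trans (HomTan.le_preimage_lift hh₁ W'')) u := fun u => by
    show ((pr k P₁).app W'' ≫ ψ.appLE _ _ hψle) u = _
    rw [Scheme.Hom.app_eq_appLE, Scheme.Hom.appLE_comp_appLE]
    exact appLE_congr_apply (pullback.lift_fst _ _ _) _ _ u
  have hψtop : ψ.appTop (ExpSeq.epsTop k P₁) = ExpSeq.epsTop k S := by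
    show ((pullback.snd (P₁ ↘ Spec (CommRingCat.of k)) (dnMap k)).appTop ≫ ψ.appTop) _ = _
    rw [← Scheme.Hom.comp_appTop, pullback.lift_snd]
    rfl
  have hψeps : ψ.appLE _ _ hψle (ExpSeq.epsOn k P₁ (pr k P₁ ⁻¹ᵁ W'')) = ExpSeq.epsOn k S (pr k S ⁻¹ᵁ ⊤) := by
    show _ = resO _ le_top (ExpSeq.epsTop k S)
    rw [← hψtop]
    exact (ConcreteCategory.congr_hom (ψ.map_appLE hψle (homOfLE (le_top : pr k P₁ ⁻¹ᵁ W'' ≤ ⊤)).op) _).trans
      (ConcreteCategory.congr_hom (show ψ.appLE ⊤ (pr k S ⁻¹ᵁ ⊤) le_top =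
        ψ.appTop ≫ (Xε k S).presheaf.map (homOfLE (le_top : pr k S ⁻¹ᵁ ⊤ ≤ ⊤)).op from rfl) _)
  have hψem : ψ.appLE _ _ hψle (em k P₁ W'' v) = 0 := by
    rw [show em k P₁ W'' v = ExpSeq.epsOn k P₁ (pr k P₁ ⁻¹ᵁ W'') * pb k P₁ W'' v from rfl, map_mul, hψeps, hψpb,
      appLE_of_isTan hh₁ hβ₁ ⟨W'', hW''⟩ et _ v, htv, map_zero, zero_add]
    show ExpSeq.epsOn k S (pr k S ⁻¹ᵁ ⊤) * em k S ⊤ _ = 0
    rw [show em k S ⊤ (resO S et (val (CohB1.ProjSpace.toSpec 1 k) t β₁ W'' v)) =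
      ExpSeq.epsOn k S (pr k S ⁻¹ᵁ ⊤) * pb k S ⊤ (resO S et (val (CohB1.ProjSpace.toSpec 1 k) t β₁ W'' v)) from rfl,
      ← mul_assoc]
    have h2 := HomTan.em_mul_em (k := k) S ⊤ (1 : Γ(S, ⊤)) (1 : Γ(S, ⊤))
    rw [show em k S ⊤ (1 : Γ(S, ⊤)) = ExpSeq.epsOn k S (pr k S ⁻¹ᵁ ⊤) by
      rw [HomTan.em, map_one, mul_one]] at h2
    rw [h2, zero_mul]
  -- contradiction
  have eV : pr k S ⁻¹ᵁ ⊤ ≤ h₀ ⁻¹ᵁ V' := ((pr k S).preimage_mono ezW).trans (HomTan.le_preimage_lift hh₀ V')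
  have eVh : pr k P₁ ⁻¹ᵁ W'' ≤ h ⁻¹ᵁ V.1 :=
    ((pr k P₁).preimage_mono hW''le).trans (HomTan.le_preimage_lift hh V.1)
  have k1 := appLE_of_isTan hh₀ hh₀β ⟨V', hV'⟩ ezW eV r
  rw [hr0, map_zero, zero_add] at k1
  have k2 : h₀.appLE V' _ eV r = ψ.appLE _ _ hψle (h.appLE V.1 _ eVh s) := by
    show (wm.appLE V.1 V' hV'le ≫ h₀.appLE V' _ eV) s = (h.appLE V.1 _ eVh ≫ ψ.appLE _ _ hψle) s
    rw [Scheme.Hom.appLE_comp_appLE, Scheme.Hom.appLE_comp_appLE]
    exact appLE_congr_apply hcomp.symm _ _ s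
  rw [k2, appLE_of_isTan hh hα V hW''le eVh s, map_add, hψpb, show f.appLE V.1 W'' hW''le s = r₁ from rfl, hτr,
    zero_add, show resO P₁ hW''le (val q f α V.1 s) = v from rfl, hψem] at k1
  exact hβ (HomTan.em_injective (k := k) S ⊤ (k1.symm.trans (HomTan.em_zero _ ⊤).symm))

end Groth.Agent.FreeCurve
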