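import Groth.Agent.FreeCurve.DescEv
import Groth.Agent.FreeCurve.CurveFamily
import Groth.Agent.FreeCurve.TanFree
import Groth.Agent.FreeCurve.SmoothPair
import Groth.Agent.GrpAct.GenericSmoothMap
import Groth.Agent.GrpAct.Stabilizer
import Groth.Agent.GeomProp.SmoothPoint
import Mathlib

/-!
# Good members of a dominant family of curves in characteristic zero
-/

set_option autoImplicit false
set_option linter.style.haveILetI false
set_option backward.isDefEq.respectTransparency false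
set_option backward.isDefEq.respectTransparency.types false
set_option synthInstance.maxHeartbeats 400000
set_option maxHeartbeats 1000000

universe u

open CategoryTheory CategoryTheory.Limits AlgebraicGeometry TopologicalSpace Opposite
open IsLocalRing (closedPoint maximalIdeal)

noncomputable section

namespace Groth.Agent.FreeCurve

variable {k K : Type u} [Field k] [Field K] {X : Scheme.{u}}

/-- A field-valued point lying over a rational point is the rational point. -/
theorem eq_of_apply_eq_rational {q : X ⟶ Spec (CommRingCat.of k)} [IsSeparated q]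
    (a : Spec (CommRingCat.of k) ⟶ X) (ha : a ≫ q = 𝟙 _) (y : Spec (CommRingCat.of K) ⟶ X)
    (h : y (closedPoint K) = a (closedPoint k)) : y = (y ≫ q) ≫ a := by
  haveI : IsClosedImmersion (a ≫ q) := by rw [ha]; infer_instance
  haveI : IsClosedImmersion a := IsClosedImmersion.of_comp a q
  let s := pullback.snd a y
  haveI : IsClosedImmersion s := MorphismProperty.pullback_snd _ _ inferInstance
  haveI : Surjective s := ⟨fun z => by
    obtain rfl : z = closedPoint K := Subsingleton.elim (α := PrimeSpectrum K) _ _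
    obtain ⟨w, -, hw⟩ := Scheme.Pullback.exists_preimage_pullback (f := a) (g := y) (closedPoint k) (closedPoint K)
      h.symm
    exact ⟨w, hw⟩⟩
  haveI : IsIso s := isIso_of_isClosedImmersion_of_surjective s
  have h1 : y = (inv s ≫ pullback.fst a y) ≫ a := by
    rw [Category.assoc, pullback.condition, IsIso.inv_hom_id_assoc]
  have h2 : y ≫ q = inv s ≫ pullback.fst a y := by
    refine (congrArg (· ≫ q) h1).trans ?_
    rw [Category.assoc, ha, Category.comp_id]
  rw [h2]
  exact h1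

/-- The base change of a family of curves. -/
theorem exists_baseField (σ : Spec (CommRingCat.of K) ⟶ Spec (CommRingCat.of k))
    (q : X ⟶ Spec (CommRingCat.of k)) {M : Over (Spec (CommRingCat.of k))}
    (v : MorSch.Obj (CohB1.ProjSpace.toSpec 1 k) q M) (e₁ : CohB1.ProjSpace 1 K ⟶ CohB1.ProjSpace 1 k)
    (he : IsPullback e₁ (CohB1.ProjSpace.toSpec 1 K) (CohB1.ProjSpace.toSpec 1 k) σ) :
    ∃ (v' : MorSch.Obj (CohB1.ProjSpace.toSpec 1 K) (pullback.snd q σ) (Over.mk (pullback.snd M.hom σ)))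
      (c : PicF.XT (CohB1.ProjSpace.toSpec 1 K) (Over.mk (pullback.snd M.hom σ)) ⟶
        PicF.XT (CohB1.ProjSpace.toSpec 1 k) M),
      IsPullback c v'.1 v.1 (pullback.fst q σ) ∧
      c ≫ pullback.fst (CohB1.ProjSpace.toSpec 1 k) M.hom = pullback.fst _ _ ≫ e₁ ∧
      c ≫ pullback.snd (CohB1.ProjSpace.toSpec 1 k) M.hom = pullback.snd _ _ ≫ pullback.fst M.hom σ := by
  let p := CohB1.ProjSpace.toSpec 1 k
  let p' := CohB1.ProjSpace.toSpec 1 K
  let M' : Over (Spec (CommRingCat.of K)) := Over.mk (pullback.snd M.hom σ)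
  let c : PicF.XT p' M' ⟶ PicF.XT p M := pullback.lift (pullback.fst p' M'.hom ≫ e₁)
    (pullback.snd p' M'.hom ≫ pullback.fst M.hom σ) (by
      rw [Category.assoc, Category.assoc, he.w, pullback.condition, ← Category.assoc, pullback.condition]
      rfl)
  have hc1 : c ≫ pullback.fst p M.hom = pullback.fst p' M'.hom ≫ e₁ := pullback.lift_fst _ _ _
  have hc2 : c ≫ pullback.snd p M.hom = pullback.snd p' M'.hom ≫ pullback.fst M.hom σ := pullback.lift_snd _ _ _
  have hw : (c ≫ v.1) ≫ q = (pullback.fst p' M'.hom ≫ p') ≫ σ := by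
    rw [Category.assoc, v.2, ← Category.assoc, hc1, Category.assoc, he.w, Category.assoc]
  let v' : MorSch.Obj p' (pullback.snd q σ) M' :=
    ⟨pullback.lift (c ≫ v.1) (pullback.fst p' M'.hom ≫ p') hw, pullback.lift_snd _ _ _⟩
  have sqc : IsPullback c (pullback.snd p' M'.hom ≫ M'.hom) (pullback.snd p M.hom ≫ M.hom) σ := by
    refine IsPullback.paste_vert ?_ (IsPullback.of_hasPullback M.hom σ)
    refine IsPullback.of_right (h₁₂ := pullback.fst p M.hom) (v₁₃ := p) (h₂₂ := M.hom) ?_ hc2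
      (IsPullback.of_hasPullback p M.hom)
    rw [hc1, pullback.condition]
    exact (IsPullback.of_hasPullback p' M'.hom).paste_horiz he
  refine ⟨v', c, ?_, hc1, hc2⟩
  refine IsPullback.of_bot ?_ (pullback.lift_fst _ _ _).symm (IsPullback.of_hasPullback q σ)
  rw [show v'.1 ≫ pullback.snd q σ = pullback.fst p' M'.hom ≫ p' from pullback.lift_snd _ _ _, v.2,
    pullback.condition, pullback.condition]
  exact sqc

/-- A dominant family of curves over an irreducible base contains a good member, in characteristic zero. -/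
theorem exists_good_of_isDominant [CharZero k] [IsIntegral X] (pX : X ⟶ Spec (CommRingCat.of k)) [Smooth pX]
    [IsSeparated pX] {M : Scheme.{u}} [IrreducibleSpace M] (qM : M ⟶ Spec (CommRingCat.of k))
    [LocallyOfFiniteType qM] (v : MorSch.Obj (CohB1.ProjSpace.toSpec 1 k) pX (Over.mk qM)) [IsDominant v.1] :
    (goodSet (Twist.twistProjSpace 1 k (-1)) v).Nonempty := by
  classical
  let p := CohB1.ProjSpace.toSpec 1 k
  haveI := ProjMor.isProper_toSpec 1 k
  haveI := smooth_toSpec k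
  -- a smooth affine piece of the parameter space, dense in it
  obtain ⟨O, j, hj, hred, hjr⟩ := GrpAct.exists_reduced_subscheme (Y := M) (A := Set.univ)
    isClosed_univ.isLocallyClosed
  haveI := hj
  haveI := hred
  haveI : IrreducibleSpace O :=
    ((Topology.IsEmbedding.toHomeomorphOfSurjective j.isEmbedding (Set.range_eq_univ.1 hjr))).irreducibleSpace_iff.2 ‹_›
  haveI : IsIntegral O := isIntegral_of_irreducibleSpace_of_isReduced O
  let qO := j ≫ qM
  haveI : LocallyOfFiniteType qO := inferInstanceAs (LocallyOfFiniteType (j ≫ qM))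
  haveI : LocallyOfFinitePresentation qO := LocallyOfFinitePresentation.iff_locallyOfFiniteType.2 inferInstance
  have hη : genericPoint O ∈ qO.smoothLocus := by
    refine GeomProp.mem_smoothLocus_of_regular_perfect qO ?_
    haveI : IsField ↥(O.presheaf.stalk (genericPoint O)) := Field.toIsField O.functionField
    infer_instance
  obtain ⟨U, hU, hηU, hUle⟩ := exists_isAffineOpen_mem_and_subset (X := O) hη
  haveI : IsAffine U := hU
  let j₁ : (U : Scheme.{u}) ⟶ M := U.ι ≫ j
  haveI : Smooth (j₁ ≫ qM) := by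
    haveI := SmDesc.smooth_smoothLocus qO
    rw [show j₁ ≫ qM = O.homOfLE hUle ≫ qO.smoothLocus.ι ≫ qO by
      rw [Scheme.homOfLE_ι_assoc]; exact Category.assoc _ _ _]
    infer_instance
  let M₁ : Over (Spec (CommRingCat.of k)) := Over.mk (j₁ ≫ qM)
  let g₁ : M₁ ⟶ Over.mk qM := Over.homMk j₁ rfl
  let v₁ := MorSch.pull p pX g₁ v
  haveI : Smooth M₁.hom := ‹Smooth (j₁ ≫ qM)›
  haveI : Smooth (PicF.XTproj p M₁) := MorphismProperty.pullback_snd _ _ ‹Smooth p›
  haveI : IsProper (PicF.XTproj p M₁) := MorphismProperty.pullback_snd _ _ inferInstance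
  haveI : CompactSpace ↥(PicF.XT p M₁) := by
    haveI : CompactSpace ↥M₁.left := inferInstanceAs (CompactSpace ↥(U : Scheme.{u}))
    exact QuasiCompact.compactSpace_of_compactSpace (PicF.XTproj p M₁)
  let hW := v₁.1 ≫ pX
  have hWeq : hW = PicF.XTproj p M₁ ≫ M₁.hom := v₁.2.trans pullback.condition
  haveI : Smooth hW := by rw [hWeq]; infer_instance
  haveI : QuasiSeparatedSpace X := quasiSeparatedSpace_of_quasiSeparated pX
  haveI : QuasiCompact v₁.1 := quasiCompact_of_compactSpace v₁.1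
  obtain ⟨V, hV, hVsm⟩ := GrpAct.exists_smooth_restrict hW pX v₁.1 rfl
  -- the family over the piece meets the smooth part
  obtain ⟨w, hw⟩ : ∃ w : ↥(PicF.XT p M₁), v₁.1 w ∈ V := by
    obtain ⟨x, hxV, ⟨b, rfl⟩⟩ := v.1.denseRange.inter_open_nonempty _ V.2 hV
    let pr := PicF.XTproj p (Over.mk qM)
    haveI : Smooth pr := MorphismProperty.pullback_snd _ _ ‹Smooth p›
    have hd : Dense (Set.range j₁) := by
      have h1 : Dense (U : Set O) := U.2.dense ⟨_, hηU⟩
      have h2 : Dense (j '' (U : Set O)) :=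
        (DenseRange.dense_image (Set.range_eq_univ.1 hjr).denseRange j.continuous h1)
      rwa [show Set.range j₁ = j '' (U : Set O) from
        (Set.range_comp j U.ι).trans (congrArg (j '' ·) U.range_ι)]
    obtain ⟨y, ⟨b', hb', rfl⟩, ⟨a, ha⟩⟩ := hd.inter_open_nonempty (pr '' (v.1 ⁻¹' (V : Set X)))
      (pr.isOpenMap _ (V.2.preimage v.1.continuous)) ⟨_, b, hxV, rfl⟩
    obtain ⟨w, hw, -⟩ := Scheme.Pullback.exists_preimage_pullback (f := pr) (g := j₁) b' a ha.symm
    let d := (S17082.isPullback_XTmap p g₁).isoPullback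
    refine ⟨d.inv w, ?_⟩
    show (d.inv ≫ PicF.XTmap p g₁ ≫ v.1) w ∈ V
    rw [IsPullback.isoPullback_inv_fst_assoc, Scheme.Hom.comp_apply]
    refine (congrArg (fun b => v.1 b ∈ V) hw).mpr ?_
    exact hb'
  let V' := v₁.1 ⁻¹ᵁ V
  haveI : Smooth (V'.ι ≫ v₁.1) := by
    haveI := hVsm
    rw [show V'.ι ≫ v₁.1 = (v₁.1 ∣_ V) ≫ V.ι from (morphismRestrict_ι _ _).symm]
    infer_instance
  -- pass to the algebraic closure
  let K := AlgebraicClosure k
  haveI := ProjMor.isProper_toSpec 1 K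
  haveI := smooth_toSpec K
  let σ : Spec (CommRingCat.of K) ⟶ Spec (CommRingCat.of k) := Spec.map (CommRingCat.ofHom (algebraMap k K))
  haveI : Surjective σ := ⟨fun y => ⟨closedPoint K, Subsingleton.elim (α := PrimeSpectrum k) _ _⟩⟩
  obtain ⟨ε, hε, ⟨tw⟩⟩ := isP1Tw_toSpec k K σ
  let e₁ := ε.hom ≫ pullback.fst p σ
  have he : IsPullback e₁ (CohB1.ProjSpace.toSpec 1 K) p σ :=
    IsPullback.of_iso_pullback ⟨by rw [Category.assoc, pullback.condition, ← Category.assoc]; exact congrArg (· ≫ σ) hε⟩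
      ε rfl hε
  obtain ⟨v', c, sq, hc1, hc2⟩ := exists_baseField σ pX v₁ e₁ he
  haveI : Smooth (pullback.snd pX σ) := MorphismProperty.pullback_snd _ _ inferInstance
  haveI : Smooth (pullback.snd M₁.hom σ) := MorphismProperty.pullback_snd _ _ ‹Smooth M₁.hom›
  haveI : Surjective (pullback.fst pX σ) := MorphismProperty.pullback_fst _ _ inferInstance
  haveI : Surjective c := MorphismProperty.of_isPullback sq.flip ‹Surjective (pullback.fst pX σ)›
  let p' := CohB1.ProjSpace.toSpec 1 K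
  let MK : Over (Spec (CommRingCat.of K)) := Over.mk (pullback.snd M₁.hom σ)
  haveI : Smooth MK.hom := ‹Smooth (pullback.snd M₁.hom σ)›
  let qP := PicF.XTproj p' MK ≫ MK.hom
  haveI : Smooth (PicF.XTproj p' MK) := MorphismProperty.pullback_snd _ _ ‹Smooth p'›
  haveI : Smooth qP := inferInstanceAs (Smooth (PicF.XTproj p' MK ≫ MK.hom))
  have hEq : v'.1 ≫ pullback.snd pX σ = qP := v'.2.trans pullback.condition
  haveI : IsLocallyNoetherian X := LocallyOfFiniteType.isLocallyNoetherian pX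
  haveI : LocallyOfFiniteType (v₁.1 ≫ pX) := inferInstanceAs (LocallyOfFiniteType hW)
  haveI : LocallyOfFiniteType v₁.1 := locallyOfFiniteType_of_comp v₁.1 pX
  haveI : LocallyOfFinitePresentation v₁.1 := LocallyOfFinitePresentation.iff_locallyOfFiniteType.2 inferInstance
  haveI : LocallyOfFinitePresentation v'.1 :=
    MorphismProperty.of_isPullback sq ‹LocallyOfFinitePresentation v₁.1›
  haveI : JacobsonSpace ↥(PicF.XT p' MK) := LocallyOfFiniteType.jacobsonSpace qP
  obtain ⟨w', hw'⟩ := c.surjective w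
  obtain ⟨y, hy, hyc⟩ := nonempty_inter_closedPoints (X := (PicF.XT p' MK : Scheme.{u})) (Z := ((c ⁻¹ᵁ V' : Opens _) : Set _))
    ⟨w', show v₁.1 (c w') ∈ V by rw [hw']; exact hw⟩ (c ⁻¹ᵁ V').2.isLocallyClosed
  obtain ⟨⟨z, hz⟩, hzy⟩ : ∃ z₀ : {z : Spec (CommRingCat.of K) ⟶ PicF.XT p' MK // z ≫ qP = 𝟙 _}, z₀.1 (closedPoint K) = y :=
    ⟨_, congrArg Subtype.val ((pointEquivClosedPoint qP).apply_symm_apply ⟨y, hyc⟩)⟩
  subst hzy
  have hsm : z (closedPoint K) ∈ v'.1.smoothLocus :=
    SmDesc.preimage_smoothLocus_le sq (SmDesc.mem_smoothLocus_of_smooth_ι v₁.1 (U := V') hy)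
  let t := z ≫ pullback.fst p' MK.hom
  let mp := z ≫ pullback.snd p' MK.hom
  have ht : t ≫ p' = 𝟙 _ := by rw [Category.assoc, pullback.condition]; exact hz
  have hmp : mp ≫ MK.hom = 𝟙 _ := (Category.assoc _ _ _).trans hz
  let i : CohB1.ProjSpace 1 K ⟶ PicF.XT p' MK :=
    pullback.lift (𝟙 _) (p' ≫ mp) (by rw [Category.id_comp, Category.assoc, hmp, Category.comp_id])
  have hti : t ≫ i = z := by
    apply pullback.hom_ext
    · rw [Category.assoc, pullback.lift_fst, Category.comp_id]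
    · rw [Category.assoc, pullback.lift_snd, reassoc_of% ht]
  have hgood : Good (pullback.snd pX σ) (i ≫ v'.1) := by
    refine good_of_cotangent (pullback.snd pX σ) MK.hom mp v'.1 v'.2 i (pullback.lift_fst _ _ _)
      (pullback.lift_snd _ _ _) t ht ?_
    rw [hti]
    exact (SmDiff.cotangentMapAt_injective_iff v'.1 _).1
      ((SmDiff.formallySmooth_stalkMap_iff_injective qP (pullback.snd pX σ) v'.1 hEq hyc).1
        (Scheme.Hom.mem_smoothLocus.1 hsm))
  -- the curve comes from the point below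
  let g' : Over.mk σ ⟶ Over.mk qM := Over.homMk (mp ≫ pullback.fst M₁.hom σ ≫ j₁) (by
    show (mp ≫ pullback.fst M₁.hom σ ≫ j₁) ≫ qM = σ
    rw [Category.assoc mp, Category.assoc (pullback.fst M₁.hom σ)]
    exact (congrArg (mp ≫ ·) pullback.condition).trans ((Category.assoc _ _ _).symm.trans
      ((congrArg (· ≫ σ) hmp).trans (Category.id_comp σ))))
  have hcurve : (i ≫ v'.1) ≫ pullback.fst pX σ = ε.hom ≫ (MorSch.pull p pX g' v).1 := by
    rw [Category.assoc, ← sq.w]
    show i ≫ c ≫ PicF.XTmap p g₁ ≫ v.1 = ε.hom ≫ PicF.XTmap p g' ≫ v.1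
    rw [← Category.assoc, ← Category.assoc, ← Category.assoc]
    refine congrArg (· ≫ v.1) ?_
    apply pullback.hom_ext
    · simp only [Category.assoc, MorSch.XTmap_fst]
      rw [hc1, pullback.lift_fst_assoc, Category.id_comp]
      rfl
    · simp only [Category.assoc]
      refine ((congrArg (fun f => i ≫ c ≫ f) (pullback.lift_snd _ _ _)).trans ?_).trans
        (congrArg (ε.hom ≫ ·) (pullback.lift_snd _ _ _)).symm
      rw [reassoc_of% hc2, pullback.lift_snd_assoc, Category.assoc, ← Category.assoc ε.hom]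
      exact congrArg (· ≫ g'.left) hε.symm
  rw [good_congr (IsPullback.of_hasPullback pX σ), hcurve] at hgood
  exact ⟨g'.left (closedPoint K), (good_iff isFinLocFree_twistN v g' (Iso.refl _) ε (by simpa using hε) tw).1 hgood⟩

/-- The curve over a rational point, after extending the field. -/
theorem exists_curve_ext (σ : Spec (CommRingCat.of K) ⟶ Spec (CommRingCat.of k)) [Surjective σ]
    {q : X ⟶ Spec (CommRingCat.of k)} {M : Over (Spec (CommRingCat.of k))}
    (v : MorSch.Obj (CohB1.ProjSpace.toSpec 1 k) q M)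
    (m : Spec (CommRingCat.of k) ⟶ M.left) (hm : m ≫ M.hom = 𝟙 _) :
    ∃ (x : Spec (CommRingCat.of K) ⟶ M.left)
      (ε : CohB1.ProjSpace 1 K ≅ PicF.XT (CohB1.ProjSpace.toSpec 1 k) (Over.mk (x ≫ M.hom)))
      (e₁ : CohB1.ProjSpace 1 K ⟶ CohB1.ProjSpace 1 k),
      x (closedPoint K) = m (closedPoint k) ∧
      ε.hom ≫ PicF.XTproj (CohB1.ProjSpace.toSpec 1 k) _ = CohB1.ProjSpace.toSpec 1 K ∧ Surjective e₁ ∧
      ε.hom ≫ (MorSch.pull (CohB1.ProjSpace.toSpec 1 k) q (Over.homMk x rfl : Over.mk (x ≫ M.hom) ⟶ M) v).1 =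
        e₁ ≫ curveAt v m hm := by
  let p := CohB1.ProjSpace.toSpec 1 k
  obtain ⟨x, hxdef⟩ : ∃ x, x = σ ≫ m := ⟨_, rfl⟩
  have hx : x ≫ M.hom = σ := by rw [hxdef, Category.assoc, hm, Category.comp_id]
  obtain ⟨ε, hε, -⟩ := isP1Tw_toSpec k K (x ≫ M.hom)
  haveI : Surjective (x ≫ M.hom) := by rw [hx]; infer_instance
  haveI : Surjective (pullback.fst p (x ≫ M.hom)) := MorphismProperty.pullback_fst _ _ inferInstance
  refine ⟨x, ε, ε.hom ≫ pullback.fst p (x ≫ M.hom), ?_, hε,
    inferInstanceAs (Surjective (ε.hom ≫ pullback.fst p (x ≫ M.hom))), ?_⟩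
  · rw [hxdef, Scheme.Hom.comp_apply]
    rw [Subsingleton.elim (α := PrimeSpectrum k) (σ (closedPoint K)) (closedPoint k)]
  rw [MorSch.pull_val, curveAt, ← Category.assoc, ← Category.assoc]
  refine congrArg (· ≫ v.1) ?_
  apply pullback.hom_ext
  · rw [Category.assoc, MorSch.XTmap_fst, Category.assoc, pullback.lift_fst, Category.comp_id]
    rfl
  · rw [Category.assoc, Category.assoc, Category.assoc, pullback.lift_snd]
    refine (congrArg (ε.hom ≫ ·) (pullback.lift_snd _ _ _)).trans ?_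
    rw [← Category.assoc (pullback.fst p _), pullback.condition]
    show ε.hom ≫ pullback.snd p (x ≫ M.hom) ≫ x = ε.hom ≫ (pullback.snd p (x ≫ M.hom) ≫ x ≫ M.hom) ≫ m
    rw [Category.assoc, show (x ≫ M.hom) ≫ m = x from (congrArg (· ≫ m) hx).trans hxdef.symm]

/-- Over any field, the nonconstant members of a family of curves are those in an open. -/
theorem exists_nonconstOpen {q : X ⟶ Spec (CommRingCat.of k)} [IsSeparated q] [LocallyOfFiniteType q]
    {M : Over (Spec (CommRingCat.of k))} (v : MorSch.Obj (CohB1.ProjSpace.toSpec 1 k) q M) :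
    ∃ A : M.left.Opens, ∀ (m : Spec (CommRingCat.of k) ⟶ M.left) (hm : m ≫ M.hom = 𝟙 _),
      m (closedPoint k) ∈ A ↔ ¬ ∃ x : X, Set.range (curveAt v m hm).base ⊆ {x} := by
  haveI := smooth_toSpec k
  let p := CohB1.ProjSpace.toSpec 1 k
  obtain ⟨A, hA⟩ := exists_sep_open' v
  refine ⟨A, fun m hm => ?_⟩
  let L := AlgebraicClosure k
  let σ : Spec (CommRingCat.of L) ⟶ Spec (CommRingCat.of k) := Spec.map (CommRingCat.ofHom (algebraMap k L))
  haveI : Surjective σ := ⟨fun y => ⟨closedPoint L, Subsingleton.elim (α := PrimeSpectrum k) _ _⟩⟩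
  obtain ⟨x, ε, e₁, hxm, hε, he₁, hc⟩ := exists_curve_ext (K := L) σ v m hm
  let c := curveAt v m hm
  have hgq : (e₁ ≫ c) ≫ q = CohB1.ProjSpace.toSpec 1 L ≫ (x ≫ M.hom) := by
    rw [← hc, Category.assoc, (MorSch.pull p q _ v).2]
    refine (congrArg (ε.hom ≫ ·) pullback.condition).trans ?_
    rw [← Category.assoc]
    exact congrArg (· ≫ _) hε
  refine (Iff.of_eq (congrArg (· ∈ A) hxm.symm)).trans ((hA L x ε hε).trans ?_)
  rw [hc]
  constructor
  · rintro ⟨t, t', ht, ht', hne⟩ ⟨x₀, hx₀⟩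
    obtain ⟨t₀, -, ht₀, -⟩ := exists_two_points_chart (k := k)
    let a := t₀ ≫ c
    have ha : a ≫ q = 𝟙 _ := by rw [Category.assoc, show c ≫ q = p from curveAt_comp m hm, ht₀]
    have h1 : ∀ s : Spec (CommRingCat.of L) ⟶ CohB1.ProjSpace 1 L, s ≫ CohB1.ProjSpace.toSpec 1 L = 𝟙 _ →
        s ≫ e₁ ≫ c = (x ≫ M.hom) ≫ a := fun s hs => by
      have h2 := eq_of_apply_eq_rational a ha (s ≫ e₁ ≫ c)
        ((hx₀ ⟨(s ≫ e₁) (closedPoint L), rfl⟩).trans (hx₀ ⟨t₀ (closedPoint k), rfl⟩).symm)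
      rwa [Category.assoc s (e₁ ≫ c) q, hgq, reassoc_of% hs] at h2
    exact hne ((h1 t ht).trans (h1 t' ht').symm)
  · intro hnc
    haveI : LocallyOfFiniteType (pullback.snd q (x ≫ M.hom)) := MorphismProperty.pullback_snd _ _ inferInstance
    haveI : IsSeparated (pullback.snd q (x ≫ M.hom)) := MorphismProperty.pullback_snd _ _ inferInstance
    let g : CohB1.ProjSpace 1 L ⟶ pullback q (x ≫ M.hom) := pullback.lift (e₁ ≫ c) _ hgq
    have hg₁ : g ≫ pullback.fst q (x ≫ M.hom) = e₁ ≫ c := pullback.lift_fst _ _ _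
    have hg₂ : g ≫ pullback.snd q (x ≫ M.hom) = CohB1.ProjSpace.toSpec 1 L := pullback.lift_snd _ _ _
    obtain ⟨t, t', ht, ht', hne⟩ := (sep_iff_nonconst g hg₂).2 fun ⟨y, hy⟩ =>
      hnc ⟨pullback.fst q (x ≫ M.hom) y, by
        rintro _ ⟨z, rfl⟩
        obtain ⟨z', rfl⟩ := e₁.surjective z
        show (e₁ ≫ c) z' ∈ _
        rw [← hg₁, Scheme.Hom.comp_apply, show g z' = y from hy ⟨z', rfl⟩]
        rfl⟩
    refine ⟨t, t', ht, ht', fun h => hne (pullback.hom_ext ?_ ?_)⟩
    · rwa [Category.assoc, Category.assoc, hg₁]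
    · rw [Category.assoc, Category.assoc, hg₂, ht, ht']

end Groth.Agent.FreeCurve
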