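import Groth.Agent.FreeCurve.MorExist
import Groth.Agent.FreeCurve.NegPow
import Groth.Agent.FreeCurve.GoodLocus
import Groth.Agent.FreeCurve.MorP1
import Groth.Agent.ExtFund.CanonRows
import Groth.Agent.HQProj.Basic
import Groth.Agent.AVLine.P1
import Mathlib

/-!
# Free curves on the geometric fibres of a smooth projective morphism
-/

set_option autoImplicit false
set_option linter.style.haveILetI false
set_option backward.isDefEq.respectTransparency false
set_option backward.isDefEq.respectTransparency.types false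
set_option synthInstance.maxHeartbeats 400000
set_option maxHeartbeats 1000000

universe u

open CategoryTheory CategoryTheory.Limits AlgebraicGeometry TopologicalSpace Opposite
open IsLocalRing (closedPoint)

noncomputable section

namespace Groth.Agent.FreeCurve

theorem smooth_toBase (T : Scheme.{u}) : Smooth (CohB1.ProjSpaceOver.toBase 1 T) := by
  obtain ⟨e, he⟩ := PnSpec.exists_iso 1 (ULift.{u} ℤ)
  letI := Groth.Agent.AVLine.intAlg (ULift.{u} ℤ)
  haveI : Smooth (CohB1.ProjSpaceOver.toBase 1 (Spec (CommRingCat.of (ULift.{u} ℤ)))) :=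
    Groth.Agent.AVLine.smooth_toBase (ULift.{u} ℤ)
  haveI : Smooth (CohB1.ProjSpace.toSpec 1 (ULift.{u} ℤ)) := by rw [← he]; infer_instance
  exact MorphismProperty.pullback_snd _ _ inferInstance

theorem isFinLocFree_twistOver (T : Scheme.{u}) : FlatMod.IsFinLocFree (Twist.twistOver 1 T (-1)) :=
  SGA6Ext.isFinLocFree_pullback _
    (ResDesc.isFinLocFree_of_isInvertible (CohFinite.isInvertible_twist 1 (ULift.{u} ℤ) (-1)))

/-- Two points of the line separated by a curve. -/
def Sep {K : Type u} [Field K] {X : Scheme.{u}} (g : CohB1.ProjSpace 1 K ⟶ X) : Prop :=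
  ∃ t t' : Spec (CommRingCat.of K) ⟶ CohB1.ProjSpace 1 K, t ≫ CohB1.ProjSpace.toSpec 1 K = 𝟙 _ ∧
    t' ≫ CohB1.ProjSpace.toSpec 1 K = 𝟙 _ ∧ t ≫ g ≠ t' ≫ g

variable {Y X S : Scheme.{u}} {p : Y ⟶ S} {q : X ⟶ S}

/-- The non-contracted curves form an open. -/
theorem exists_sep_open' [Flat p] [LocallyOfFinitePresentation p] [IsSeparated q] {M : Over S}
    (v : MorSch.Obj p q M) :
    ∃ A : M.left.Opens, ∀ (K : Type u) [Field K] [IsAlgClosed K] (x : Spec (CommRingCat.of K) ⟶ M.left)
      (ε : CohB1.ProjSpace 1 K ≅ PicF.XT p (Over.mk (x ≫ M.hom))),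
      ε.hom ≫ PicF.XTproj p _ = CohB1.ProjSpace.toSpec 1 K →
      (x (closedPoint K) ∈ A ↔
        Sep (ε.hom ≫ (MorSch.pull p q (Over.homMk x rfl : Over.mk (x ≫ M.hom) ⟶ M) v).1)) := by
  let P := pullback p M.hom
  let pr : P ⟶ M.left := pullback.snd p M.hom
  haveI : Flat pr := MorphismProperty.pullback_snd _ _ inferInstance
  haveI : LocallyOfFinitePresentation pr := MorphismProperty.pullback_snd _ _ inferInstance
  let φ := pullback.fst pr pr ≫ pr
  haveI : Flat (pullback.fst pr pr) := MorphismProperty.pullback_fst _ _ inferInstance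
  haveI : LocallyOfFinitePresentation (pullback.fst pr pr) := MorphismProperty.pullback_fst _ _ inferInstance
  haveI : Flat φ := inferInstanceAs (Flat (pullback.fst pr pr ≫ pr))
  haveI : LocallyOfFinitePresentation φ := inferInstanceAs (LocallyOfFinitePresentation (pullback.fst pr pr ≫ pr))
  have hvq : v.1 ≫ q = pr ≫ M.hom := by rw [v.2, pullback.condition]
  let ab : pullback pr pr ⟶ pullback q q :=
    pullback.lift (pullback.fst pr pr ≫ v.1) (pullback.snd pr pr ≫ v.1) (by
      rw [Category.assoc, Category.assoc, hvq, ← Category.assoc, ← Category.assoc, pullback.condition])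
  let O : Set ↥(pullback pr pr) := (ab ⁻¹' Set.range (pullback.diagonal q))ᶜ
  have hO : IsOpen O :=
    ((pullback.diagonal q).isClosedEmbedding.isClosed_range.preimage ab.continuous).isOpen_compl
  refine ⟨⟨φ '' O, φ.isOpenMap O hO⟩, fun K _ _ x ε hε => ?_⟩
  let i : CohB1.ProjSpace 1 K ⟶ P := ε.hom ≫ PicF.XTmap p (Over.homMk x rfl : Over.mk (x ≫ M.hom) ⟶ M)
  have hipr : i ≫ pr = CohB1.ProjSpace.toSpec 1 K ≫ x := by
    rw [← hε, Category.assoc, Category.assoc]
    exact congrArg (ε.hom ≫ ·) (pullback.lift_snd _ _ _)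
  have hg : ε.hom ≫ (MorSch.pull p q (Over.homMk x rfl : Over.mk (x ≫ M.hom) ⟶ M) v).1 = i ≫ v.1 := by
    rw [MorSch.pull_val, ← Category.assoc]
  rw [hg]
  constructor
  · rintro ⟨o, ho, hox⟩
    obtain ⟨z, hz, -⟩ := Scheme.Pullback.exists_preimage_pullback (f := φ) (g := x) o (closedPoint K) hox
    haveI : LocallyOfFiniteType (pullback.snd φ x) := MorphismProperty.pullback_snd _ _ inferInstance
    haveI : JacobsonSpace ↥(pullback φ x) := LocallyOfFiniteType.jacobsonSpace (pullback.snd φ x)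
    obtain ⟨z₀, hz₀, hz₀c⟩ := nonempty_inter_closedPoints (Z := pullback.fst φ x ⁻¹' O)
      ⟨z, show pullback.fst φ x z ∈ O by rw [hz]; exact ho⟩
      (hO.preimage (pullback.fst φ x).continuous).isLocallyClosed
    let w₀ := (pointEquivClosedPoint (pullback.snd φ x)).symm ⟨z₀, hz₀c⟩
    have hw₀ : w₀.1 (closedPoint K) = z₀ :=
      congrArg Subtype.val ((pointEquivClosedPoint (pullback.snd φ x)).apply_symm_apply ⟨z₀, hz₀c⟩)
    let w := w₀.1 ≫ pullback.fst φ x
    have hwx : w ≫ φ = x := by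
      rw [Category.assoc, pullback.condition, reassoc_of% w₀.2]
    have hwO : w (closedPoint K) ∈ O := by
      show pullback.fst φ x (w₀.1 (closedPoint K)) ∈ O
      rw [hw₀]; exact hz₀
    let T := Over.mk (x ≫ M.hom)
    have mk : ∀ a : Spec (CommRingCat.of K) ⟶ P, a ≫ pr = x →
        ∃ t : Spec (CommRingCat.of K) ⟶ CohB1.ProjSpace 1 K,
          t ≫ CohB1.ProjSpace.toSpec 1 K = 𝟙 _ ∧ t ≫ i = a := fun a ha => by
      let b : Spec (CommRingCat.of K) ⟶ PicF.XT p T := pullback.lift (a ≫ pullback.fst p M.hom) (𝟙 _) (by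
        rw [Category.assoc, pullback.condition, ← Category.assoc, ha, Category.id_comp]; rfl)
      refine ⟨b ≫ ε.inv, ?_, ?_⟩
      · rw [← hε, Category.assoc, Iso.inv_hom_id_assoc, pullback.lift_snd]
      · show (b ≫ ε.inv) ≫ ε.hom ≫ PicF.XTmap p _ = a
        rw [Category.assoc, Iso.inv_hom_id_assoc]
        apply pullback.hom_ext
        · rw [Category.assoc, MorSch.XTmap_fst, pullback.lift_fst]
        · rw [Category.assoc]
          refine (congrArg (b ≫ ·) (pullback.lift_snd _ _ _)).trans ?_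
          rw [← Category.assoc, pullback.lift_snd, Category.id_comp]
          exact ha.symm
    obtain ⟨t, ht, hta⟩ := mk (w ≫ pullback.fst pr pr) (by rw [Category.assoc]; exact hwx)
    obtain ⟨t', ht', hta'⟩ := mk (w ≫ pullback.snd pr pr) (by
      rw [Category.assoc, ← pullback.condition]; exact hwx)
    refine ⟨t, t', ht, ht', fun heq => hwO ?_⟩
    rw [reassoc_of% hta, reassoc_of% hta'] at heq
    have hab : w ≫ ab = (w ≫ pullback.fst pr pr ≫ v.1) ≫ pullback.diagonal q := by
      apply pullback.hom_ext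
      · simp only [Category.assoc, ab, pullback.lift_fst, pullback.diagonal_fst, Category.comp_id]
      · simp only [Category.assoc, ab, pullback.lift_snd, pullback.diagonal_snd, Category.comp_id]
        exact heq.symm
    exact ⟨(w ≫ pullback.fst pr pr ≫ v.1) (closedPoint K), by
      rw [← Scheme.Hom.comp_apply, ← hab]; rfl⟩
  · rintro ⟨t, t', ht, ht', hne⟩
    have hcond : (t ≫ i) ≫ pr = (t' ≫ i) ≫ pr := by
      rw [Category.assoc t i pr, Category.assoc t' i pr, hipr, reassoc_of% ht, reassoc_of% ht']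
    let w : Spec (CommRingCat.of K) ⟶ pullback pr pr := pullback.lift (t ≫ i) (t' ≫ i) hcond
    refine ⟨w (closedPoint K), fun hmem => hne ?_, ?_⟩
    · let c := pullback.snd (pullback.diagonal q) (w ≫ ab)
      haveI : Surjective c := ⟨fun y => by
        obtain rfl : y = closedPoint K := Subsingleton.elim (α := PrimeSpectrum K) _ _
        obtain ⟨y', hy'⟩ := hmem
        obtain ⟨z, -, hz⟩ := Scheme.Pullback.exists_preimage_pullback (f := pullback.diagonal q) (g := w ≫ ab) y'
          (closedPoint K) hy'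
        exact ⟨z, hz⟩⟩
      haveI : IsClosedImmersion c := MorphismProperty.pullback_snd _ _ inferInstance
      haveI : IsIso c := isIso_of_isClosedImmersion_of_surjective c
      let r := inv c ≫ pullback.fst (pullback.diagonal q) (w ≫ ab)
      have hr : w ≫ ab = r ≫ pullback.diagonal q := by
        rw [Category.assoc, pullback.condition, IsIso.inv_hom_id_assoc]
      have h1 : r = t ≫ i ≫ v.1 := by
        have h := congrArg (· ≫ pullback.fst q q) hr
        simp only [w, ab, Category.assoc, pullback.lift_fst, pullback.lift_fst_assoc, pullback.diagonal_fst,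
          Category.comp_id] at h
        exact h.symm
      have h2 : r = t' ≫ i ≫ v.1 := by
        have h := congrArg (· ≫ pullback.snd q q) hr
        simp only [w, ab, Category.assoc, pullback.lift_snd, pullback.lift_snd_assoc, pullback.diagonal_snd,
          Category.comp_id] at h
        exact h.symm
      exact h1.symm.trans h2
    · rw [← Scheme.Hom.comp_apply]
      show (w ≫ pullback.fst pr pr ≫ pr) (closedPoint K) = _
      rw [pullback.lift_fst_assoc, Category.assoc, hipr, reassoc_of% ht]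

/-- The curves on which a bundle has no sections. -/
theorem exists_open_hh0 [IsProper p] [Flat p] [LocallyOfFinitePresentation p] {F : X.Modules}
    (hF : FlatMod.IsFinLocFree F) {M : Over S} (v : MorSch.Obj p q M) :
    ∃ A : M.left.Opens, ∀ (K : Type u) [Field K] (x : Spec (CommRingCat.of K) ⟶ M.left)
      (ε : CohB1.ProjSpace 1 K ≅ PicF.XT p (Over.mk (x ≫ M.hom))),
      ε.hom ≫ PicF.XTproj p _ = CohB1.ProjSpace.toSpec 1 K →
      (x (closedPoint K) ∈ A ↔ Subsingleton (Coh.HH (CohB1.ProjSpace 1 K) ((Scheme.Modules.pullback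
        (ε.hom ≫ (MorSch.pull p q (Over.homMk x rfl : Over.mk (x ≫ M.hom) ⟶ M) v).1)).obj F) 0)) := by
  haveI : IsProper (PicF.XTproj p M) := MorphismProperty.pullback_snd _ _ inferInstance
  haveI : Flat (PicF.XTproj p M) := MorphismProperty.pullback_snd _ _ inferInstance
  haveI : LocallyOfFinitePresentation (PicF.XTproj p M) := MorphismProperty.pullback_snd _ _ inferInstance
  let E := (Scheme.Modules.pullback v.1).obj F
  have hE : FlatMod.IsFinLocFree E := SGA6Ext.isFinLocFree_pullback _ hF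
  have hopen : IsOpen {m : M.left | PerfAux.betti (PicF.XTproj p M) E m 0 = 0} := by
    have h := BettiNN.isOpen_betti_lt (PicF.XTproj p M) (LocFree.isFP_of_isFinLocFree hE)
      (W7Hull.isFlatOver_of_isFinLocFree _ hE) 0 1
    simpa [Nat.lt_one_iff] using h
  refine ⟨⟨_, hopen⟩, fun K _ x ε hε => ?_⟩
  let g : Over.mk (x ≫ M.hom) ⟶ M := Over.homMk x rfl
  have sq : IsPullback (ε.hom ≫ PicF.XTmap p g) (CohB1.ProjSpace.toSpec 1 K) (PicF.XTproj p M) x :=
    (IsPullback.of_horiz_isIso (fst := ε.hom) (snd := CohB1.ProjSpace.toSpec 1 K)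
      (f := PicF.XTproj p (Over.mk (x ≫ M.hom))) (g := 𝟙 _) ⟨hε.trans (Category.comp_id _).symm⟩).paste_horiz
      (S17082.isPullback_XTmap p g) |> fun h => by simp only [Category.id_comp] at h; exact h
  haveI := ProjMor.isProper_toSpec 1 K
  haveI : IsProper (CohB1.ProjSpace 1 K ↘ Spec (CommRingCat.of K)) := ProjMor.isProper_toSpec 1 K
  let G := (Scheme.Modules.pullback (ε.hom ≫ (MorSch.pull p q g v).1)).obj F
  have hG : FlatMod.IsFinLocFree G := SGA6Ext.isFinLocFree_pullback _ hF
  have h1 : PerfAux.betti (PicF.XTproj p M) E (x (closedPoint K)) 0 = CurveRR.h K G 0 := by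
    rw [← PicSmooth.betti_of_isPullback sq E (LocFree.isQCoh_of_isFinLocFree hE) (closedPoint K) 0]
    exact (AbelMap.betti_field (X := CohB1.ProjSpace 1 K)
      (QC.isQCoh_pullback _ (LocFree.isQCoh_of_isFinLocFree hE)) _ 0).trans
        (CurveRR.h_eq_of_iso ((Scheme.Modules.pullbackComp _ v.1).app F ≪≫
          (Scheme.Modules.pullbackCongr (by rw [Category.assoc]; rfl)).app F) 0)
  haveI := CohFinite.finite_projSpace (n := 1) (R := K) G (isCoh_of_isFinLocFree hG) 0
  show PerfAux.betti (PicF.XTproj p M) E (x (closedPoint K)) 0 = 0 ↔ _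
  rw [h1]
  exact Module.finrank_eq_zero_iff_of_free (R := K) (M := Coh.HH (CohB1.ProjSpace 1 K) G 0)

/-- A curve without pulled back differentials is good. -/
theorem good_of_hh0 [Smooth q] [QuasiSeparated q] {K : Type u} [Field K] (g : CohB1.ProjSpace 1 K ⟶ X)
    (h : Subsingleton (Coh.HH (CohB1.ProjSpace 1 K) ((Scheme.Modules.pullback g).obj (Omega.sheaf q)) 0)) :
    Good q g :=
  neg_of_hh0 (SGA6Ext.isFinLocFree_pullback g (AVOmega.isFinLocFree_omega q)) h (-1) (by norm_num)

/-- Differentials on a curve do not change along a base change. -/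
theorem nonempty_pull_omega {X' T' T : Scheme.{u}} {f : X ⟶ T} {f' : X' ⟶ T'} {g : T' ⟶ T} {g' : X' ⟶ X}
    (hsq : IsPullback g' f' f g) [QuasiSeparated f] [QuasiSeparated f'] {K : Type u} [Field K]
    (h : CohB1.ProjSpace 1 K ⟶ X') :
    Nonempty ((Scheme.Modules.pullback h).obj (Omega.sheaf f') ≅
      (Scheme.Modules.pullback (h ≫ g')).obj (Omega.sheaf f)) := by
  obtain ⟨c⟩ := ExtFund.nonempty_omega_pullback hsq
  exact ⟨(Scheme.Modules.pullback h).mapIso c.symm ≪≫ (Scheme.Modules.pullbackComp h g').app _⟩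

/-- Being good does not change along a base change. -/
theorem good_congr {X' T' T : Scheme.{u}} {f : X ⟶ T} {f' : X' ⟶ T'} {g : T' ⟶ T} {g' : X' ⟶ X}
    (hsq : IsPullback g' f' f g) [QuasiSeparated f] [QuasiSeparated f'] {K : Type u} [Field K]
    (h : CohB1.ProjSpace 1 K ⟶ X') : Good f' h ↔ Good f (h ≫ g') := by
  obtain ⟨c⟩ := nonempty_pull_omega hsq h
  exact ⟨fun hh => CohQC.hh_subsingleton_of_iso (PicGrp.tensorModIso c (Iso.refl _)) _ hh,
    fun hh => CohQC.hh_subsingleton_of_iso (PicGrp.tensorModIso c (Iso.refl _)).symm _ hh⟩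

/-- Two points are separated in a fibre if and only if they are in the total space. -/
theorem sep_congr {X' T' T : Scheme.{u}} {f : X ⟶ T} {f' : X' ⟶ T'} {g : T' ⟶ T} {g' : X' ⟶ X}
    (hsq : IsPullback g' f' f g) {K : Type u} [Field K] {x : Spec (CommRingCat.of K) ⟶ T'}
    (h : CohB1.ProjSpace 1 K ⟶ X') (hh : h ≫ f' = CohB1.ProjSpace.toSpec 1 K ≫ x) : Sep h ↔ Sep (h ≫ g') := by
  constructor
  · rintro ⟨t, t', ht, ht', hne⟩
    refine ⟨t, t', ht, ht', fun he => hne (hsq.hom_ext ?_ ?_)⟩
    · simpa using he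
    · rw [Category.assoc, Category.assoc, hh, reassoc_of% ht, reassoc_of% ht']
  · rintro ⟨t, t', ht, ht', hne⟩
    exact ⟨t, t', ht, ht', fun he => hne (by rw [reassoc_of% he])⟩

/-- Nonconstant curves separate two points, and conversely. -/
theorem sep_iff_nonconst {K : Type u} [Field K] [IsAlgClosed K] {X : Scheme.{u}} {q : X ⟶ Spec (CommRingCat.of K)}
    [IsSeparated q] [LocallyOfFiniteType q] (g : CohB1.ProjSpace 1 K ⟶ X) (hg : g ≫ q = CohB1.ProjSpace.toSpec 1 K) :
    Sep g ↔ ¬ ∃ x : X, Set.range g.base ⊆ {x} := by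
  constructor
  · rintro ⟨t, t', ht, ht', hne⟩ ⟨x, hx⟩
    refine hne (ext_of_apply_closedPoint_eq q (by rw [Category.assoc, hg, ht]) (by rw [Category.assoc, hg, ht']) ?_)
    exact (hx ⟨t (closedPoint K), rfl⟩).trans (hx ⟨t' (closedPoint K), rfl⟩).symm
  · intro h
    obtain ⟨t, t', ht, ht', hne⟩ := exists_two_points g hg h
    exact ⟨t, t', ht, ht', fun he => hne (congrArg (fun φ : Spec (CommRingCat.of K) ⟶ X => φ (closedPoint K)) he)⟩

/-- Curve conditions which are open and imply freeness are open on the base. -/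
theorem isOpen_geomSet {T X : Scheme.{u}} (f : X ⟶ T) [IsLocallyNoetherian T] [Smooth f]
    (hproj : ∃ (N : ℕ) (ι : X ⟶ CohB1.ProjSpaceOver N T), IsClosedImmersion ι ∧
      ι ≫ CohB1.ProjSpaceOver.toBase N T = f)
    (C : ∀ {S X' : Scheme.{u}} (_ : X' ⟶ S) {K : Type u} [Field K], (CohB1.ProjSpace 1 K ⟶ X') → Prop)
    (hC : ∀ {S S' X' X'' : Scheme.{u}} {f' : X' ⟶ S} {f'' : X'' ⟶ S'} {j : S' ⟶ S} {j' : X'' ⟶ X'}
      (_ : IsPullback j' f'' f' j) [QuasiSeparated f'] [QuasiSeparated f''] {K : Type u} [Field K]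
      {x : Spec (CommRingCat.of K) ⟶ S'} (h : CohB1.ProjSpace 1 K ⟶ X''),
      h ≫ f'' = CohB1.ProjSpace.toSpec 1 K ≫ x → (C f'' h ↔ C f' (h ≫ j')))
    (hopen : ∀ {S X' Y : Scheme.{u}} (p : Y ⟶ S) (N : Y.Modules) (_ : IsP1Tw p N) (_ : FlatMod.IsFinLocFree N)
      [IsProper p] [Flat p] [LocallyOfFinitePresentation p] (q : X' ⟶ S) [Smooth q] [IsSeparated q] {M : Over S}
      (v : MorSch.Obj p q M), ∃ A : M.left.Opens, (A : Set M.left) ⊆ goodSet N v ∧
        ∀ (K : Type u) [Field K] [IsAlgClosed K] (x : Spec (CommRingCat.of K) ⟶ M.left)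
          (ε : CohB1.ProjSpace 1 K ≅ PicF.XT p (Over.mk (x ≫ M.hom))),
          ε.hom ≫ PicF.XTproj p _ = CohB1.ProjSpace.toSpec 1 K →
          Nonempty ((Scheme.Modules.pullback (ε.hom ≫ pullback.fst p (Over.mk (x ≫ M.hom)).hom)).obj N ≅
            Twist.twistProjSpace 1 K (-1)) →
          (x (closedPoint K) ∈ A ↔
            C q (ε.hom ≫ (MorSch.pull p q (Over.homMk x rfl : Over.mk (x ≫ M.hom) ⟶ M) v).1))) :
    IsOpen {t : ↥T | ∃ g : CohB1.ProjSpace 1 (AlgebraicClosure ↥(T.residueField t)) ⟶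
        pullback f (Spec.map (CommRingCat.ofHom (algebraMap ↥(T.residueField t)
          (AlgebraicClosure ↥(T.residueField t)))) ≫ T.fromSpecResidueField t),
      g ≫ pullback.snd f (Spec.map (CommRingCat.ofHom (algebraMap ↥(T.residueField t)
          (AlgebraicClosure ↥(T.residueField t)))) ≫ T.fromSpecResidueField t) =
        CohB1.ProjSpace.toSpec 1 (AlgebraicClosure ↥(T.residueField t)) ∧
      C (pullback.snd f (Spec.map (CommRingCat.ofHom (algebraMap ↥(T.residueField t)
          (AlgebraicClosure ↥(T.residueField t)))) ≫ T.fromSpecResidueField t)) g} := by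
  obtain ⟨N, ι, hι, hιf⟩ := hproj
  haveI := hι
  haveI := HQProj.isProper_toBase N T
  haveI : IsProper f := hιf ▸ inferInstance
  refine isOpen_iff_forall_mem_open.2 ?_
  rintro t₀ ⟨g₀, hg₀, hc₀⟩
  obtain ⟨U, hU, ht₀U, -⟩ := exists_isAffineOpen_mem_and_subset (X := T) (x := t₀) (U := ⊤) trivial
  haveI : IsAffine U := hU
  haveI : IsLocallyNoetherian (U : Scheme.{u}) := isLocallyNoetherian_of_isOpenImmersion U.ι
  haveI : IsNoetherian (U : Scheme.{u}) := {}
  let f' : pullback f U.ι ⟶ U := pullback.snd f U.ι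
  haveI : Smooth f' := MorphismProperty.pullback_snd _ _ inferInstance
  haveI : IsProper f' := MorphismProperty.pullback_snd _ _ inferInstance
  have hsq : IsPullback (pullback.fst f U.ι) f' f U.ι := IsPullback.of_hasPullback _ _
  let c : pullback f U.ι ⟶ CohB1.ProjSpaceOver N U :=
    pullback.lift (pullback.fst f U.ι ≫ ι ≫ pullback.fst _ _) f' (specULiftZIsTerminal.hom_ext _ _)
  haveI : IsClosedImmersion c := by
    haveI : IsProper (CohB1.ProjSpaceOver.toBase N U) := HQProj.isProper_toBase N U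
    let d : CohB1.ProjSpaceOver N U ⟶ CohB1.ProjSpaceOver N T :=
      pullback.lift (pullback.fst _ _) (pullback.snd _ _ ≫ U.ι) (specULiftZIsTerminal.hom_ext _ _)
    have hd : IsPullback d (CohB1.ProjSpaceOver.toBase N U) (CohB1.ProjSpaceOver.toBase N T) U.ι := by
      refine IsPullback.of_right (h₁₂ := pullback.fst _ _) (h₂₂ := specULiftZIsTerminal.from T)
        (v₁₃ := CohB1.ProjSpace.toSpec N (ULift.{u} ℤ)) ?_ (pullback.lift_snd _ _ _) (IsPullback.of_hasPullback _ _)
      rw [pullback.lift_fst, specULiftZIsTerminal.hom_ext (U.ι ≫ specULiftZIsTerminal.from T)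
        (specULiftZIsTerminal.from _)]
      exact IsPullback.of_hasPullback _ _
    have hcd : c ≫ d = pullback.fst f U.ι ≫ ι := by
      apply pullback.hom_ext
      · rw [Category.assoc, pullback.lift_fst, pullback.lift_fst, Category.assoc]
      · rw [Category.assoc, pullback.lift_snd, pullback.lift_snd_assoc, ← hsq.w, Category.assoc, ← hιf]
        rfl
    have hcsq : IsPullback c (pullback.fst f U.ι) d ι := by
      refine IsPullback.of_right ?_ hcd (hd.flip)
      rw [show c ≫ CohB1.ProjSpaceOver.toBase N (U : Scheme.{u}) = f' from pullback.lift_snd _ _ _, hιf]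
      exact hsq.flip
    exact MorphismProperty.of_isPullback (P := @IsClosedImmersion) hcsq.flip hι
  let p := CohB1.ProjSpaceOver.toBase 1 (U : Scheme.{u})
  let Nt := Twist.twistOver 1 (U : Scheme.{u}) (-1)
  haveI : Smooth p := smooth_toBase _
  haveI : IsProper p := HQProj.isProper_toBase 1 _
  obtain ⟨M, hlft, v, hM⟩ := exists_univN (p := p) (𝟙 _) (Category.id_comp _) c (pullback.lift_snd _ _ _)
  haveI := hlft
  obtain ⟨A, hAgood, hA⟩ := hopen p Nt (isP1Tw_toBase _) (isFinLocFree_twistOver _) f' v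
  have hsm : Smooth (A.ι ≫ M.hom) := by
    refine IsZariskiLocalAtSource.of_iSup_eq_top (P := @Smooth)
      (fun V : {V : (A : Scheme.{u}).Opens // Smooth (V.ι ≫ A.ι ≫ M.hom)} => V.1)
      (eq_top_iff.2 fun x _ => ?_) fun V => V.2
    obtain ⟨V, hV, hsmV⟩ := exists_smooth_nhd_of_mem (isFinLocFree_twistOver _) (isP1Tw_toBase _) hM (m := x.1)
      (hAgood x.2)
    refine Opens.mem_iSup.2 ⟨⟨A.ι ⁻¹ᵁ V, ?_⟩, hV⟩
    haveI := hsmV
    rw [← Category.assoc, ← morphismRestrict_ι, Category.assoc]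
    haveI : Smooth (A.ι ∣_ V) := inferInstance
    infer_instance
  have hVo : IsOpen (U.ι '' (M.hom '' (A : Set M.left))) := by
    refine U.ι.isOpenEmbedding.isOpenMap _ ?_
    haveI := hsm
    have h := (A.ι ≫ M.hom).isOpenMap.isOpen_range
    rwa [show Set.range (A.ι ≫ M.hom) = M.hom '' (A : Set M.left) from
      (Set.range_comp M.hom A.ι).trans (congrArg (M.hom '' ·) A.range_ι)] at h
  refine ⟨_, ?_, hVo, ?_⟩
  · rintro _ ⟨t', ⟨m, hm, hmt⟩, rfl⟩
    set t := U.ι t'
    let K := AlgebraicClosure ↥(T.residueField t)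
    let s := Spec.map (CommRingCat.ofHom (algebraMap ↥(T.residueField t) K)) ≫ T.fromSpecResidueField t
    have hst : s (closedPoint K) = t := Scheme.fromSpecResidueField_apply t _
    have hrange : Set.range s ⊆ Set.range U.ι := by
      rintro _ ⟨y, rfl⟩
      obtain rfl : y = closedPoint K := Subsingleton.elim (α := PrimeSpectrum K) _ _
      exact ⟨t', hst.symm⟩
    let s' := IsOpenImmersion.lift U.ι s hrange
    have hs' : s' ≫ U.ι = s := IsOpenImmersion.lift_fac _ _ _
    have hs't : s' (closedPoint K) = t' := U.ι.isOpenEmbedding.injective (by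
      rw [← Scheme.Hom.comp_apply, hs']; exact hst)
    obtain ⟨z, hz, -⟩ := Scheme.Pullback.exists_preimage_pullback (f := A.ι ≫ M.hom) (g := s') ⟨m, hm⟩
      (closedPoint K) (by rw [Scheme.Hom.comp_apply, hs't]; exact hmt)
    haveI : LocallyOfFiniteType (pullback.snd (A.ι ≫ M.hom) s') := MorphismProperty.pullback_snd _ _ inferInstance
    haveI : JacobsonSpace ↥(pullback (A.ι ≫ M.hom) s') :=
      LocallyOfFiniteType.jacobsonSpace (pullback.snd (A.ι ≫ M.hom) s')
    obtain ⟨z₀, -, hz₀⟩ := nonempty_inter_closedPoints (X := (pullback (A.ι ≫ M.hom) s' : Scheme.{u}))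
      (Z := Set.univ) ⟨z, trivial⟩ isClosed_univ.isLocallyClosed
    let w := (pointEquivClosedPoint (pullback.snd (A.ι ≫ M.hom) s')).symm ⟨z₀, hz₀⟩
    let x := w.1 ≫ pullback.fst (A.ι ≫ M.hom) s' ≫ A.ι
    have hx : x ≫ M.hom = s' := by
      rw [Category.assoc, Category.assoc, pullback.condition, reassoc_of% w.2]
    have hxA : x (closedPoint K) ∈ A := ((w.1 ≫ pullback.fst (A.ι ≫ M.hom) s') (closedPoint K)).2
    obtain ⟨ε, hε, hw⟩ := isP1Tw_toBase (U : Scheme.{u}) K (x ≫ M.hom)
    let h := ε.hom ≫ (MorSch.pull p f' (Over.homMk x rfl : Over.mk (x ≫ M.hom) ⟶ M) v).1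
    have hC' := (hA K x ε hε hw).1 hxA
    have hh : h ≫ f' = CohB1.ProjSpace.toSpec 1 K ≫ s' := by
      rw [Category.assoc, (MorSch.pull p f' _ v).2]
      refine (congrArg (ε.hom ≫ ·) pullback.condition).trans ?_
      rw [← Category.assoc]
      exact (congrArg (· ≫ _) hε).trans (congrArg (CohB1.ProjSpace.toSpec 1 K ≫ ·) hx)
    let hsk : IsPullback (pullback.fst f s) (pullback.snd f s) f s := IsPullback.of_hasPullback _ _
    let g : CohB1.ProjSpace 1 K ⟶ pullback f s := pullback.lift (h ≫ pullback.fst f U.ι)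
      (CohB1.ProjSpace.toSpec 1 K) (by rw [Category.assoc, hsq.w, reassoc_of% hh, hs'])
    refine ⟨g, pullback.lift_snd _ _ _, ?_⟩
    refine (hC hsk (x := 𝟙 _) g ((pullback.lift_snd _ _ _).trans (Category.comp_id _).symm)).2 ?_
    rw [pullback.lift_fst]
    exact (hC hsq h hh).1 hC'
  · let K := AlgebraicClosure ↥(T.residueField t₀)
    let s := Spec.map (CommRingCat.ofHom (algebraMap ↥(T.residueField t₀) K)) ≫ T.fromSpecResidueField t₀
    have hst : s (closedPoint K) = t₀ := Scheme.fromSpecResidueField_apply t₀ _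
    have hrange : Set.range s ⊆ Set.range U.ι := by
      rintro _ ⟨y, rfl⟩
      obtain rfl : y = closedPoint K := Subsingleton.elim (α := PrimeSpectrum K) _ _
      rw [U.range_ι, hst]
      exact ht₀U
    let s' := IsOpenImmersion.lift U.ι s hrange
    have hs' : s' ≫ U.ι = s := IsOpenImmersion.lift_fac _ _ _
    let hsk : IsPullback (pullback.fst f s) (pullback.snd f s) f s := IsPullback.of_hasPullback _ _
    let h : CohB1.ProjSpace 1 K ⟶ pullback f U.ι := pullback.lift (g₀ ≫ pullback.fst f s)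
      (CohB1.ProjSpace.toSpec 1 K ≫ s') (by
        rw [Category.assoc, pullback.condition, reassoc_of% hg₀, Category.assoc, hs'])
    have hh : h ≫ f' = CohB1.ProjSpace.toSpec 1 K ≫ s' := pullback.lift_snd _ _ _
    have hC' : C f' h := by
      refine (hC hsq h hh).2 ?_
      rw [pullback.lift_fst]
      exact (hC hsk (x := 𝟙 _) g₀ (hg₀.trans (Category.comp_id _).symm)).1 hc₀
    obtain ⟨ε, hε, hw⟩ := isP1Tw_toBase (U : Scheme.{u}) K s'
    let T₁ : Over (U : Scheme.{u}) := Over.mk s'
    haveI : IsLocallyNoetherian T₁.left := inferInstanceAs (IsLocallyNoetherian (Spec (CommRingCat.of K)))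
    let φ : MorSch.Obj p f' T₁ := ⟨ε.inv ≫ h, by
      rw [Category.assoc, hh, Iso.inv_comp_eq, ← hε, Category.assoc]
      exact congrArg (ε.hom ≫ ·) pullback.condition.symm⟩
    obtain ⟨a, ha, -⟩ := hM.2 T₁ φ
    refine ⟨s' (closedPoint K), ⟨a.left (closedPoint K), ?_, ?_⟩, ?_⟩
    · have hav : ε.hom ≫ PicF.XTmap p a ≫ v.1 = h := by
        rw [show PicF.XTmap p a ≫ v.1 = ε.inv ≫ h from congrArg Subtype.val ha, Iso.hom_inv_id_assoc]
      have key : ∀ (s'' : Spec (CommRingCat.of K) ⟶ (U : Scheme.{u})) (x : Spec (CommRingCat.of K) ⟶ M.left)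
          (hx : x ≫ M.hom = s'') (ε : CohB1.ProjSpace 1 K ≅ PicF.XT p (Over.mk s''))
          (_ : ε.hom ≫ PicF.XTproj p (Over.mk s'') = CohB1.ProjSpace.toSpec 1 K)
          (_ : Nonempty ((Scheme.Modules.pullback (ε.hom ≫ pullback.fst p (Over.mk s'').hom)).obj Nt ≅
            Twist.twistProjSpace 1 K (-1))),
          C f' (ε.hom ≫ PicF.XTmap p (Over.homMk x hx : Over.mk s'' ⟶ M) ≫ v.1) → x (closedPoint K) ∈ A := by
        rintro _ x rfl ε' hε' hw' hc
        exact (hA K x ε' hε' hw').2 hc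
      refine key s' a.left (Over.w a) ε hε hw ?_
      rw [show (Over.homMk a.left (Over.w a) : Over.mk s' ⟶ M) = a from Over.OverMorphism.ext rfl, hav]
      exact hC'
    · rw [← Scheme.Hom.comp_apply, Over.w a]; rfl
    · rw [← Scheme.Hom.comp_apply, hs']; exact hst

end Groth.Agent.FreeCurve
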