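import Groth.Agent.FreeCurve.SmoothEv
import Groth.Agent.FreeCurve.GeomFree
import Groth.Agent.SmDesc.Scheme
import Mathlib

/-!
# The evaluation map is smooth along the good curves, over any field
-/

set_option autoImplicit false
set_option linter.style.haveILetI false
set_option backward.isDefEq.respectTransparency false
set_option backward.isDefEq.respectTransparency.types false
set_option synthInstance.maxHeartbeats 400000
set_option maxHeartbeats 1000000

universe u

open CategoryTheory CategoryTheory.Limits AlgebraicGeometry TopologicalSpace Opposite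
open IsLocalRing (closedPoint)

noncomputable section

namespace Groth.Agent.FreeCurve

variable {k K : Type u} [Field k] [Field K] {X : Scheme.{u}}

/-- The scheme of morphisms changes base with the field. -/
theorem exists_univN_baseField (σ : Spec (CommRingCat.of K) ⟶ Spec (CommRingCat.of k))
    (q : X ⟶ Spec (CommRingCat.of k)) {M : Over (Spec (CommRingCat.of k))} [LocallyOfFiniteType M.hom]
    (v : MorSch.Obj (CohB1.ProjSpace.toSpec 1 k) q M) (hM : IsUnivN (CohB1.ProjSpace.toSpec 1 k) q M v)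
    (e₁ : CohB1.ProjSpace 1 K ⟶ CohB1.ProjSpace 1 k)
    (he : IsPullback e₁ (CohB1.ProjSpace.toSpec 1 K) (CohB1.ProjSpace.toSpec 1 k) σ) :
    ∃ (v' : MorSch.Obj (CohB1.ProjSpace.toSpec 1 K) (pullback.snd q σ) (Over.mk (pullback.snd M.hom σ)))
      (c : PicF.XT (CohB1.ProjSpace.toSpec 1 K) (Over.mk (pullback.snd M.hom σ)) ⟶
        PicF.XT (CohB1.ProjSpace.toSpec 1 k) M),
      IsUnivN (CohB1.ProjSpace.toSpec 1 K) (pullback.snd q σ) (Over.mk (pullback.snd M.hom σ)) v' ∧
      IsPullback c v'.1 v.1 (pullback.fst q σ) ∧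
      c ≫ pullback.fst (CohB1.ProjSpace.toSpec 1 k) M.hom = pullback.fst _ _ ≫ e₁ ∧
      c ≫ pullback.snd (CohB1.ProjSpace.toSpec 1 k) M.hom = pullback.snd _ _ ≫ pullback.fst M.hom σ := by
  let p := CohB1.ProjSpace.toSpec 1 k
  let p' := CohB1.ProjSpace.toSpec 1 K
  let M' : Over (Spec (CommRingCat.of K)) := Over.mk (pullback.snd M.hom σ)
  let c : PicF.XT p' M' ⟶ PicF.XT p M := pullback.lift (pullback.fst p' M'.hom ≫ e₁)
    (pullback.snd p' M'.hom ≫ pullback.fst M.hom σ) (by
      rw [Category.assoc, Category.assoc, he.w, pullback.condition, ← Category.assoc, pullback.condition]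
      rfl)
  have hc1 : c ≫ pullback.fst p M.hom = pullback.fst p' M'.hom ≫ e₁ := pullback.lift_fst _ _ _
  have hc2 : c ≫ pullback.snd p M.hom = pullback.snd p' M'.hom ≫ pullback.fst M.hom σ := pullback.lift_snd _ _ _
  have hw : (c ≫ v.1) ≫ q = (pullback.fst p' M'.hom ≫ p') ≫ σ := by
    rw [Category.assoc, v.2, ← Category.assoc, hc1, Category.assoc, he.w, Category.assoc]
  let v' : MorSch.Obj p' (pullback.snd q σ) M' :=
    ⟨pullback.lift (c ≫ v.1) (pullback.fst p' M'.hom ≫ p') hw, pullback.lift_snd _ _ _⟩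
  have sqc : IsPullback c (pullback.snd p' M'.hom ≫ M'.hom) (pullback.snd p M.hom ≫ M.hom) σ := by
    refine IsPullback.paste_vert ?_ (IsPullback.of_hasPullback M.hom σ)
    refine IsPullback.of_right (h₁₂ := pullback.fst p M.hom) (v₁₃ := p) (h₂₂ := M.hom) ?_ hc2
      (IsPullback.of_hasPullback p M.hom)
    rw [hc1, pullback.condition]
    exact (IsPullback.of_hasPullback p' M'.hom).paste_horiz he
  haveI : LocallyOfFiniteType (pullback.snd M.hom σ) := MorphismProperty.pullback_snd _ _ inferInstance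
  refine ⟨v', c, ⟨LocallyOfFiniteType.isLocallyNoetherian (pullback.snd M.hom σ), fun T _ φ => ?_⟩, ?_, hc1, hc2⟩
  · let T₀ : Over (Spec (CommRingCat.of k)) := Over.mk (T.hom ≫ σ)
    haveI : IsLocallyNoetherian T₀.left := ‹IsLocallyNoetherian T.left›
    let d : PicF.XT p' T ≅ PicF.XT p T₀ := ((IsPullback.of_hasPullback p' T.hom).paste_horiz he).isoPullback
    have hd1 : d.hom ≫ pullback.fst p T₀.hom = pullback.fst p' T.hom ≫ e₁ := IsPullback.isoPullback_hom_fst _
    have hd2 : d.hom ≫ pullback.snd p T₀.hom = pullback.snd p' T.hom := IsPullback.isoPullback_hom_snd _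
    have key : ∀ (g : T ⟶ M') (g₀ : T₀ ⟶ M), g.left ≫ pullback.fst M.hom σ = g₀.left →
        PicF.XTmap p' g ≫ c = d.hom ≫ PicF.XTmap p g₀ := fun g g₀ hg => by
      apply pullback.hom_ext
      · rw [Category.assoc, Category.assoc, hc1, MorSch.XTmap_fst, hd1, ← Category.assoc, MorSch.XTmap_fst]
      · rw [Category.assoc, Category.assoc, hc2, ← Category.assoc]
        refine (congrArg (· ≫ _) (pullback.lift_snd _ _ _)).trans ?_
        refine (Category.assoc _ _ _).trans ?_
        refine Eq.trans ?_ (congrArg (d.hom ≫ ·) (pullback.lift_snd _ _ _)).symm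
        rw [← Category.assoc d.hom, hd2, hg]
    let φ₀ : MorSch.Obj p q T₀ := ⟨d.inv ≫ φ.1 ≫ pullback.fst q σ, by
      rw [Category.assoc, Iso.inv_comp_eq, Category.assoc]
      refine (congrArg (φ.1 ≫ ·) pullback.condition).trans ?_
      rw [← Category.assoc φ.1]
      refine (congrArg (· ≫ σ) φ.2).trans ?_
      rw [← Category.assoc d.hom, hd1, Category.assoc, Category.assoc, he.w]⟩
    obtain ⟨g₀, hg₀, hg₀u⟩ := hM.2 T₀ φ₀
    let g : T ⟶ M' := Over.homMk (pullback.lift g₀.left T.hom (Over.w g₀)) (pullback.lift_snd _ _ _)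
    refine ⟨g, ?_, fun g' hg' => ?_⟩
    · refine MorSch.Obj.ext (pullback.hom_ext ?_ ((MorSch.pull p' (pullback.snd q σ) g v').2.trans φ.2.symm))
      show (PicF.XTmap p' g ≫ v'.1) ≫ pullback.fst q σ = _
      rw [Category.assoc, show v'.1 ≫ pullback.fst q σ = c ≫ v.1 from pullback.lift_fst _ _ _, ← Category.assoc,
        key g g₀ (pullback.lift_fst _ _ _), Category.assoc,
        show PicF.XTmap p g₀ ≫ v.1 = φ₀.1 from congrArg Subtype.val hg₀, Iso.hom_inv_id_assoc]
    · let g'₀ : T₀ ⟶ M := Over.homMk (g'.left ≫ pullback.fst M.hom σ) (by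
        show (g'.left ≫ pullback.fst M.hom σ) ≫ M.hom = T.hom ≫ σ
        rw [Category.assoc, pullback.condition, ← Category.assoc]
        exact congrArg (· ≫ σ) (Over.w g'))
      have h0 : g'₀ = g₀ := by
        refine hg₀u g'₀ (MorSch.Obj.ext ?_)
        show PicF.XTmap p g'₀ ≫ v.1 = d.inv ≫ φ.1 ≫ pullback.fst q σ
        rw [Iso.eq_inv_comp, ← Category.assoc, ← key g' g'₀ rfl, Category.assoc,
          ← show v'.1 ≫ pullback.fst q σ = c ≫ v.1 from pullback.lift_fst _ _ _, ← Category.assoc,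
          show PicF.XTmap p' g' ≫ v'.1 = φ.1 from congrArg Subtype.val hg']
      refine Over.OverMorphism.ext (pullback.hom_ext ?_ ?_)
      · exact (congrArg CommaMorphism.left h0).trans (pullback.lift_fst _ _ _).symm
      · exact (Over.w g').trans (pullback.lift_snd _ _ _).symm
  · refine IsPullback.of_bot ?_ (pullback.lift_fst _ _ _).symm (IsPullback.of_hasPullback q σ)
    rw [show v'.1 ≫ pullback.snd q σ = pullback.fst p' M'.hom ≫ p' from pullback.lift_snd _ _ _, v.2,
      pullback.condition, pullback.condition]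
    exact sqc

/-- The curve of the base changed point. -/
theorem curveAt_baseField {σ : Spec (CommRingCat.of K) ⟶ Spec (CommRingCat.of k)} {q : X ⟶ Spec (CommRingCat.of k)}
    {M : Over (Spec (CommRingCat.of k))} {v : MorSch.Obj (CohB1.ProjSpace.toSpec 1 k) q M}
    {v' : MorSch.Obj (CohB1.ProjSpace.toSpec 1 K) (pullback.snd q σ) (Over.mk (pullback.snd M.hom σ))}
    (ε : CohB1.ProjSpace 1 K ≅ PicF.XT (CohB1.ProjSpace.toSpec 1 k) (Over.mk σ))
    (hε : ε.hom ≫ PicF.XTproj (CohB1.ProjSpace.toSpec 1 k) (Over.mk σ) = CohB1.ProjSpace.toSpec 1 K)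
    {c : PicF.XT (CohB1.ProjSpace.toSpec 1 K) (Over.mk (pullback.snd M.hom σ)) ⟶
      PicF.XT (CohB1.ProjSpace.toSpec 1 k) M}
    (sq : IsPullback c v'.1 v.1 (pullback.fst q σ))
    (hc1 : c ≫ pullback.fst (CohB1.ProjSpace.toSpec 1 k) M.hom = pullback.fst _ _ ≫
      ε.hom ≫ pullback.fst (CohB1.ProjSpace.toSpec 1 k) σ)
    (hc2 : c ≫ pullback.snd (CohB1.ProjSpace.toSpec 1 k) M.hom = pullback.snd _ _ ≫ pullback.fst M.hom σ)
    (mp : Spec (CommRingCat.of k) ⟶ M.left) (hmp : mp ≫ M.hom = 𝟙 _)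
    (mp' : Spec (CommRingCat.of K) ⟶ pullback M.hom σ) (hmp' : mp' ≫ pullback.snd M.hom σ = 𝟙 _)
    (h : mp' ≫ pullback.fst M.hom σ = σ ≫ mp) :
    curveAt v' mp' hmp' ≫ pullback.fst q σ = ε.hom ≫ (MorSch.pull (CohB1.ProjSpace.toSpec 1 k) q
      (Over.homMk (σ ≫ mp) (by
        show (σ ≫ mp) ≫ M.hom = σ
        rw [Category.assoc, hmp, Category.comp_id]) : Over.mk σ ⟶ M) v).1 := by
  rw [curveAt, Category.assoc, ← sq.w, MorSch.pull_val, ← Category.assoc, ← Category.assoc]
  refine congrArg (· ≫ v.1) ?_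
  apply pullback.hom_ext
  · rw [Category.assoc, hc1, pullback.lift_fst_assoc, Category.id_comp, Category.assoc, MorSch.XTmap_fst]
    rfl
  · rw [Category.assoc, hc2, pullback.lift_snd_assoc, Category.assoc, h, Category.assoc]
    refine Eq.trans ?_ (congrArg (ε.hom ≫ ·) (pullback.lift_snd _ _ _)).symm
    rw [← Category.assoc ε.hom]
    exact congrArg (· ≫ (σ ≫ mp)) hε.symm

/-- The evaluation map is smooth near the fibre of a good curve. -/
theorem exists_smooth_nhd_ev (q : X ⟶ Spec (CommRingCat.of k)) [Smooth q] [QuasiSeparated q]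
    {M : Over (Spec (CommRingCat.of k))} [LocallyOfFiniteType M.hom] {v : MorSch.Obj (CohB1.ProjSpace.toSpec 1 k) q M}
    (hM : IsUnivN (CohB1.ProjSpace.toSpec 1 k) q M v) (mp : Spec (CommRingCat.of k) ⟶ M.left)
    (hmp : mp ≫ M.hom = 𝟙 _) (hgood : Good q (curveAt v mp hmp))
    (z : ↥(PicF.XT (CohB1.ProjSpace.toSpec 1 k) M))
    (hz : pullback.snd (CohB1.ProjSpace.toSpec 1 k) M.hom z = mp (closedPoint k)) :
    ∃ U : (PicF.XT (CohB1.ProjSpace.toSpec 1 k) M).Opens, z ∈ U ∧ Smooth (U.ι ≫ v.1) := by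
  haveI := ProjMor.isProper_toSpec 1 k
  haveI := smooth_toSpec k
  let K := AlgebraicClosure k
  haveI := ProjMor.isProper_toSpec 1 K
  haveI := smooth_toSpec K
  let σ : Spec (CommRingCat.of K) ⟶ Spec (CommRingCat.of k) := Spec.map (CommRingCat.ofHom (algebraMap k K))
  haveI : Flat σ := Flat.SpecMap_iff.2 (RingHom.Flat.of_isField (Field.toIsField _) _)
  haveI : Surjective σ := ⟨fun y => ⟨closedPoint K, Subsingleton.elim (α := PrimeSpectrum k) _ _⟩⟩
  obtain ⟨ε, hε, ⟨w⟩⟩ := isP1Tw_toSpec k K σ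
  let e₁ := ε.hom ≫ pullback.fst (CohB1.ProjSpace.toSpec 1 k) σ
  have he : IsPullback e₁ (CohB1.ProjSpace.toSpec 1 K) (CohB1.ProjSpace.toSpec 1 k) σ :=
    IsPullback.of_iso_pullback ⟨by rw [Category.assoc, pullback.condition, ← Category.assoc]; exact congrArg (· ≫ σ) hε⟩
      ε rfl hε
  obtain ⟨v', c, hM', sq, hc1, hc2⟩ := exists_univN_baseField σ q v hM e₁ he
  haveI : Smooth (pullback.snd q σ) := MorphismProperty.pullback_snd _ _ inferInstance
  haveI : LocallyOfFiniteType (Over.mk (pullback.snd M.hom σ)).hom :=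
    MorphismProperty.pullback_snd _ _ inferInstance
  haveI : Flat (pullback.fst q σ) := MorphismProperty.pullback_fst _ _ inferInstance
  haveI : Surjective (pullback.fst q σ) := MorphismProperty.pullback_fst _ _ inferInstance
  haveI : Surjective c := MorphismProperty.of_isPullback sq.flip ‹Surjective (pullback.fst q σ)›
  obtain ⟨z', rfl⟩ := c.surjective z
  haveI : IsLocallyNoetherian X := LocallyOfFiniteType.isLocallyNoetherian q
  haveI : LocallyOfFiniteType (pullback.snd (CohB1.ProjSpace.toSpec 1 k) M.hom) :=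
    MorphismProperty.pullback_snd _ _ inferInstance
  haveI : LocallyOfFiniteType (v.1 ≫ q) := by rw [v.2, pullback.condition]; infer_instance
  haveI : LocallyOfFiniteType v.1 := locallyOfFiniteType_of_comp v.1 q
  haveI : LocallyOfFinitePresentation v.1 := LocallyOfFinitePresentation.iff_locallyOfFiniteType.2 inferInstance
  haveI : LocallyOfFinitePresentation v'.1 :=
    MorphismProperty.of_isPullback sq ‹LocallyOfFinitePresentation v.1›
  suffices hgoal : z' ∈ v'.1.smoothLocus by
    have h1 := SmDesc.mem_smoothLocus_of_isPullback sq hgoal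
    have h2 := SmDesc.smooth_smoothLocus v.1
    exact Exists.intro v.1.smoothLocus (And.intro h1 h2)
  -- the point of the fibre
  let mp' : Spec (CommRingCat.of K) ⟶ pullback M.hom σ := pullback.lift (σ ≫ mp) (𝟙 _) (by
    rw [Category.assoc, hmp, Category.comp_id, Category.id_comp])
  have hmp' : mp' ≫ pullback.snd M.hom σ = 𝟙 _ := pullback.lift_snd _ _ _
  have sqm : IsPullback mp' σ (pullback.fst M.hom σ) mp := by
    refine IsPullback.of_right (h₁₂ := pullback.snd M.hom σ) (v₁₃ := σ) (h₂₂ := M.hom) ?_ (pullback.lift_fst _ _ _)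
      (IsPullback.of_hasPullback M.hom σ).flip
    rw [hmp', hmp]
    exact IsPullback.of_id_fst
  have hzm : pullback.snd (CohB1.ProjSpace.toSpec 1 K) (pullback.snd M.hom σ) z' = mp' (closedPoint K) := by
    obtain ⟨y, hy, -⟩ := Scheme.Pullback.exists_preimage_pullback (f := pullback.fst M.hom σ) (g := mp)
      (pullback.snd (CohB1.ProjSpace.toSpec 1 K) (pullback.snd M.hom σ) z') (closedPoint k) (by
        rw [← hz, ← Scheme.Hom.comp_apply, ← Scheme.Hom.comp_apply]
        exact congrArg (fun φ => φ z') hc2.symm)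
    rw [← hy, ← sqm.isoPullback_inv_fst, Scheme.Hom.comp_apply,
      Subsingleton.elim (α := PrimeSpectrum K) (sqm.isoPullback.inv y) (closedPoint K)]
  -- its curve is good
  have hm := (good_iff_rational mp hmp).1 hgood
  let g : Over.mk σ ⟶ M := Over.homMk (σ ≫ mp) (by
    show (σ ≫ mp) ≫ M.hom = σ
    rw [Category.assoc, hmp, Category.comp_id])
  have hG : Good q (ε.hom ≫ (MorSch.pull (CohB1.ProjSpace.toSpec 1 k) q g v).1) :=
    (good_iff isFinLocFree_twistN v g (Iso.refl _) ε (by simpa using hε) w).2 (by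
      show mp (σ (closedPoint K)) ∈ _
      rw [Subsingleton.elim (α := PrimeSpectrum k) (σ (closedPoint K)) (closedPoint k)]
      exact hm)
  have hcurve := curveAt_baseField ε hε sq hc1 hc2 mp hmp mp' hmp' (pullback.lift_fst _ _ _)
  have hgood' : Good (pullback.snd q σ) (curveAt v' mp' hmp') := by
    rw [good_congr (IsPullback.of_hasPullback q σ), hcurve]
    exact hG
  have hmem := (good_iff_rational (q := pullback.snd q σ) (M := Over.mk (pullback.snd M.hom σ)) (v := v') mp' hmp').1 hgood'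
  have hsm := smooth_ev_good hM' (goodOpen v') le_rfl
  have hz'm : z' ∈ pullback.snd (CohB1.ProjSpace.toSpec 1 K) (Over.mk (pullback.snd M.hom σ)).hom ⁻¹ᵁ goodOpen v' := by
    show pullback.snd (CohB1.ProjSpace.toSpec 1 K) (pullback.snd M.hom σ) z' ∈ goodOpen v'
    rw [hzm]
    exact hmem
  exact @SmDesc.mem_smoothLocus_of_smooth_ι _ _ v'.1 _ _ hsm _ hz'm

end Groth.Agent.FreeCurve
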