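import Groth.Agent.SGA6Ext.PullExt
import Mathlib

/-!
# Determinant functionals on exterior powers
-/

set_option autoImplicit false
set_option linter.style.haveILetI false
set_option backward.isDefEq.respectTransparency false
set_option backward.isDefEq.respectTransparency.types false
set_option maxHeartbeats 1000000

universe u

open CategoryTheory CategoryTheory.Limits AlgebraicGeometry TopologicalSpace Opposite
open Groth.Agent.QC (res resO app_res res_res res_smul)
open Groth.Agent.SGA6Ext (Sec secRes extSh eta extRes IsBase)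

noncomputable section

namespace Groth.Agent.FreeCurve

variable {X : Scheme.{u}} {E : X.Modules}

/-- A map to the structure sheaf, as a linear form on sections. -/
def funOf (β : E ⟶ Coh.structureModule X) (V : X.Opens) : Sec E V →ₗ[Γ(X, V)] Γ(X, V) where
  toFun s := β.app V s
  map_add' a b := map_add (β.app V).hom a b
  map_smul' r s := β.app_smul r s

theorem funOf_res (β : E ⟶ Coh.structureModule X) {W V : X.Opens} (h : W ≤ V) (s : Sec E V) :
    resO X h (funOf β V s) = funOf β W (secRes E h s) :=
  app_res β h s

variable {p : ℕ}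

/-- The determinant of `p` linear forms on a `p`-th exterior power. -/
def detFun (β : Fin p → (E ⟶ Coh.structureModule X)) (V : X.Opens) :
    ↥(⋀[Γ(X, V)]^p (Sec E V)) →ₗ[Γ(X, V)] Γ(X, V) :=
  exteriorPower.pairingDual Γ(X, V) (Sec E V) p (exteriorPower.ιMulti Γ(X, V) p fun j => funOf (β j) V)

theorem detFun_ιMulti (β : Fin p → (E ⟶ Coh.structureModule X)) (V : X.Opens) (e : Fin p → Sec E V) :
    detFun β V (exteriorPower.ιMulti _ p e) = (Matrix.of fun i j => funOf (β j) V (e i)).det :=
  exteriorPower.pairingDual_ιMulti_ιMulti _ _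

theorem detFun_res (β : Fin p → (E ⟶ Coh.structureModule X)) {W V : X.Opens} (h : W ≤ V)
    (z : ↥(⋀[Γ(X, V)]^p (Sec E V))) : resO X h (detFun β V z) = detFun β W (extRes E p h z) := by
  refine DFunLike.congr_fun (SGA6Ext.semilinear_ext (resO X h)
    ((resO X h).toAddMonoidHom.comp (detFun β V).toAddMonoidHom)
    ((detFun β W).toAddMonoidHom.comp (extRes E p h)) (fun r z => ?_) (fun r z => ?_) fun e => ?_) z
  · show resO X h (detFun β V (r • z)) = resO X h r • resO X h (detFun β V z)
    rw [map_smul, smul_eq_mul, map_mul, smul_eq_mul]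
  · show detFun β W (extRes E p h (r • z)) = resO X h r • detFun β W (extRes E p h z)
    rw [SGA6Ext.extRes_smul, map_smul]
  · show resO X h (detFun β V _) = detFun β W (extRes E p h _)
    rw [SGA6Ext.extRes_ιMulti, detFun_ιMulti, detFun_ιMulti, RingHom.map_det]
    refine congrArg Matrix.det (Matrix.ext fun i j => ?_)
    simp only [RingHom.mapMatrix_apply, Matrix.map_apply, Matrix.of_apply]
    exact funOf_res (β j) h (e i)

/-- An open below a frame. -/
def Framed (E : X.Modules) (V : X.Opens) : Prop :=
  ∃ (U : X.Opens) (n : ℕ) (e : Fin n → Γ(E, U)), TMul.IsFrame e ∧ V ≤ U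

theorem isBase_framed (hE : FlatMod.IsFinLocFree E) : IsBase (Framed E) := fun U x hx => by
  obtain ⟨U', n, e, hx', he⟩ := TMul.exists_isFrame hE x
  exact ⟨U ⊓ U', ⟨U', n, e, he, inf_le_right⟩, ⟨hx, hx'⟩, inf_le_left⟩

theorem Framed.bijective_eta {V : X.Opens} (h : Framed E V) : Function.Bijective (eta E p V) := by
  obtain ⟨U, n, e, he, hle⟩ := h
  exact SGA6Ext.eta_bijective_small E p he V hle

/-- The determinant functional as a morphism out of the exterior power. -/
theorem exists_detHom (hE : FlatMod.IsFinLocFree E) (β : Fin p → (E ⟶ Coh.structureModule X)) :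
    ∃ ψ : extSh E p ⟶ Coh.structureModule X, ∀ (V : X.Opens), Framed E V →
      ∀ z, ψ.app V (eta E p V z) = detFun β V z := by
  have hb : ∀ V, Framed E V → Function.Bijective (eta E p V) := fun V hV => hV.bijective_eta
  obtain ⟨ψ, hψ⟩ := SGA6Ext.exists_linHom (M := extSh E p) (P := Coh.structureModule X) (isBase_framed hE)
    (fun V hV => { toFun := fun m => detFun β V ((LinearEquiv.ofBijective _ (hb V hV)).symm m)
                   map_add' := fun a b => (congrArg (detFun β V)
                    (map_add (LinearEquiv.ofBijective _ (hb V hV)).symm a b)).trans (map_add (detFun β V) _ _)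
                   map_smul' := fun r a => (congrArg (detFun β V)
                    ((LinearEquiv.ofBijective _ (hb V hV)).symm.map_smul r a)).trans ((detFun β V).map_smul r _) })
    fun W V hW hV h m => by
      obtain ⟨z, rfl⟩ := (hb V hV).2 m
      show resO X h (detFun β V ((LinearEquiv.ofBijective _ (hb V hV)).symm (eta E p V z))) =
        detFun β W ((LinearEquiv.ofBijective _ (hb W hW)).symm (secRes (extSh E p) h (eta E p V z)))
      rw [SGA6Ext.eta_res]
      erw [LinearEquiv.ofBijective_symm_apply_apply, LinearEquiv.ofBijective_symm_apply_apply]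
      exact detFun_res β h z
  refine ⟨ψ, fun V hV z => (hψ V hV _).trans ?_⟩
  exact congrArg (detFun β V) ((LinearEquiv.ofBijective _ (hb V hV)).symm_apply_apply z)

/-- A multiple column makes the determinant functional a multiple. -/
theorem detFun_mem_span {β : Fin p → (E ⟶ Coh.structureModule X)} {V : X.Opens} {f : Γ(X, V)} {j : Fin p}
    (h : ∀ s : Sec E V, funOf (β j) V s ∈ Ideal.span {f}) (z : ↥(⋀[Γ(X, V)]^p (Sec E V))) :
    detFun β V z ∈ Ideal.span {f} := by
  have hz : z ∈ Submodule.span Γ(X, V) (Set.range (exteriorPower.ιMulti Γ(X, V) p (M := Sec E V))) := by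
    rw [exteriorPower.ιMulti_span]; trivial
  induction hz using Submodule.span_induction with
  | zero => rw [map_zero]; exact zero_mem _
  | add a b _ _ ha hb => rw [map_add]; exact add_mem ha hb
  | smul r a _ ha => rw [map_smul]; exact Ideal.mul_mem_left _ r ha
  | mem a ha =>
    obtain ⟨e, rfl⟩ := ha
    rw [detFun_ιMulti, ← Ideal.Quotient.eq_zero_iff_mem, RingHom.map_det]
    refine Matrix.det_eq_zero_of_column_eq_zero j fun i => ?_
    simpa only [RingHom.mapMatrix_apply, Matrix.map_apply, Matrix.of_apply] using
      Ideal.Quotient.eq_zero_iff_mem.2 (h (e i))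

/-- The determinant functionals of a family of forms which are coordinates detect wedges. -/
theorem eq_zero_of_detFun {n : ℕ} {β : Fin n → (E ⟶ Coh.structureModule X)} {V : X.Opens}
    (hb : Function.Bijective fun (s : Sec E V) (t : Fin n) => funOf (β t) V s) {z : ↥(⋀[Γ(X, V)]^p (Sec E V))}
    (h : ∀ I : Fin p → Fin n, Function.Injective I → detFun (fun j => β (I j)) V z = 0) : z = 0 := by
  let L : Sec E V →ₗ[Γ(X, V)] (Fin n → Γ(X, V)) := LinearMap.pi fun t => funOf (β t) V
  let b : Module.Basis (Fin n) Γ(X, V) (Sec E V) := Module.Basis.ofEquivFun (LinearEquiv.ofBijective L hb)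
  have hc : ∀ t, b.coord t = funOf (β t) V := fun t => LinearMap.ext fun s => by
    simp only [b, Module.Basis.coord_apply, Module.Basis.ofEquivFun_repr_apply]
    rfl
  refine (b.exteriorPower p).ext_elem fun s => ?_
  rw [map_zero, Finsupp.zero_apply, ← Module.Basis.coord_apply, exteriorPower.basis_coord]
  let I : Fin p → Fin n := fun j => Set.powersetCard.ofFinEmbEquiv.symm s j
  have hI : Function.Injective I := (Set.powersetCard.ofFinEmbEquiv.symm s).injective
  refine Eq.trans ?_ (h I hI)
  show exteriorPower.ιMultiDual Γ(X, V) p b s z =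
    exteriorPower.pairingDual Γ(X, V) (Sec E V) p (exteriorPower.ιMulti Γ(X, V) p fun j => funOf (β (I j)) V) z
  rw [exteriorPower.ιMultiDual, exteriorPower.ιMulti_family]
  refine DFunLike.congr_fun (congrArg _ (congrArg _ (funext fun j => ?_))) z
  exact hc (I j)

end Groth.Agent.FreeCurve
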