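import Groth.Agent.FreeCurve.TwHom
import Groth.Agent.FreeCurve.WedgeDet
import Groth.Agent.FreeCurve.Split
import Mathlib

/-!
# Exterior powers of nonpositive sums of twists have no sections
-/

set_option autoImplicit false
set_option linter.style.haveILetI false
set_option backward.isDefEq.respectTransparency false
set_option backward.isDefEq.respectTransparency.types false
set_option maxHeartbeats 1000000

universe u

open CategoryTheory CategoryTheory.Limits AlgebraicGeometry TopologicalSpace Opposite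
open Groth.Agent.QC (res resO app_res res_res res_smul)
open Groth.Agent.SGA6Ext (Sec secRes extSh eta extRes IsBase)

noncomputable section

namespace Groth.Agent.FreeCurve

open Groth.Agent.P1Split (O U)

variable {k : Type u} [Field k]

theorem subsingleton_twist_neg {d : ℤ} (hd : d < 0) :
    Subsingleton (Coh.HH (CohB1.ProjSpace 1 k) (O k d) 0) := by
  haveI := CohFinite.finite_projSpace (n := 1) (R := k) (O k d) (CohFinite.isCoh_twist 1 k d) 0
  exact (Module.finrank_eq_zero_iff_of_free (R := k)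
    (M := Coh.HH (CohB1.ProjSpace 1 k) (O k d) 0)).1 (by rw [P1Split.finrank_twist]; omega)

theorem isBase_le_U : IsBase (X := CohB1.ProjSpace 1 k) fun V => ∃ i, V ≤ U k i := fun W x hx => by
  obtain ⟨i, hi⟩ := P1Split.exists_mem_U x
  exact ⟨W ⊓ U k i, ⟨i, inf_le_right⟩, ⟨hx, hi⟩, inf_le_left⟩

/-- A map `O(d) → O`, `d < 0`, is somewhere zero. -/
theorem exists_nonunit {d : ℤ} (hd : d < 0) (c : O k d ⟶ Coh.structureModule (CohB1.ProjSpace 1 k)) :
    ∃ (j : Fin 2) (g : Γ(O k d, U k j)), TMul.IsGen g ∧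
      ¬ IsUnit (show Γ(CohB1.ProjSpace 1 k, U k j) from c.app (U k j) g) := by
  by_contra hall
  push_neg at hall
  have hb : ∀ V, (∃ i, V ≤ U k i) → Function.Bijective (c.app V) := by
    rintro V ⟨i, hi⟩
    obtain ⟨g, c₀, hg, -⟩ := exists_hom_twist (k := k) hd.le i
    have hu := (hall i g hg).map (resO (CohB1.ProjSpace 1 k) hi)
    have hc : ∀ r : Γ(CohB1.ProjSpace 1 k, V), c.app V (r • res (O k d) hi g) =
        r * resO (CohB1.ProjSpace 1 k) hi (c.app (U k i) g) := fun r => by
      rw [Scheme.Modules.Hom.app_smul, ← app_res]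
      rfl
    refine ⟨fun s t hst => ?_, fun t => ?_⟩
    · obtain ⟨a, rfl⟩ := (hg V hi).2 s
      obtain ⟨b, rfl⟩ := (hg V hi).2 t
      have : a = b := hu.mul_left_injective ((hc a).symm.trans (hst.trans (hc b)))
      rw [this]
    · obtain ⟨r, hr⟩ := hu.exists_left_inv
      exact ⟨((show Γ(CohB1.ProjSpace 1 k, V) from t) * r) • res (O k d) hi g, (hc _).trans (by rw [mul_assoc, hr, mul_one])⟩
  haveI := SGA6Ext.mono_of_base isBase_le_U c fun V hV => (hb V hV).1
  haveI := SGA6Ext.epi_of_base isBase_le_U c fun V hV => (hb V hV).2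
  haveI := isIso_of_mono_of_epi c
  obtain ⟨w⟩ := PnHodge.nonempty_twist_zero_iso (n := 1) (A := k)
  exact P1Split.not_subsingleton_twist (k := k) (c := 0) le_rfl
    (CohQC.hh_subsingleton_of_iso (asIso c ≪≫ w.symm) _ (subsingleton_twist_neg hd))

/-- The functions on the projective line are constants. -/
theorem isUnit_of_ne_zero {a : Γ(CohB1.ProjSpace 1 k, ⊤)} (ha : a ≠ 0) : IsUnit a := by
  haveI : AlgebraicGeometry.IsIntegral (CohB1.ProjSpace 1 k) := CurveP1.isIntegral k
  haveI := ProjMor.isProper_toSpec 1 k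
  obtain ⟨b, hb⟩ := (isField_of_universallyClosed k (CohB1.ProjSpace.toSpec 1 k)).mul_inv_cancel ha
  exact IsUnit.of_mul_eq_one b hb

variable {E : (CohB1.ProjSpace 1 k).Modules} {p n : ℕ} {d : Fin n → ℤ}

/-- Coordinates on a chart from maps of the summands to the structure sheaf. -/
theorem bijective_forms (e : E ≅ ∐ fun i : Fin n => O k (d i)) {i : Fin 2}
    {g : ∀ t, Γ(O k (d t), U k i)} {c : ∀ t, O k (d t) ⟶ Coh.structureModule (CohB1.ProjSpace 1 k)}
    (hg : ∀ t, TMul.IsGen (g t)) (hu : ∀ t, IsUnit (show Γ(CohB1.ProjSpace 1 k, U k i) from (c t).app (U k i) (g t)))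
    {π : ∀ t, (∐ fun i : Fin n => O k (d i)) ⟶ O k (d t)}
    (hπ1 : ∀ s, Sigma.ι (fun i : Fin n => O k (d i)) s ≫ π s = 𝟙 _)
    (hπ2 : ∀ s t, s ≠ t → Sigma.ι (fun i : Fin n => O k (d i)) s ≫ π t = 0)
    (hπ3 : ∑ t, π t ≫ Sigma.ι (fun i : Fin n => O k (d i)) t = 𝟙 _) {V : (CohB1.ProjSpace 1 k).Opens} (hV : V ≤ U k i) :
    Function.Bijective fun (s : Sec E V) (t : Fin n) => funOf ((e.hom ≫ π t) ≫ c t) V s := by
  classical
  let β : Fin n → (E ⟶ Coh.structureModule (CohB1.ProjSpace 1 k)) := fun t => (e.hom ≫ π t) ≫ c t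
  have huV : ∀ t, IsUnit (resO (CohB1.ProjSpace 1 k) hV ((c t).app (U k i) (g t))) := fun t => (hu t).map _
  have hcV : ∀ t (r : Γ(CohB1.ProjSpace 1 k, V)), (c t).app V (r • res (O k (d t)) hV (g t)) =
      r * resO (CohB1.ProjSpace 1 k) hV ((c t).app (U k i) (g t)) := fun t r => by
    rw [Scheme.Modules.Hom.app_smul, ← app_res]
    rfl
  refine ⟨fun s s' hs => ?_, fun v => ?_⟩
  · have key : ∀ t, (e.hom ≫ π t).app V s = (e.hom ≫ π t).app V s' := fun t => by
      obtain ⟨a, ha⟩ := (hg t V hV).2 ((e.hom ≫ π t).app V s)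
      obtain ⟨b, hb⟩ := (hg t V hV).2 ((e.hom ≫ π t).app V s')
      have h1 : (c t).app V ((e.hom ≫ π t).app V s) = (c t).app V ((e.hom ≫ π t).app V s') := congrFun hs t
      rw [← ha, ← hb] at h1 ⊢
      have : a = b := (huV t).mul_left_injective ((hcV t a).symm.trans (h1.trans (hcV t b)))
      rw [this]
    have hid : ∀ x : Γ(E, V), x = ∑ t, (Sigma.ι (fun t : Fin n => O k (d t)) t ≫ e.inv).app V
        ((e.hom ≫ π t).app V x) := fun x => by
      let Φ : (E ⟶ E) →+ Γ(E, V) := AddMonoidHom.mk' (fun f => f.app V x) fun _ _ => rfl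
      have h1 : (∑ t, (e.hom ≫ π t) ≫ (Sigma.ι (fun t : Fin n => O k (d t)) t ≫ e.inv)) = 𝟙 E := by
        have h2 : e.hom ≫ (∑ t, π t ≫ Sigma.ι (fun t : Fin n => O k (d t)) t) ≫ e.inv = 𝟙 E := by
          rw [hπ3, Category.id_comp, e.hom_inv_id]
        rw [← h2, Preadditive.sum_comp, Preadditive.comp_sum]
        simp only [Category.assoc]
      have h3 := congrArg Φ h1
      rw [map_sum] at h3
      exact h3.symm
    exact (hid s).trans ((Finset.sum_congr rfl fun t _ => by rw [key t]).trans (hid s').symm)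
  · choose r hr using fun t => (huV t).exists_left_inv
    refine ⟨∑ t, (Sigma.ι (fun t : Fin n => O k (d t)) t ≫ e.inv).app V ((v t * r t) • res (O k (d t)) hV (g t)),
      funext fun s => ?_⟩
    show funOf (β s) V _ = v s
    rw [map_sum, Finset.sum_eq_single s]
    · show ((Sigma.ι (fun t : Fin n => O k (d t)) s ≫ e.inv) ≫ β s).app V _ = v s
      rw [show (Sigma.ι (fun t : Fin n => O k (d t)) s ≫ e.inv) ≫ β s = c s by
        simp only [β, Category.assoc, Iso.inv_hom_id_assoc]
        rw [← Category.assoc, hπ1, Category.id_comp], hcV, mul_assoc, hr, mul_one]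
    · intro t _ hts
      show ((Sigma.ι (fun t : Fin n => O k (d t)) t ≫ e.inv) ≫ β s).app V _ = 0
      rw [show (Sigma.ι (fun t : Fin n => O k (d t)) t ≫ e.inv) ≫ β s = 0 by
        simp only [β, Category.assoc, Iso.inv_hom_id_assoc]
        rw [← Category.assoc, hπ2 t s hts, zero_comp]]
      rfl
    · exact fun h => absurd (Finset.mem_univ _) h

/-- On each chart, a nonpositive sum of twists has coordinates which are global forms. -/
theorem exists_forms (e : E ≅ ∐ fun i : Fin n => O k (d i)) (hd : ∀ t, d t ≤ 0) (i : Fin 2) :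
    ∃ β : Fin n → (E ⟶ Coh.structureModule (CohB1.ProjSpace 1 k)),
      ∀ V, V ≤ U k i → Function.Bijective fun (s : Sec E V) (t : Fin n) => funOf (β t) V s := by
  choose g c hg hu using fun t => exists_hom_twist (k := k) (hd t) i
  obtain ⟨π, hπ1, hπ2, hπ3⟩ := P1Split.exists_proj fun t : Fin n => O k (d t)
  exact ⟨_, fun V hV => bijective_forms e hg hu hπ1 hπ2 hπ3 hV⟩

/-- If every `p` of the degrees contain a negative one, the exterior power has no sections. -/
theorem eq_zero_of_split (hE : FlatMod.IsFinLocFree E) (e : E ≅ ∐ fun i : Fin n => O k (d i))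
    (hd : ∀ t, d t ≤ 0) (hI : ∀ I : Fin p → Fin n, Function.Injective I → ∃ j, d (I j) < 0)
    (η : Γ(extSh E p, ⊤)) : η = 0 := by
  classical
  refine SGA6Ext.ext_base (isBase_le_U (k := k)) fun W hW hWi => ?_
  obtain ⟨i, hWi⟩ := hWi
  rw [map_zero]
  choose g c hg hu using fun t => exists_hom_twist (k := k) (hd t) i
  obtain ⟨π, hπ1, hπ2, hπ3⟩ := P1Split.exists_proj fun t : Fin n => O k (d t)
  let β : Fin n → (E ⟶ Coh.structureModule (CohB1.ProjSpace 1 k)) := fun t => (e.hom ≫ π t) ≫ c t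
  have hb : ∀ V, V ≤ U k i → Function.Bijective fun (s : Sec E V) (t : Fin n) => funOf (β t) V s :=
    fun V hV => bijective_forms e hg hu hπ1 hπ2 hπ3 hV
  -- the determinant functionals vanish on the section
  have hzero : ∀ (I : Fin p → Fin n), Function.Injective I →
      ∀ ψ : extSh E p ⟶ Coh.structureModule (CohB1.ProjSpace 1 k),
        (∀ V, Framed E V → ∀ z, ψ.app V (eta E p V z) = detFun (fun j => β (I j)) V z) → ψ.app ⊤ η = 0 := by
    intro I hIi ψ hψ
    by_contra ha
    let a : Γ(CohB1.ProjSpace 1 k, ⊤) := ψ.app ⊤ η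
    have hau : IsUnit a := isUnit_of_ne_zero ha
    obtain ⟨j, hj⟩ := hI I hIi
    obtain ⟨l, g', hg', hnu⟩ := exists_nonunit hj (c (I j))
    let f : Γ(CohB1.ProjSpace 1 k, U k l) := (c (I j)).app (U k l) g'
    have hy : ∃ y, ∃ hy : y ∈ U k l, ¬ IsUnit ((CohB1.ProjSpace 1 k).presheaf.germ (U k l) y hy f) := by
      by_contra h
      push_neg at h
      exact hnu (RingedSpace.isUnit_of_isUnit_germ (CohB1.ProjSpace 1 k).toRingedSpace _ f h)
    obtain ⟨y, hy, hfy⟩ := hy
    obtain ⟨U', m, fr, hyU', hfr⟩ := TMul.exists_isFrame hE y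
    let V := U' ⊓ U k l
    have hVf : Framed E V := ⟨U', m, fr, hfr, inf_le_left⟩
    obtain ⟨z, hz⟩ := (hVf.bijective_eta (p := p)).2 (res (extSh E p) le_top η)
    have hav : resO (CohB1.ProjSpace 1 k) (le_top : V ≤ ⊤) a = detFun (fun t => β (I t)) V z := by
      rw [← hψ V hVf z, hz]
      exact app_res ψ _ η
    let f' := resO (CohB1.ProjSpace 1 k) (inf_le_right : V ≤ U k l) f
    have hspan : detFun (fun t => β (I t)) V z ∈ Ideal.span {f'} := by
      refine detFun_mem_span (j := j) (fun s => ?_) z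
      obtain ⟨r, hr⟩ := (hg' V inf_le_right).2 ((e.hom ≫ π (I j)).app V s)
      refine Ideal.mem_span_singleton'.2 ⟨r, ?_⟩
      show r * f' = (c (I j)).app V ((e.hom ≫ π (I j)).app V s)
      rw [← hr]
      show _ = (c (I j)).app V (r • res (O k (d (I j))) inf_le_right g')
      rw [Scheme.Modules.Hom.app_smul, ← app_res]
      rfl
    obtain ⟨r, hr⟩ := Ideal.mem_span_singleton'.1 hspan
    have hyV : y ∈ V := ⟨hyU', hy⟩
    have h1 := congrArg ((CohB1.ProjSpace 1 k).presheaf.germ V y hyV).hom (hr.trans hav.symm)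
    rw [map_mul] at h1
    have h2 : IsUnit (((CohB1.ProjSpace 1 k).presheaf.germ V y hyV).hom
        (resO (CohB1.ProjSpace 1 k) (le_top : V ≤ ⊤) a)) := (hau.map _).map _
    rw [← h1] at h2
    refine hfy ?_
    have h3 := isUnit_of_mul_isUnit_right h2
    exact (TopCat.Presheaf.germ_res_apply (CohB1.ProjSpace 1 k).presheaf (homOfLE (inf_le_right : V ≤ U k l)) y hyV f) ▸ h3
  -- conclusion on the chart
  refine SGA6Ext.ext_base (isBase_framed hE) fun V hV hVf => ?_
  rw [res_res, map_zero]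
  obtain ⟨z, hz⟩ := (hVf.bijective_eta (p := p)).2 (res (extSh E p) le_top η)
  suffices h : z = 0 by rw [← hz, h, map_zero]
  refine eq_zero_of_detFun (hb V (hV.trans hWi)) fun I hIi => ?_
  obtain ⟨ψ, hψ⟩ := exists_detHom hE fun j => β (I j)
  rw [← hψ V hVf z, hz, ← app_res ψ (le_top : V ≤ ⊤) η, hzero I hIi ψ hψ, map_zero]

end Groth.Agent.FreeCurve
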