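import Groth.Agent.FreeCurve.TanPoint
import Groth.Agent.FreeCurve.WedgeNeg
import Groth.Agent.FreeCurve.GoodLocus
import Mathlib

/-!
# The evaluation map along a free curve is injective on cotangent spaces
-/

set_option autoImplicit false
set_option linter.style.haveILetI false
set_option backward.isDefEq.respectTransparency false
set_option backward.isDefEq.respectTransparency.types false
set_option synthInstance.maxHeartbeats 400000
set_option maxHeartbeats 1000000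

universe u

open CategoryTheory CategoryTheory.Limits AlgebraicGeometry TopologicalSpace Opposite
open Groth.Agent.QC (resO res app_res res_res)
open Groth.Agent.ExpSeq (Xε sect dnMap dnPoint)
open Groth.Agent.HomTan (IsLift IsTan val pb em)
open Groth.Agent.SGA6Ext (Sec)
open IsLocalRing (closedPoint maximalIdeal)

noncomputable section

namespace Groth.Agent.FreeCurve

open Groth.Agent.P1Split (O U)

variable {k : Type u} [Field k]

/-- A nonzero covector at a point of a free curve is nonzero on some global form. -/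
theorem exists_form {X : Scheme.{u}} {Ω : X.Modules} (g : CohB1.ProjSpace 1 k ⟶ X) {n : ℕ} {d : Fin n → ℤ}
    (e : (Scheme.Modules.pullback g).obj Ω ≅ ∐ fun i : Fin n => O k (d i)) (hd : ∀ t, d t ≤ 0)
    {V : X.Opens} {m : ℕ} {fr : Fin m → Γ(Ω, V)} (hfr : TMul.IsFrame fr)
    (t : Spec (CommRingCat.of k) ⟶ CohB1.ProjSpace 1 k) (ht : ⊤ ≤ t ⁻¹ᵁ (g ⁻¹ᵁ V))
    (c : Fin m → Γ(X, V)) {j : Fin m} (hc : t.appLE _ ⊤ ht (g.app V (c j)) ≠ 0) :
    ∃ α : Ω ⟶ (Scheme.Modules.pushforward g).obj (Coh.structureModule (CohB1.ProjSpace 1 k)),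
      t.appLE (g ⁻¹ᵁ V) ⊤ ht (α.app V (∑ i, c i • fr i)) ≠ 0 := by
  classical
  obtain ⟨l, hl⟩ := P1Split.exists_mem_U (t (closedPoint k))
  obtain ⟨β, hβ⟩ := exists_forms e hd l
  let adj := Scheme.Modules.pullbackPushforwardAdjunction g
  let E := (Scheme.Modules.pullback g).obj Ω
  let α : Fin n → (Ω ⟶ (Scheme.Modules.pushforward g).obj (Coh.structureModule (CohB1.ProjSpace 1 k))) :=
    fun i => adj.unit.app Ω ≫ (Scheme.Modules.pushforward g).map (β i)
  by_contra hall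
  push Not at hall
  let W := g ⁻¹ᵁ V ⊓ U k l
  have hW : ⊤ ≤ t ⁻¹ᵁ W := fun y _ => by
    obtain rfl : y = closedPoint k := Subsingleton.elim (α := PrimeSpectrum k) _ _
    exact ⟨ht (Set.mem_univ _), hl⟩
  have he' := hfr.pullback g
  let Φ : (Fin m → Γ(CohB1.ProjSpace 1 k, W)) ≃ₗ[Γ(CohB1.ProjSpace 1 k, W)] (Fin n → Γ(CohB1.ProjSpace 1 k, W)) :=
    (he'.equiv (inf_le_left : W ≤ g ⁻¹ᵁ V)).trans
      (LinearEquiv.ofBijective (LinearMap.pi fun i => funOf (E := E) (β i) W) (hβ W inf_le_right))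
  let c' : Fin m → Γ(CohB1.ProjSpace 1 k, W) := fun i =>
    resO (CohB1.ProjSpace 1 k) (inf_le_left : W ≤ g ⁻¹ᵁ V) (g.app V (c i))
  let χ : Γ(CohB1.ProjSpace 1 k, W) →+* Γ(Spec (CommRingCat.of k), ⊤) := (t.appLE W ⊤ hW).hom
  have hχ : ∀ r : Γ(CohB1.ProjSpace 1 k, g ⁻¹ᵁ V),
      χ (resO (CohB1.ProjSpace 1 k) (inf_le_left : W ≤ g ⁻¹ᵁ V) r) = t.appLE _ ⊤ ht r := fun r =>
    ConcreteCategory.congr_hom (t.map_appLE hW (homOfLE (inf_le_left : W ≤ g ⁻¹ᵁ V)).op) r
  have hy : ∀ i, χ (Φ c' i) = 0 := fun i => by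
    have h1 := hall (α i)
    rw [← hχ] at h1
    refine Eq.trans (congrArg χ ?_) h1
    show (β i).app W (∑ l, c' l • res E (inf_le_left : W ≤ g ⁻¹ᵁ V) ((adj.unit.app Ω).app V (fr l))) =
      res (Coh.structureModule _) (inf_le_left : W ≤ g ⁻¹ᵁ V)
        ((β i).app (g ⁻¹ᵁ V) ((adj.unit.app Ω).app V (∑ l, c l • fr l)))
    rw [app_res]
    congr 1
    rw [map_sum, map_sum]
    refine Finset.sum_congr rfl fun l _ => ?_
    rw [Scheme.Modules.Hom.app_smul]
    exact (Groth.Agent.QC.res_smul E (inf_le_left : W ≤ g ⁻¹ᵁ V) (g.app V (c l)) _).symm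
  refine hc ?_
  rw [← hχ]
  show χ (c' j) = 0
  have h2 : c' = Φ.symm (∑ i, Φ c' i • Pi.single i (1 : Γ(CohB1.ProjSpace 1 k, W))) := by
    conv_lhs => rw [← Φ.symm_apply_apply c']
    congr 1
    exact pi_eq_sum_univ' (Φ c')
  rw [h2, map_sum, Finset.sum_apply, map_sum]
  refine Finset.sum_eq_zero fun i _ => ?_
  rw [map_smul, Pi.smul_apply, smul_eq_mul, map_mul, hy, zero_mul]

local instance : (Spec (CommRingCat.of k)).Over (Spec (CommRingCat.of k)) := ⟨𝟙 _⟩
local instance : (CohB1.ProjSpace 1 k).Over (Spec (CommRingCat.of k)) := ⟨CohB1.ProjSpace.toSpec 1 k⟩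

variable {X : Scheme.{u}} {q : X ⟶ Spec (CommRingCat.of k)} {M : Over (Spec (CommRingCat.of k))}
  {v : MorSch.Obj (CohB1.ProjSpace.toSpec 1 k) q M}

/-- The curve of a rational point of the scheme of morphisms. -/
def curveAt (v : MorSch.Obj (CohB1.ProjSpace.toSpec 1 k) q M) (mp : Spec (CommRingCat.of k) ⟶ M.left)
    (hmp : mp ≫ M.hom = 𝟙 _) : CohB1.ProjSpace 1 k ⟶ X :=
  pullback.lift (𝟙 _) (CohB1.ProjSpace.toSpec 1 k ≫ mp) (by
    rw [Category.id_comp, Category.assoc, hmp, Category.comp_id]) ≫ v.1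

theorem curveAt_comp (mp : Spec (CommRingCat.of k) ⟶ M.left) (hmp : mp ≫ M.hom = 𝟙 _) :
    curveAt v mp hmp ≫ q = CohB1.ProjSpace.toSpec 1 k := by
  rw [curveAt, Category.assoc, v.2, pullback.lift_fst_assoc, Category.id_comp]

theorem exists_family' (hM : IsUnivN (CohB1.ProjSpace.toSpec 1 k) q M v) (mp : Spec (CommRingCat.of k) ⟶ M.left)
    (hmp : mp ≫ M.hom = 𝟙 _) {h : Xε k (CohB1.ProjSpace 1 k) ⟶ X} (hh : IsLift q (curveAt v mp hmp) h) :
    ∃ G : Xε k (CohB1.ProjSpace 1 k) ⟶ PicF.XT (CohB1.ProjSpace.toSpec 1 k) M,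
      (∃ γd : Spec (CommRingCat.of (DualNumber k)) ⟶ M.left,
        G ≫ pullback.snd _ _ = pullback.snd (CohB1.ProjSpace 1 k ↘ Spec (CommRingCat.of k)) (dnMap k) ≫ γd) ∧
      G ≫ v.1 = h ∧ sect k (CohB1.ProjSpace 1 k) ≫ G =
        pullback.lift (𝟙 _) (CohB1.ProjSpace.toSpec 1 k ≫ mp) (by
          rw [Category.id_comp, Category.assoc, hmp, Category.comp_id]) := by
  let p := CohB1.ProjSpace.toSpec 1 k
  let T : Over (Spec (CommRingCat.of k)) := Over.mk (dnMap k)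
  haveI : IsNoetherianRing (DualNumber k) :=
    isNoetherianRing_iff.2 (isNoetherian_of_tower k (inferInstanceAs (IsNoetherian k (k × k))))
  haveI : IsLocallyNoetherian T.left :=
    inferInstanceAs (IsLocallyNoetherian (Spec (CommRingCat.of (DualNumber k))))
  obtain ⟨γ, hγ, -⟩ := hM.2 T ⟨h, hh.comp⟩
  let T₁ : Over (Spec (CommRingCat.of k)) := Over.mk (𝟙 (Spec (CommRingCat.of k)))
  haveI : IsLocallyNoetherian T₁.left := inferInstanceAs (IsLocallyNoetherian (Spec (CommRingCat.of k)))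
  let pm : T₁ ⟶ T := Over.homMk (dnPoint k) (ExpSeq.dnPoint_dnMap k)
  let m₁ : T₁ ⟶ M := Over.homMk mp hmp
  have h₁ : PicF.XTmap p pm = pullback.fst p T₁.hom ≫ sect k (CohB1.ProjSpace 1 k) := by
    apply pullback.hom_ext
    · exact (MorSch.XTmap_fst p pm).trans (by
        rw [Category.assoc]; exact ((congrArg (pullback.fst p T₁.hom ≫ ·)
          (ExpSeq.sect_fst (k := k) (CohB1.ProjSpace 1 k))).trans (Category.comp_id _)).symm)
    · refine (pullback.lift_snd _ _ _).trans (Eq.trans ?_ ((Category.assoc _ _ _).trans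
        (congrArg (pullback.fst p T₁.hom ≫ ·) (pullback.lift_snd _ _ _))).symm)
      rw [← Category.assoc]
      refine congrArg (· ≫ dnPoint k) ?_
      exact ((pullback.condition (f := p) (g := T₁.hom)).trans (Category.comp_id _)).symm
  have h₂ : PicF.XTmap p m₁ = pullback.fst p T₁.hom ≫ pullback.lift (𝟙 _) (p ≫ mp) (by
      rw [Category.id_comp, Category.assoc, hmp, Category.comp_id]) := by
    apply pullback.hom_ext
    · rw [MorSch.XTmap_fst, Category.assoc, pullback.lift_fst, Category.comp_id]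
    · rw [Category.assoc, pullback.lift_snd, ← Category.assoc]
      refine (pullback.lift_snd _ _ _).trans (congrArg (· ≫ mp) ?_)
      exact ((pullback.condition (f := p) (g := T₁.hom)).trans (Category.comp_id _)).symm
  have hpm : pm ≫ γ = m₁ := by
    refine (hM.2 T₁ (MorSch.pull p q m₁ v)).unique ?_ rfl
    rw [MorSch.pull_comp, hγ]
    refine MorSch.Obj.ext ?_
    rw [MorSch.pull_val, MorSch.pull_val, h₁, h₂, Category.assoc, Category.assoc]
    exact congrArg (_ ≫ ·) hh.res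
  refine ⟨PicF.XTmap p γ, ⟨γ.left, pullback.lift_snd _ _ _⟩, congrArg Subtype.val hγ, ?_⟩
  apply pullback.hom_ext
  · rw [Category.assoc, MorSch.XTmap_fst, pullback.lift_fst]
    exact ExpSeq.sect_fst _
  · rw [Category.assoc, pullback.lift_snd]
    refine (congrArg (sect k (CohB1.ProjSpace 1 k) ≫ ·) (pullback.lift_snd _ _ _)).trans ?_
    rw [← Category.assoc]
    refine (congrArg (· ≫ γ.left) (pullback.lift_snd _ _ _)).trans ?_
    rw [Category.assoc]
    exact congrArg (p ≫ ·) (congrArg CommaMorphism.left hpm)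

theorem exists_family (hM : IsUnivN (CohB1.ProjSpace.toSpec 1 k) q M v) (mp : Spec (CommRingCat.of k) ⟶ M.left)
    (hmp : mp ≫ M.hom = 𝟙 _) {h : Xε k (CohB1.ProjSpace 1 k) ⟶ X} (hh : IsLift q (curveAt v mp hmp) h) :
    ∃ G : Xε k (CohB1.ProjSpace 1 k) ⟶ PicF.XT (CohB1.ProjSpace.toSpec 1 k) M,
      G ≫ v.1 = h ∧ sect k (CohB1.ProjSpace 1 k) ≫ G =
        pullback.lift (𝟙 _) (CohB1.ProjSpace.toSpec 1 k ≫ mp) (by
          rw [Category.id_comp, Category.assoc, hmp, Category.comp_id]) := by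
  obtain ⟨G, -, hG, hGs⟩ := exists_family' hM mp hmp hh
  exact ⟨G, hG, hGs⟩

/-- The evaluation map is injective on cotangent spaces at rational points of free curves. -/
theorem mem_sq_of_stalkMap [Smooth q] [QuasiSeparated q] (hM : IsUnivN (CohB1.ProjSpace.toSpec 1 k) q M v)
    (z : Spec (CommRingCat.of k) ⟶ PicF.XT (CohB1.ProjSpace.toSpec 1 k) M)
    (hz : z ≫ pullback.snd _ _ ≫ M.hom = 𝟙 _) {n : ℕ} {d : Fin n → ℤ} (hd : ∀ t, d t ≤ 0)
    (e : (Scheme.Modules.pullback (curveAt v (z ≫ pullback.snd _ _) ((Category.assoc _ _ _).trans hz))).obj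
      (Omega.sheaf q) ≅ ∐ fun i : Fin n => O k (d i))
    {a : X.presheaf.stalk (v.1 (z (closedPoint k)))} (ha : a ∈ maximalIdeal _)
    (ha2 : v.1.stalkMap (z (closedPoint k)) a ∈ maximalIdeal _ ^ 2) : a ∈ maximalIdeal _ ^ 2 := by
  by_contra hna
  let mp := z ≫ pullback.snd (CohB1.ProjSpace.toSpec 1 k) M.hom
  have hmp : mp ≫ M.hom = 𝟙 _ := (Category.assoc _ _ _).trans hz
  let g := curveAt v mp hmp
  let t := z ≫ pullback.fst (CohB1.ProjSpace.toSpec 1 k) M.hom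
  have ht : t ≫ CohB1.ProjSpace.toSpec 1 k = 𝟙 _ := by
    rw [Category.assoc, pullback.condition]; exact hz
  let i := pullback.lift (f := CohB1.ProjSpace.toSpec 1 k) (g := M.hom) (𝟙 _) (CohB1.ProjSpace.toSpec 1 k ≫ mp)
    (by rw [Category.id_comp, Category.assoc, hmp, Category.comp_id])
  have hti : t ≫ i = z := by
    apply pullback.hom_ext
    · rw [Category.assoc, pullback.lift_fst, Category.comp_id]
    · rw [Category.assoc, pullback.lift_snd, ← Category.assoc, ht, Category.id_comp]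
  have htg : t ≫ g = z ≫ v.1 := by
    show t ≫ i ≫ v.1 = _
    rw [← Category.assoc, hti]
  obtain ⟨U₀, m, fr, hxU₀, hfr⟩ := TMul.exists_isFrame (AVOmega.isFinLocFree_omega q) (v.1 (z (closedPoint k)))
  obtain ⟨U₁, hxU₁, s₁, hs₁⟩ := X.presheaf.exists_germ_eq a
  obtain ⟨V, hV, hxV, hle⟩ := exists_isAffineOpen_mem_and_subset (X := X) (x := v.1 (z (closedPoint k)))
    (U := U₀ ⊓ U₁) ⟨hxU₀, hxU₁⟩
  let s : Γ(X, V) := resO X (hle.trans inf_le_right) s₁
  have hsa : X.presheaf.germ V _ hxV s = a :=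
    (TopCat.Presheaf.germ_res_apply _ (homOfLE (hle.trans inf_le_right)) _ hxV s₁).trans hs₁
  have hfrV := W7Strat.isFrame_res hfr (hle.trans inf_le_left)
  obtain ⟨c, hc⟩ := hfrV.comb_surjective le_rfl (OmegaSh.dSect q V s)
  have hc' : (∑ l, c l • res (Omega.sheaf q) (hle.trans inf_le_left) (fr l)) = OmegaSh.dSect q V s := by
    rw [← hc]
    simp only [Groth.Agent.QC.res_self]
  have hxs : (z ≫ v.1) ≫ q = 𝟙 _ := by
    rw [Category.assoc, v.2, ← hz, pullback.condition]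
  have htopV : ⊤ ≤ (z ≫ v.1) ⁻¹ᵁ V := fun y _ => by
    obtain rfl : y = closedPoint k := Subsingleton.elim (α := PrimeSpectrum k) _ _
    exact hxV
  obtain ⟨α₀, hα₀⟩ := exists_tangent q (z ≫ v.1) hxs ⟨V, hV⟩ hxV s (show X.presheaf.germ V _ hxV s ∈ _ from hsa ▸ ha)
    (show X.presheaf.germ V _ hxV s ∉ _ from hsa ▸ hna) htopV
  obtain ⟨j, hj⟩ : ∃ j, (z ≫ v.1).appLE V ⊤ htopV (c j) ≠ 0 := by
    by_contra hall
    push Not at hall
    refine hα₀ ?_
    show resO _ htopV (α₀.app V (OmegaSh.dSect q V s)) = 0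
    rw [← hc', map_sum, map_sum]
    refine Finset.sum_eq_zero fun l _ => ?_
    rw [Scheme.Modules.Hom.app_smul]
    refine (Groth.Agent.QC.res_smul (Coh.structureModule (Spec (CommRingCat.of k))) htopV ((z ≫ v.1).app V (c l)) _).trans ?_
    rw [show resO (Spec (CommRingCat.of k)) htopV ((z ≫ v.1).app V (c l)) = 0 from hall l, zero_smul]
  have htV : ⊤ ≤ t ⁻¹ᵁ (g ⁻¹ᵁ V) := by
    rw [← Scheme.Hom.comp_preimage, htg]
    exact htopV
  have hev : ∀ r : Γ(X, V), t.appLE _ ⊤ htV (g.app V r) = (z ≫ v.1).appLE V ⊤ htopV r := fun r => by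
    show (g.app V ≫ t.appLE _ ⊤ htV) r = _
    rw [Scheme.Hom.app_eq_appLE, Scheme.Hom.appLE_comp_appLE]
    simp only [htg]
  obtain ⟨α, hα⟩ := exists_form g e hd hfrV t htV c (j := j) (by rw [hev]; exact hj)
  rw [hc'] at hα
  obtain ⟨h, hh, hhα⟩ := HomTan.exists_isLift (X := CohB1.ProjSpace 1 k) (curveAt_comp mp hmp) α
  obtain ⟨G, hG, hGs⟩ := exists_family hM mp hmp hh
  let τ := mapε (X' := Spec (CommRingCat.of k)) (X := CohB1.ProjSpace 1 k) t ht ≫ G
  have hτz : τ (sect k (Spec (CommRingCat.of k)) (closedPoint k)) = z (closedPoint k) := by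
    rw [← Scheme.Hom.comp_apply]
    show (sect k (Spec (CommRingCat.of k)) ≫ mapε t ht ≫ G) _ = _
    rw [reassoc_of% (sect_mapε ht), hGs]
    exact congrArg (fun φ : Spec (CommRingCat.of k) ⟶ _ => φ (closedPoint k)) hti
  have hτv : τ ≫ v.1 = mapε (X' := Spec (CommRingCat.of k)) (X := CohB1.ProjSpace 1 k) t ht ≫ h := by
    rw [Category.assoc, hG]
  have e₁ : pr k (Spec (CommRingCat.of k)) ⁻¹ᵁ ⊤ ≤ τ ⁻¹ᵁ (v.1 ⁻¹ᵁ V) := fun y _ => by
    show v.1 (τ y) ∈ V
    rw [eq_sect y]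
    exact (congrArg (fun w => v.1 w) hτz).symm ▸ hxV
  have h0 := appLE_eq_zero_of_sq τ hτz (W := v.1 ⁻¹ᵁ V) hxV e₁ (v.1.app V s)
    (by rw [← Scheme.Hom.germ_stalkMap_apply, hsa]; exact ha2)
  have e₂ : pr k (Spec (CommRingCat.of k)) ⁻¹ᵁ ⊤ ≤
      (mapε (X' := Spec (CommRingCat.of k)) (X := CohB1.ProjSpace 1 k) t ht ≫ h) ⁻¹ᵁ V := by rw [← hτv]; exact e₁
  have h1 : (mapε (X' := Spec (CommRingCat.of k)) (X := CohB1.ProjSpace 1 k) t ht ≫ h).appLE V _ e₂ s = 0 := by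
    simp only [← hτv]
    refine Eq.trans ?_ h0
    show _ = (v.1.app V ≫ τ.appLE _ _ e₁) s
    rw [Scheme.Hom.app_eq_appLE, Scheme.Hom.appLE_comp_appLE]
  rw [appLE_mapε_comp ht hh hhα ⟨V, hV⟩ htV e₂ s, hev,
    appLE_eq_zero (z ≫ v.1) hxV htopV s (show X.presheaf.germ V _ hxV s ∈ _ from hsa ▸ ha), map_zero, zero_add] at h1
  exact hα (HomTan.em_injective (k := k) (Spec (CommRingCat.of k)) ⊤ (h1.trans (HomTan.em_zero _ ⊤).symm))

end Groth.Agent.FreeCurve
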