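import Groth.Agent.FreeCurve.MorRep
import Groth.Agent.DefLift.Extend2
import Groth.Agent.DefLift.RigidTriv
import Groth.Agent.DefLift.FieldCoeff
import Groth.Agent.DefLift.ExtendUniq
import Groth.Agent.DefLift.ExtPush
import Groth.Agent.AVOmega.Push
import Groth.Agent.SGA6Ext.Pull
import Groth.Agent.S2793
import Mathlib

/-!
# Lifting families of morphisms along small extensions; smoothness of schemes of morphisms
-/

set_option autoImplicit false
set_option linter.style.haveILetI false
set_option backward.isDefEq.respectTransparency false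
set_option backward.isDefEq.respectTransparency.types false
set_option maxHeartbeats 1000000

universe u

open CategoryTheory CategoryTheory.Limits AlgebraicGeometry Abelian

noncomputable section

namespace Groth.Agent.FreeCurve

theorem hasExt_modules (Z : Scheme.{u}) : HasExt.{u} Z.Modules := by
  haveI := SerrePn.enoughInjectives (X := Z)
  infer_instance

attribute [local instance] hasExt_modules

theorem specMap_closedPoint {A B : Type u} [CommRing A] [IsLocalRing A] [CommRing B] [IsLocalRing B] (ψ : A →+* B)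
    [IsLocalHom ψ] : Spec.map (CommRingCat.ofHom ψ) (IsLocalRing.closedPoint B) = IsLocalRing.closedPoint A :=
  IsLocalRing.comap_closedPoint ψ

theorem exists_stalk_factor {A : Type u} [CommRing A] [IsLocalRing A] {Z : Scheme.{u}}
    (γ : Spec (CommRingCat.of A) ⟶ Z) {z : Z} (h : γ (IsLocalRing.closedPoint A) = z) :
    ∃ g : Z.presheaf.stalk z ⟶ CommRingCat.of A, Spec.map g ≫ Z.fromSpecStalk z = γ := by
  subst h
  exact ⟨Scheme.stalkClosedPointTo γ, Scheme.Spec_stalkClosedPointTo_fromSpecStalk _⟩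

variable {Y X S : Scheme.{u}} {p : Y ⟶ S} {q : X ⟶ S}

/-- A family over an Artinian ring lifts along a small extension when the restriction to the closed fibre has no
first extensions of the pulled back differentials by the structure sheaf. -/
theorem exists_lift_small [Flat p] [Smooth q] [QuasiSeparated q] {A A₀ K : Type u} [CommRing A] [CommRing A₀]
    [Field K] (π : A →+* A₀) (hπ : Function.Surjective π) (e : A₀ →+* K) (he : Function.Surjective e)
    (hn : IsNilpotent (RingHom.ker e)) (hkill : ∀ a, e (π a) = 0 → ∀ r ∈ RingHom.ker π, a * r = 0)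
    (hfg : (RingHom.ker π).FG) {T T₀ TK : Over S} (gπ : T₀ ⟶ T) (ge : TK ⟶ T₀)
    (iT : T.left ≅ Spec (CommRingCat.of A)) (iT₀ : T₀.left ≅ Spec (CommRingCat.of A₀))
    (iTK : TK.left ≅ Spec (CommRingCat.of K))
    (hgπ : gπ.left = iT₀.hom ≫ Spec.map (CommRingCat.ofHom π) ≫ iT.inv)
    (hge : ge.left = iTK.hom ≫ Spec.map (CommRingCat.ofHom e) ≫ iT₀.inv)
    (φ₀ : MorSch.Obj p q T₀)
    (h : Subsingleton (Ext.{u} ((Scheme.Modules.pullback (MorSch.pull p q ge φ₀).1).obj (Omega.sheaf q))
      (Coh.structureModule (PicF.XT p TK)) 1)) :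
    ∃ φ : MorSch.Obj p q T, MorSch.pull p q gπ φ = φ₀ := by
  let f := PicF.XTproj p T ≫ iT.hom
  let f₀ := PicF.XTproj p T₀ ≫ iT₀.hom
  let fK := PicF.XTproj p TK ≫ iTK.hom
  let i := PicF.XTmap p gπ
  let i' := PicF.XTmap p ge
  haveI : IsClosedImmersion (Spec.map (CommRingCat.ofHom π)) := IsClosedImmersion.spec_of_surjective _ hπ
  haveI : IsClosedImmersion (Spec.map (CommRingCat.ofHom e)) := IsClosedImmersion.spec_of_surjective _ he
  haveI : Flat (PicF.XTproj p T) := MorphismProperty.pullback_snd _ _ inferInstance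
  haveI : Flat f := inferInstanceAs (Flat (_ ≫ _))
  have hP : IsPullback i f₀ f (Spec.map (CommRingCat.ofHom π)) := by
    have h1 := (S17082.isPullback_XTmap p gπ).paste_vert
      (IsPullback.of_vert_isIso (fst := gπ.left) (snd := iT₀.hom) (f := iT.hom) (g := Spec.map (CommRingCat.ofHom π))
        ⟨by rw [hgπ]; simp⟩)
    exact h1
  have hc : IsPullback i' fK f₀ (Spec.map (CommRingCat.ofHom e)) :=
    (S17082.isPullback_XTmap p ge).paste_vert
      (IsPullback.of_vert_isIso (fst := ge.left) (snd := iTK.hom) (f := iT₀.hom) (g := Spec.map (CommRingCat.ofHom e))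
        ⟨by rw [hge]; simp⟩)
  haveI : IsClosedImmersion i := MorphismProperty.of_isPullback hP.flip inferInstance
  haveI : IsClosedImmersion i' := MorphismProperty.of_isPullback hc.flip inferInstance
  have hsq : DefLift.IsSqZero i := DefLift.isSqZero_of_isPullback hP (DefLift.isSqZero_small π hπ e he hn hkill)
  obtain ⟨γ⟩ := DefLift.nonempty_coeff_iso_conormal hP
  obtain ⟨G, η, -, m, β, α, hid⟩ := DefLift.exists_fibre_coeff_retract π hπ e he hn hkill hfg f₀ i' fK hc
  have hF : FlatMod.IsFinLocFree ((Scheme.Modules.pullback φ₀.1).obj (Omega.sheaf q)) :=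
    SGA6Ext.isFinLocFree_pullback φ₀.1 (AVOmega.isFinLocFree_omega q)
  have hG : Subsingleton (Ext.{u} ((Scheme.Modules.pullback i').obj ((Scheme.Modules.pullback φ₀.1).obj (Omega.sheaf q)))
      G 1) := by
    refine DefLift.subsingleton_ext_of_retract β α hid ?_
    let c := (Scheme.Modules.pullbackComp i' φ₀.1).app (Omega.sheaf q)
    exact (((extFunctor.{u} 1).mapIso c.op).app (Coh.structureModule (PicF.XT p TK))).addCommGroupIsoToAddEquiv.subsingleton_congr.1 h
  have h3 := DefLift.ext_one_push i' hF (LocFree.isQCoh_of_isFinLocFree hF) G hG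
  let ε : Omega.conormal i ≅ (Scheme.Modules.pushforward i').obj G := γ.symm ≪≫ η
  have h4 : Subsingleton (Ext.{u} ((Scheme.Modules.pullback φ₀.1).obj (Omega.sheaf q)) (Omega.conormal i) 1) :=
    ((extFunctorObj _ 1).mapIso ε).addCommGroupIsoToAddEquiv.subsingleton_congr.2 h3
  have hsqr : φ₀.1 ≫ q = i ≫ (pullback.fst p T.hom ≫ p) := by
    rw [φ₀.2, ← Category.assoc, MorSch.XTmap_fst]
  obtain ⟨U, b, hU, hb₁, hb₂⟩ := DefLift.exists_local_lifts hsq q (pullback.fst p T.hom ≫ p) φ₀.1 hsqr
  obtain ⟨b', hb', hib⟩ := DefLift.exists_extension hsq q (pullback.fst p T.hom ≫ p) φ₀.1 U b hb₁ hb₂ hsqr hU h4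
  exact ⟨⟨b', hb'⟩, MorSch.Obj.ext hib⟩

/-- The scheme of morphisms is smooth over the base at a point whose morphism has no first extensions. -/
theorem exists_smooth_nhd [IsLocallyNoetherian S] [Flat p] [Smooth q] [QuasiSeparated q] {M : Over S}
    [LocallyOfFiniteType M.hom] {v : MorSch.Obj p q M} (hM : IsUnivN p q M v) (m : M.left)
    (h : ∀ (K : Type u) [Field K] (x : Spec (CommRingCat.of K) ⟶ M.left), x (IsLocalRing.closedPoint K) = m →
      Subsingleton (Ext.{u} ((Scheme.Modules.pullback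
        (MorSch.pull p q (Over.homMk x rfl : Over.mk (x ≫ M.hom) ⟶ M) v).1).obj (Omega.sheaf q))
        (Coh.structureModule (PicF.XT p (Over.mk (x ≫ M.hom)))) 1)) :
    ∃ U : M.left.Opens, m ∈ U ∧ Smooth (U.ι ≫ M.hom) := by
  refine (S2793.result M.hom m).2 fun A _ _ _ hA _ I hI hIm g₀ hg₀ hloc hres => ?_
  haveI : Nontrivial (A ⧸ I) := Ideal.Quotient.nontrivial_iff.2 hI
  haveI : IsLocalRing (A ⧸ I) := .of_surjective' _ Ideal.Quotient.mk_surjective
  haveI : IsArtinianRing (A ⧸ I) := Ideal.Quotient.mk_surjective.isArtinianRing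
  haveI hgloc : IsLocalHom g₀ := ⟨fun b hb => by
    by_contra hb'
    have h1 := hloc b ((IsLocalRing.mem_maximalIdeal b).2 hb')
    rw [Ideal.mem_map_iff_of_surjective _ Ideal.Quotient.mk_surjective] at h1
    obtain ⟨a, ha, hab⟩ := h1
    refine (IsLocalRing.mem_maximalIdeal a).1 ha ?_
    haveI : IsLocalHom (Ideal.Quotient.mk I) := IsLocalHom.of_surjective _ Ideal.Quotient.mk_surjective
    exact (isUnit_map_iff (Ideal.Quotient.mk I) a).1 (hab ▸ hb)⟩
  let π : A →+* A ⧸ I := Ideal.Quotient.mk I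
  let e : A ⧸ I →+* IsLocalRing.ResidueField (A ⧸ I) := IsLocalRing.residue _
  let sA : Spec (CommRingCat.of A) ⟶ S := Spec.map (CommRingCat.ofHom hA) ≫ S.fromSpecStalk _
  let a : Spec (CommRingCat.of (A ⧸ I)) ⟶ M.left := Spec.map (CommRingCat.ofHom g₀) ≫ M.left.fromSpecStalk m
  have ha : a ≫ M.hom = Spec.map (CommRingCat.ofHom π) ≫ sA := by
    simp only [a, sA, π, Category.assoc, ← Scheme.SpecMap_stalkMap_fromSpecStalk, ← Spec.map_comp_assoc]
    refine congrArg (fun φ => Spec.map φ ≫ _) ?_
    refine CommRingCat.hom_ext ?_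
    exact hg₀
  let T : Over S := Over.mk sA
  let T₀ : Over S := Over.mk (a ≫ M.hom)
  let x : Spec (CommRingCat.of (IsLocalRing.ResidueField (A ⧸ I))) ⟶ M.left := Spec.map (CommRingCat.ofHom e) ≫ a
  let TK : Over S := Over.mk (x ≫ M.hom)
  let gπ : T₀ ⟶ T := Over.homMk (Spec.map (CommRingCat.ofHom π)) ha.symm
  let ge : TK ⟶ T₀ := Over.homMk (Spec.map (CommRingCat.ofHom e)) (Category.assoc _ _ _).symm
  let g : T₀ ⟶ M := Over.homMk a rfl
  have hx : x (IsLocalRing.closedPoint _) = m := by
    simp only [x, a, Scheme.Hom.comp_apply]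
    haveI : IsLocalHom e := IsLocalHom.of_surjective _ IsLocalRing.residue_surjective
    erw [specMap_closedPoint e, specMap_closedPoint g₀]
    exact Scheme.fromSpecStalk_closedPoint
  have hfg : (RingHom.ker π).FG := (isNoetherianRing_iff_ideal_fg _).1 inferInstance _
  have hker : RingHom.ker e = IsLocalRing.maximalIdeal (A ⧸ I) := IsLocalRing.ker_residue
  obtain ⟨φ, hφ⟩ := exists_lift_small π Ideal.Quotient.mk_surjective e IsLocalRing.residue_surjective
    (by
      rw [hker, ← IsLocalRing.jacobson_eq_maximalIdeal (⊥ : Ideal (A ⧸ I)) bot_ne_top]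
      exact IsArtinianRing.isNilpotent_jacobson_bot)
    (fun b hb r hr => by
      have hb' : b ∈ IsLocalRing.maximalIdeal A := by
        have h1 : π b ∈ IsLocalRing.maximalIdeal (A ⧸ I) := hker ▸ hb
        rw [IsLocalRing.mem_maximalIdeal] at h1 ⊢
        exact fun hu => h1 (hu.map π)
      rw [RingHom.mem_ker, Ideal.Quotient.eq_zero_iff_mem] at hr
      have h2 := Ideal.mul_mem_mul hr hb'
      rw [hIm, Ideal.mem_bot] at h2
      rw [mul_comm]; exact h2)
    hfg gπ ge (Iso.refl _) (Iso.refl _) (Iso.refl _) ((Category.comp_id _).symm.trans (Category.id_comp _).symm) ((Category.comp_id _).symm.trans (Category.id_comp _).symm) (MorSch.pull p q g v)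
    (by
      rw [← MorSch.pull_comp]
      exact h _ x hx)
  haveI : IsLocallyNoetherian T.left := inferInstanceAs (IsLocallyNoetherian (Spec (CommRingCat.of A)))
  haveI : IsLocallyNoetherian T₀.left := inferInstanceAs (IsLocallyNoetherian (Spec (CommRingCat.of (A ⧸ I))))
  obtain ⟨γ, hγ, -⟩ := hM.2 T φ
  have hγg : gπ ≫ γ = g := by
    refine (hM.2 T₀ (MorSch.pull p q g v)).unique ?_ rfl
    rw [MorSch.pull_comp, hγ, hφ]
  have hpt : γ.left (IsLocalRing.closedPoint A) = m := by
    have h1 := congrArg (fun f => f.left (IsLocalRing.closedPoint (A ⧸ I))) hγg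
    simp only [Over.comp_left, Scheme.Hom.comp_apply] at h1
    haveI : IsLocalHom π := IsLocalHom.of_surjective _ Ideal.Quotient.mk_surjective
    erw [specMap_closedPoint π] at h1
    rw [h1]
    show (Spec.map (CommRingCat.ofHom g₀) ≫ M.left.fromSpecStalk m) _ = m
    rw [Scheme.Hom.comp_apply]
    erw [specMap_closedPoint g₀]
    exact Scheme.fromSpecStalk_closedPoint
  obtain ⟨g', hfac⟩ := exists_stalk_factor γ.left hpt
  refine ⟨g'.hom, ?_, ?_⟩
  · have h1 : Spec.map (M.hom.stalkMap m ≫ g') = Spec.map (CommRingCat.ofHom hA) :=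
      (cancel_mono (S.fromSpecStalk _)).1 (by
        rw [Spec.map_comp_assoc, Scheme.SpecMap_stalkMap_fromSpecStalk, ← Category.assoc, hfac]
        exact Over.w γ)
    exact congrArg CommRingCat.Hom.hom (Spec.map_injective h1)
  · have h1 : Spec.map (g' ≫ CommRingCat.ofHom π) = Spec.map (CommRingCat.ofHom g₀) :=
      (cancel_mono (M.left.fromSpecStalk _)).1 (by
        rw [Spec.map_comp_assoc, hfac]
        exact congrArg (fun f => f.left) hγg)
    exact congrArg CommRingCat.Hom.hom (Spec.map_injective h1)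

end Groth.Agent.FreeCurve
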