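import Mathlib

/-!
# Two local homomorphisms agreeing on generators of the maximal ideal
-/

set_option autoImplicit false

universe u

open IsLocalRing (maximalIdeal)

namespace Groth.Agent.FreeCurve

/-- Homomorphisms into a noetherian local domain which agree on generators of the maximal ideal and on
representatives of the residues are equal. -/
theorem eq_of_maximalIdeal_le_map {B A R : Type u} [CommRing B] [IsLocalRing B] [CommRing A] [IsLocalRing A]
    [CommRing R] [IsLocalRing R] [IsNoetherianRing R] [IsDomain R] (σ : B →+* A) (a b : A →+* R) [IsLocalHom a]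
    (hσ : maximalIdeal A ≤ (maximalIdeal B).map σ) (hab : a.comp σ = b.comp σ)
    (hdec : ∀ r : A, ∃ c, a c = b c ∧ r - c ∈ maximalIdeal A) [IsLocalHom σ] [IsLocalHom b] : a = b := by
  have key : ∀ (j : ℕ) (r : A), a r - b r ∈ maximalIdeal R ^ (j + 1) := by
    intro j
    induction j with
    | zero =>
      intro r
      obtain ⟨c, hc, hr⟩ := hdec r
      rw [pow_one, show a r - b r = a (r - c) - b (r - c) by rw [map_sub, map_sub, hc]; ring]
      exact sub_mem (by rw [IsLocalRing.mem_maximalIdeal] at hr ⊢; exact fun hu => hr (IsLocalHom.map_nonunit _ hu))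
        (by rw [IsLocalRing.mem_maximalIdeal] at hr ⊢; exact fun hu => hr (IsLocalHom.map_nonunit _ hu))
    | succ j ih =>
      have hm : ∀ s ∈ maximalIdeal A, a s - b s ∈ maximalIdeal R ^ (j + 1 + 1) := by
        intro s hs
        have hs' := hσ hs
        rw [Ideal.map] at hs'
        induction hs' using Submodule.span_induction with
        | mem y hy =>
          obtain ⟨z, -, rfl⟩ := hy
          rw [show a (σ z) = b (σ z) from RingHom.congr_fun hab z, sub_self]
          exact zero_mem _
        | zero => simp
        | add x y hx hy hx' hy' =>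
          rw [show a (x + y) - b (x + y) = (a x - b x) + (a y - b y) by rw [map_add, map_add]; ring]
          exact add_mem (hx' (by
            have h1 : Ideal.map σ (maximalIdeal B) ≤ maximalIdeal A := Ideal.map_le_iff_le_comap.2 fun z hz => by
              rw [IsLocalRing.mem_maximalIdeal] at hz
              rw [Ideal.mem_comap, IsLocalRing.mem_maximalIdeal]
              exact fun hu => hz (IsLocalHom.map_nonunit _ hu)
            exact h1 hx)) (hy' (by
            have h1 : Ideal.map σ (maximalIdeal B) ≤ maximalIdeal A := Ideal.map_le_iff_le_comap.2 fun z hz => by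
              rw [IsLocalRing.mem_maximalIdeal] at hz
              rw [Ideal.mem_comap, IsLocalRing.mem_maximalIdeal]
              exact fun hu => hz (IsLocalHom.map_nonunit _ hu)
            exact h1 hy))
        | smul c y hy hy' =>
          have h1 : y ∈ maximalIdeal A := by
            have h2 : Ideal.map σ (maximalIdeal B) ≤ maximalIdeal A := Ideal.map_le_iff_le_comap.2 fun z hz => by
              rw [IsLocalRing.mem_maximalIdeal] at hz
              rw [Ideal.mem_comap, IsLocalRing.mem_maximalIdeal]
              exact fun hu => hz (IsLocalHom.map_nonunit _ hu)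
            exact h2 hy
          have h3 : a y ∈ maximalIdeal R := by
            rw [IsLocalRing.mem_maximalIdeal] at h1 ⊢; exact fun hu => h1 (IsLocalHom.map_nonunit _ hu)
          rw [smul_eq_mul, show a (c * y) - b (c * y) = (a c - b c) * a y + b c * (a y - b y) by
            rw [map_mul, map_mul]; ring]
          refine add_mem ?_ (Ideal.mul_mem_left _ _ (hy' h1))
          rw [pow_succ]
          exact Ideal.mul_mem_mul (ih c) h3
      intro r
      obtain ⟨c, hc, hr⟩ := hdec r
      rw [show a r - b r = a (r - c) - b (r - c) by rw [map_sub, map_sub, hc]; ring]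
      exact hm _ hr
  refine RingHom.ext fun r => sub_eq_zero.1 ?_
  have h1 : a r - b r ∈ ⨅ j : ℕ, maximalIdeal R ^ j := by
    rw [Submodule.mem_iInf]
    intro j
    exact Ideal.pow_le_pow_right (Nat.le_succ j) (key j r)
  rw [Ideal.iInf_pow_eq_bot_of_isDomain (maximalIdeal R) (IsLocalRing.maximalIdeal.isMaximal R).ne_top] at h1
  exact h1

end Groth.Agent.FreeCurve
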