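import Groth.Prelude.Def_MorSch
import Groth.Prelude.Def_FGA
import Groth.Agent.S17076
import Groth.Agent.S17082
import Mathlib

/-!
# Schemes of morphisms as open subschemes of Hilbert schemes, via graphs
-/

set_option autoImplicit false
set_option linter.style.haveILetI false
set_option backward.isDefEq.respectTransparency false
set_option backward.isDefEq.respectTransparency.types false

universe u

open CategoryTheory CategoryTheory.Limits AlgebraicGeometry

noncomputable section

namespace Groth.Agent.FreeCurve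

variable {Y X S : Scheme.{u}} (p : Y ⟶ S) (q : X ⟶ S)

/-- `(M, v)` is the scheme of morphisms on locally noetherian test schemes. -/
def IsUnivN (M : Over S) (v : MorSch.Obj p q M) : Prop :=
  IsLocallyNoetherian M.left ∧
    ∀ (T : Over S) [IsLocallyNoetherian T.left] (φ : MorSch.Obj p q T), ∃! g : T ⟶ M, MorSch.pull p q g v = φ

theorem isUnivN_of_isUniversal {M : Over S} [IsLocallyNoetherian M.left] {v : MorSch.Obj p q M}
    (h : MorSch.IsUniversal p q M v) : IsUnivN p q M v := ⟨inferInstance, fun T _ => h T⟩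

/-- The product over the base, with its structure morphism. -/
abbrev prd : pullback p q ⟶ S := pullback.fst p q ≫ p

variable {p q} in
/-- The projection of the product family to the source family. -/
def toSrc (T : Over S) : PicF.XT (prd p q) T ⟶ PicF.XT p T :=
  pullback.lift (pullback.fst (prd p q) T.hom ≫ pullback.fst p q) (pullback.snd _ _) (by
    rw [Category.assoc]; exact pullback.condition)

variable {p q} in
/-- The graph of a family of morphisms. -/
def gr {T : Over S} (φ : MorSch.Obj p q T) : PicF.XT p T ⟶ PicF.XT (prd p q) T :=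
  pullback.lift (pullback.lift (pullback.fst p T.hom) φ.1 φ.2.symm) (pullback.snd _ _) (by
    rw [pullback.lift_fst_assoc]; exact pullback.condition)

variable {p q}

theorem gr_toSrc {T : Over S} (φ : MorSch.Obj p q T) : gr φ ≫ toSrc T = 𝟙 _ := by
  apply pullback.hom_ext <;> simp [gr, toSrc]

theorem gr_val {T : Over S} (φ : MorSch.Obj p q T) :
    gr φ ≫ pullback.fst (prd p q) T.hom ≫ pullback.snd p q = φ.1 := by
  simp [gr]

theorem gr_proj {T : Over S} (φ : MorSch.Obj p q T) :
    gr φ ≫ PicF.XTproj (prd p q) T = PicF.XTproj p T :=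
  pullback.lift_snd _ _ _

theorem isPullback_toSrc (T : Over S) :
    IsPullback (toSrc (p := p) (q := q) T) (pullback.fst (prd p q) T.hom ≫ pullback.snd p q)
      (pullback.fst p T.hom ≫ p) q := by
  have h1 : IsPullback (pullback.fst (prd p q) T.hom) (toSrc T) (pullback.fst p q) (pullback.fst p T.hom) := by
    refine IsPullback.of_bot ?_ (pullback.lift_fst _ _ _).symm (IsPullback.of_hasPullback p T.hom)
    rw [show toSrc T ≫ pullback.snd p T.hom = pullback.snd (prd p q) T.hom from pullback.lift_snd _ _ _]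
    exact IsPullback.of_hasPullback (prd p q) T.hom
  exact (h1.flip.paste_vert (IsPullback.of_hasPullback p q)).flip.flip

instance isSeparated_toSrc [IsSeparated q] (T : Over S) : IsSeparated (toSrc (p := p) (q := q) T) :=
  MorphismProperty.of_isPullback (isPullback_toSrc T).flip ‹IsSeparated q›

instance isClosedImmersion_gr [IsSeparated q] {T : Over S} (φ : MorSch.Obj p q T) : IsClosedImmersion (gr φ) := by
  haveI : IsClosedImmersion (gr φ ≫ toSrc T) := by rw [gr_toSrc]; infer_instance
  exact IsClosedImmersion.of_comp (gr φ) (toSrc T)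

theorem gr_ker_injective [IsSeparated q] {T : Over S} {φ ψ : MorSch.Obj p q T} (h : (gr φ).ker = (gr ψ).ker) :
    φ = ψ := by
  let e : PicF.XT p T ⟶ PicF.XT p T := IsClosedImmersion.lift (gr ψ) (gr φ) h.ge
  have he : e ≫ gr ψ = gr φ := IsClosedImmersion.lift_fac _ _ _
  have : e = 𝟙 _ := by
    have h2 := congrArg (· ≫ toSrc T) he
    rwa [Category.assoc, gr_toSrc, gr_toSrc, Category.comp_id] at h2
  rw [this, Category.id_comp] at he
  exact MorSch.Obj.ext (by rw [← gr_val φ, ← gr_val ψ, he])

theorem isPullback_toSrc_XTmap {T T' : Over S} (g : T' ⟶ T) :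
    IsPullback (PicF.XTmap (prd p q) g) (toSrc T') (toSrc T) (PicF.XTmap p g) := by
  refine IsPullback.of_bot ?_ ?_ (S17082.isPullback_XTmap p g)
  · have h : ∀ U : Over S, toSrc (p := p) (q := q) U ≫ pullback.snd p U.hom = pullback.snd (prd p q) U.hom :=
      fun U => pullback.lift_snd _ _ _
    rw [h, h]
    exact S17082.isPullback_XTmap (prd p q) g
  · apply pullback.hom_ext <;> simp [toSrc, PicF.XTmap]

theorem gr_XTmap {T T' : Over S} (g : T' ⟶ T) (φ : MorSch.Obj p q T) :
    gr (MorSch.pull p q g φ) ≫ PicF.XTmap (prd p q) g = PicF.XTmap p g ≫ gr φ := by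
  apply pullback.hom_ext
  · apply pullback.hom_ext <;> simp [gr, PicF.XTmap]
  · simp [gr, PicF.XTmap]

theorem isPullback_gr {T T' : Over S} (g : T' ⟶ T) (φ : MorSch.Obj p q T) :
    IsPullback (PicF.XTmap p g) (gr (MorSch.pull p q g φ)) (gr φ) (PicF.XTmap (prd p q) g) := by
  refine IsPullback.of_bot ?_ (gr_XTmap g φ).symm (isPullback_toSrc_XTmap g)
  rw [gr_toSrc, gr_toSrc]
  exact IsPullback.of_vert_isIso ⟨by rw [Category.comp_id, Category.id_comp]⟩

theorem comap_gr [IsSeparated q] {T T' : Over S} (g : T' ⟶ T) (φ : MorSch.Obj p q T) :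
    (gr φ).ker.comap (PicF.XTmap (prd p q) g) = (gr (MorSch.pull p q g φ)).ker := by
  rw [← Scheme.IdealSheafData.ker_fst_of_isClosedImmersion, ← (isPullback_gr g φ).flip.isoPullback_inv_fst,
    Scheme.Hom.ker_comp_of_isIso]

/-- The graph as a member of the Hilbert functor of the product. -/
def grSet [IsSeparated q] [IsProper p] [Flat p] {T : Over S} (φ : MorSch.Obj p q T) :
    FGA.HilbSet (prd p q) T :=
  ⟨(gr φ).ker, by
    have e : (gr φ).toImage ≫ ((gr φ).ker.subschemeι ≫ PicF.XTproj (prd p q) T) = PicF.XTproj p T := by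
      rw [← Category.assoc]
      exact ((congrArg (· ≫ _) (gr φ).toImage_imageι)).trans (gr_proj φ)
    haveI : IsProper (PicF.XTproj p T) := MorphismProperty.pullback_snd _ _ inferInstance
    haveI : Flat (PicF.XTproj p T) := MorphismProperty.pullback_snd _ _ inferInstance
    have e' : (gr φ).ker.subschemeι ≫ PicF.XTproj (prd p q) T = inv (gr φ).toImage ≫ PicF.XTproj p T :=
      (IsIso.eq_inv_comp _).2 e
    constructor
    · rw [e']; infer_instance
    · rw [e']; infer_instance⟩

/-- The locus of graphs in the Hilbert scheme of the product is open and is the scheme of morphisms. -/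
theorem exists_open_locus [IsLocallyNoetherian S] [IsProper p] [Flat p] [IsSeparated q] (H : Over S)
    (Z : FGA.HilbSet (prd p q) H) (hH : FGA.HilbRepresentedBy (prd p q) H Z) :
    ∃ (H₀ : H.left.Opens) (v : MorSch.Obj p q (Over.mk (H₀.ι ≫ H.hom))),
      IsUnivN p q (Over.mk (H₀.ι ≫ H.hom)) v ∧
      (∀ (T : Over S) (g : T ⟶ Over.mk (H₀.ι ≫ H.hom)),
        FGA.hilbPull (prd p q) (g ≫ Over.homMk H₀.ι rfl) Z.1 = (gr (MorSch.pull p q g v)).ker) ∧
      ∀ (T : Over S) [IsLocallyNoetherian T.left] (φ : MorSch.Obj p q T) (g : T ⟶ H),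
        FGA.hilbPull (prd p q) g Z.1 = (gr φ).ker → Set.range g.left ⊆ (H₀ : Set H.left) := by
  haveI := hH.1
  let zι := Z.1.subschemeι
  let a : Z.1.subscheme ⟶ PicF.XT p H := zι ≫ toSrc H
  have ha : a ≫ PicF.XTproj p H = zι ≫ PicF.XTproj (prd p q) H := by
    rw [Category.assoc]; exact congrArg (zι ≫ ·) (pullback.lift_snd _ _ _)
  haveI : IsProper (zι ≫ PicF.XTproj (prd p q) H) := Z.2.1
  haveI : Flat (zι ≫ PicF.XTproj (prd p q) H) := Z.2.2
  haveI : IsProper (PicF.XTproj p H) := MorphismProperty.pullback_snd _ _ inferInstance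
  haveI : IsProper (Over.mk (zι ≫ PicF.XTproj (prd p q) H)).hom :=
    inferInstanceAs (IsProper (zι ≫ PicF.XTproj (prd p q) H))
  haveI : Flat (Over.mk (zι ≫ PicF.XTproj (prd p q) H)).hom := inferInstanceAs (Flat (zι ≫ PicF.XTproj (prd p q) H))
  haveI : IsProper (Over.mk (PicF.XTproj p H)).hom := inferInstanceAs (IsProper (PicF.XTproj p H))
  obtain ⟨H₀, hH₀⟩ := S17076.result (Over.mk (zι ≫ PicF.XTproj (prd p q) H)) (Over.mk (PicF.XTproj p H))
    (Over.homMk a ha)
  have key : ∀ (T : Over S) [IsLocallyNoetherian T.left] (g : T ⟶ H),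
      Set.range g.left ⊆ (H₀ : Set H.left) ↔
        IsIso (pullback.snd zι (PicF.XTmap (prd p q) g) ≫ toSrc T) := fun T _ g => by
    rw [hH₀ T.left g.left]
    have hW : IsPullback (pullback.fst zι (PicF.XTmap (prd p q) g))
        (pullback.snd zι (PicF.XTmap (prd p q) g) ≫ PicF.XTproj (prd p q) T)
        (zι ≫ PicF.XTproj (prd p q) H) g.left :=
      (IsPullback.of_hasPullback zι (PicF.XTmap (prd p q) g)).paste_vert (S17082.isPullback_XTmap (prd p q) g)
    have hY := S17082.isPullback_XTmap p g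
    let e₁ := hW.isoPullback
    let e₂ := hY.isoPullback
    have hm : pullback.snd zι (PicF.XTmap (prd p q) g) ≫ toSrc T =
        e₁.hom ≫ ((Over.pullback g.left).map
          (Over.homMk (U := Over.mk (zι ≫ PicF.XTproj (prd p q) H)) (V := Over.mk (PicF.XTproj p H)) a ha)).left ≫
          e₂.inv := by
      rw [← cancel_mono e₂.hom, Category.assoc, Category.assoc, Category.assoc, Iso.inv_hom_id, Category.comp_id]
      apply pullback.hom_ext
      · simp [e₁, e₂, a, Over.pullback, (isPullback_toSrc_XTmap (p := p) (q := q) g).w.symm, pullback.condition_assoc]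
      · simp [e₁, e₂, a, Over.pullback, toSrc]
    rw [hm]
    constructor
    · intro h; infer_instance
    · intro h
      haveI := IsIso.of_isIso_comp_left e₁.hom (((Over.pullback g.left).map
          (Over.homMk (U := Over.mk (zι ≫ PicF.XTproj (prd p q) H)) (V := Over.mk (PicF.XTproj p H)) a ha)).left ≫ e₂.inv)
      exact IsIso.of_isIso_comp_right _ e₂.inv
  let M : Over S := Over.mk (H₀.ι ≫ H.hom)
  haveI : IsLocallyNoetherian M.left := inferInstanceAs (IsLocallyNoetherian (H₀ : Scheme.{u}))
  let j : M ⟶ H := Over.homMk H₀.ι rfl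
  haveI := (key M j).1 (le_of_eq (Scheme.Opens.range_ι H₀))
  let w := pullback.snd zι (PicF.XTmap (prd p q) j)
  let φ₀ : PicF.XT p M ⟶ X := inv (w ≫ toSrc M) ≫ w ≫ pullback.fst _ _ ≫ pullback.snd p q
  let v : MorSch.Obj p q M := ⟨φ₀, by
    show (inv (w ≫ toSrc M) ≫ w ≫ pullback.fst _ _ ≫ pullback.snd p q) ≫ q = _
    rw [Category.assoc, IsIso.inv_comp_eq]
    have h : pullback.fst (prd p q) M.hom ≫ pullback.fst p q ≫ p = pullback.snd (prd p q) M.hom ≫ M.hom :=
      pullback.condition
    simp only [toSrc, Category.assoc, pullback.lift_fst_assoc]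
    rw [← pullback.condition (f := p) (g := q)]⟩
  have hgr : gr v = inv (w ≫ toSrc M) ≫ w := by
    rw [IsIso.eq_inv_comp]
    apply pullback.hom_ext
    · apply pullback.hom_ext
      · simp [gr, toSrc]
      · simp [gr, v, φ₀]
        rw [← Category.assoc w (toSrc M), IsIso.hom_inv_id_assoc]
    · simp [gr, toSrc]
  have hv : FGA.hilbPull (prd p q) j Z.1 = (gr v).ker := by
    rw [hgr, Scheme.Hom.ker_comp_of_isIso]; rfl
  have hpull : ∀ (T : Over S) (g : T ⟶ M),
      FGA.hilbPull (prd p q) (g ≫ j) Z.1 = (gr (MorSch.pull p q g v)).ker := fun T g => by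
    rw [← comap_gr, ← hv, S17082.hilbPull_eq_comap, S17082.hilbPull_eq_comap, ← Scheme.IdealSheafData.comap_comp,
      MorSch.XTmap_comp]
  have hland : ∀ (T : Over S) [IsLocallyNoetherian T.left] (φ : MorSch.Obj p q T) (g : T ⟶ H),
      FGA.hilbPull (prd p q) g Z.1 = (gr φ).ker → Set.range g.left ⊆ (H₀ : Set H.left) := fun T _ φ g h => by
    rw [key T g]
    let w' := pullback.snd zι (PicF.XTmap (prd p q) g)
    have h' : w'.ker = (gr φ).ker := h
    let e : pullback zι (PicF.XTmap (prd p q) g) ⟶ PicF.XT p T := IsClosedImmersion.lift (gr φ) w' h'.ge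
    have he : e ≫ gr φ = w' := IsClosedImmersion.lift_fac _ _ _
    haveI : IsIso e := IsClosedImmersion.isIso_lift (gr φ) w' h'.symm
    rw [show w' ≫ toSrc T = e by rw [← he, Category.assoc, gr_toSrc, Category.comp_id]]
    infer_instance
  refine ⟨H₀, v, ⟨inferInstance, fun T _ φ => ?_⟩, hpull, fun T _ φ g => hland T φ g⟩
  obtain ⟨g, hg, hu⟩ := hH.2 T (grSet φ)
  let g₀ : T.left ⟶ H₀ := IsOpenImmersion.lift H₀.ι g.left (by
    rw [Scheme.Opens.range_ι]; exact hland T φ g hg)
  have hg₀ : g₀ ≫ H₀.ι = g.left := IsOpenImmersion.lift_fac _ _ _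
  let g' : T ⟶ M := Over.homMk g₀ (by
    show g₀ ≫ H₀.ι ≫ H.hom = _
    rw [← Category.assoc, hg₀, Over.w g])
  have hg' : g' ≫ j = g := Over.OverMorphism.ext hg₀
  refine ⟨g', gr_ker_injective (by rw [← hpull T g', hg']; exact hg), fun g'' hg'' => ?_⟩
  have h2 : g'' ≫ j = g := hu _ ((hpull T g'').trans (congrArg (fun ψ => (gr ψ).ker) hg''))
  refine Over.OverMorphism.ext ((cancel_mono H₀.ι).1 ?_)
  exact (congrArg (fun f => f.left) h2).trans hg₀.symm

end Groth.Agent.FreeCurve
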