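import Groth.Agent.FreeCurve.EvTan
import Groth.Agent.ProjMor.Base
import Mathlib

/-!
# Forms on negative twists of the line with prescribed values at two points
-/

set_option autoImplicit false
set_option linter.style.haveILetI false
set_option backward.isDefEq.respectTransparency false
set_option backward.isDefEq.respectTransparency.types false
set_option synthInstance.maxHeartbeats 400000
set_option maxHeartbeats 1000000

universe u

open CategoryTheory CategoryTheory.Limits AlgebraicGeometry TopologicalSpace Opposite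
open Groth.Agent.QC (resO res app_res res_res)
open IsLocalRing (closedPoint)

noncomputable section

namespace Groth.Agent.FreeCurve

open Groth.Agent.P1Split (O U)

variable {k : Type u} [Field k] {i : Fin 2}

variable (k i) in
/-- Dehomogenisation on a chart. -/
def dh : MvPolynomial (Fin 2) k →+* Γ(CohB1.ProjSpace 1 k, U k i) :=
  GrT.deh (CohB1.polyGrading 1 k) (CurveP1.X_mem k i)

theorem dh_X0 : dh k i (MvPolynomial.X i) = 1 := GrT.deh_self _ _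

/-- Maps from a negative twist to the structure sheaf realise every form of the complementary degree. -/
theorem exists_hom_form {d : ℤ} (hd : d < 0) :
    ∃ (e : Γ(O k d, U k i)) (u : Γ(CohB1.ProjSpace 1 k, U k i)), TMul.IsGen e ∧ IsUnit u ∧
      ∀ P ∈ CohB1.polyGrading 1 k (-d).toNat, ∃ c : O k d ⟶ Coh.structureModule (CohB1.ProjSpace 1 k),
        (show Γ(CohB1.ProjSpace 1 k, U k i) from c.app (U k i) e) = dh k i P * u := by
  let 𝒜 := CohB1.polyGrading 1 k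
  let x : MvPolynomial (Fin 2) k := MvPolynomial.X i
  let m : ℕ := (-d).toNat
  have hm : x ^ m ∈ 𝒜 m := GrT.pow_mem_one 𝒜 (CurveP1.X_mem k i) m
  have h1 : (1 : MvPolynomial (Fin 2) k) ∈ 𝒜 0 := SetLike.one_mem_graded 𝒜
  have hU : U k i ≤ Proj.basicOpen 𝒜 (x ^ m) := fun y hy =>
    (ProjectiveSpectrum.mem_basicOpen 𝒜 _ y).2 (GrT.not_mem_pow 𝒜 ((ProjectiveSpectrum.mem_basicOpen 𝒜 _ y).1 hy) m)
  have hU1 : U k i ≤ Proj.basicOpen 𝒜 (1 : MvPolynomial (Fin 2) k) := fun y _ =>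
    (ProjectiveSpectrum.mem_basicOpen 𝒜 _ y).2 fun h => y.isPrime.ne_top ((Ideal.eq_top_iff_one _).2 h)
  have hN : ((0 : ℕ) : ℤ) = (m : ℤ) + d := by omega
  have h0 : ((0 : ℕ) : ℤ) = ((0 : ℕ) : ℤ) + 0 := by simp
  let e : Γ(O k d, U k i) := GrT.twistGen 𝒜 h1 hm hN hU
  have he : TMul.IsGen e := fun V hV => GrT.twistGen_bijective 𝒜 h1 hm hN hU1 hU V hV
  let e₀ : Γ(O k 0, U k i) := GrT.twistGen 𝒜 h1 h1 h0 hU1
  have he₀ : TMul.IsGen e₀ := fun V hV => GrT.twistGen_bijective 𝒜 h1 h1 h0 hU1 hU1 V hV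
  obtain ⟨w⟩ := PnHodge.nonempty_twist_zero_iso (n := 1) (A := k)
  refine ⟨e, w.hom.app (U k i) e₀, he, isUnit_of_isGen (isGen_map_iso w he₀), fun P hP => ?_⟩
  have hshift : d + (m : ℤ) = 0 := by omega
  refine ⟨TwistPairing.mulMap hP hshift ≫ w.hom, ?_⟩
  have himg : (TwistPairing.mulMap hP hshift).app (U k i) e = dh k i P • e₀ := by
    refine GrT.pt_ext 𝒜 𝒜 fun y => ?_
    have hy : x ^ m ∉ y.1.asHomogeneousIdeal := (ProjectiveSpectrum.mem_basicOpen 𝒜 _ y.1).1 (hU y.2)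
    refine (TwistPairing.pt_mulTilde 𝒜 hP hshift e y (P := 1) hy rfl).trans ?_
    have h2 : GrT.pO 𝒜 (dh k i P) y = Localization.mk P ⟨x ^ m, hy⟩ :=
      Eq.trans (congrArg (fun c => GrT.pO 𝒜 (V := U k i) c y)
        (Groth.Agent.QC.resO_self (X := Proj 𝒜) (U := U k i) le_rfl (dh k i P)).symm)
        (GrT.pO_deh 𝒜 (CurveP1.X_mem k i) hP (le_refl (U k i)) y hy)
    rw [GrT.pt_smul]
    change _ = GrT.pO 𝒜 (dh k i P) y • _
    rw [h2]
    change _ = Localization.mk P ⟨x ^ m, hy⟩ * Localization.mk (1 : MvPolynomial (Fin 2) k) ⟨1, _⟩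
    rw [Localization.mk_mul]
    exact GrT.fr_congr 𝒜 y.1 hy _ (by simp)
  show w.hom.app _ ((TwistPairing.mulMap hP hshift).app _ e) = _
  rw [himg, Scheme.Modules.Hom.app_smul]
  rfl

variable (t : Spec (CommRingCat.of k) ⟶ CohB1.ProjSpace 1 k) (ht : t ≫ CohB1.ProjSpace.toSpec 1 k = 𝟙 _)
  (t' : Spec (CommRingCat.of k) ⟶ CohB1.ProjSpace 1 k) (ht' : t' ≫ CohB1.ProjSpace.toSpec 1 k = 𝟙 _)

include ht ht' in
/-- Forms on a negative twist separate two points of a chart. -/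
theorem exists_separating {d : ℤ} (hd : d < 0) (hne : t ≠ t') (h0 : ⊤ ≤ t ⁻¹ᵁ U k i) (h0' : ⊤ ≤ t' ⁻¹ᵁ U k i) :
    ∃ e : Γ(O k d, U k i), TMul.IsGen e ∧ ∀ b : Γ(Spec (CommRingCat.of k), ⊤),
      ∃ c : O k d ⟶ Coh.structureModule (CohB1.ProjSpace 1 k),
        t.appLE (U k i) ⊤ h0 (c.app (U k i) e) = b ∧ t'.appLE (U k i) ⊤ h0' (c.app (U k i) e) = 0 := by
  let 𝒜 := CohB1.polyGrading 1 k
  obtain ⟨e, u, he, hu, hform⟩ := exists_hom_form (k := k) hd
  refine ⟨e, he, fun b => ?_⟩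
  let φ : MvPolynomial (Fin 2) k →+* Γ(Spec (CommRingCat.of k), ⊤) :=
    (t.appLE (U k i) ⊤ h0).hom.comp (dh k i)
  let φ' : MvPolynomial (Fin 2) k →+* Γ(Spec (CommRingCat.of k), ⊤) :=
    (t'.appLE (U k i) ⊤ h0').hom.comp (dh k i)
  let κ : k →+* Γ(Spec (CommRingCat.of k), ⊤) := (Scheme.ΓSpecIso (CommRingCat.of k)).inv.hom
  have hκ : Function.Surjective κ := fun r => ⟨_, Iso.hom_inv_id_apply (Scheme.ΓSpecIso (CommRingCat.of k)) r⟩
  have hconst : ∀ c, φ (MvPolynomial.C c) = κ c ∧ φ' (MvPolynomial.C c) = κ c := fun c => by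
    constructor
    · refine (ProjMor.ev_deh_algebraMap 𝒜 t (show t ≫ ProjMor.base 𝒜 = 𝟙 _ from ht) (CurveP1.X_mem k i) h0 c).trans ?_
      rw [Groth.Agent.QC.resO_self]; rfl
    · refine (ProjMor.ev_deh_algebraMap 𝒜 t' (show t' ≫ ProjMor.base 𝒜 = 𝟙 _ from ht') (CurveP1.X_mem k i) h0' c).trans ?_
      rw [Groth.Agent.QC.resO_self]; rfl
  have hX0 : φ (MvPolynomial.X i) = 1 ∧ φ' (MvPolynomial.X i) = 1 := by
    constructor <;> simp [φ, φ', dh_X0]
  obtain ⟨j', hj'⟩ : ∃ j' : Fin 2, ∀ j, j = i ∨ j = j' :=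
    ⟨1 - i, (by decide : ∀ a j : Fin 2, j = a ∨ j = 1 - a) i⟩
  have hX1 : φ (MvPolynomial.X j') ≠ φ' (MvPolynomial.X j') := fun h => hne (by
    have hφ : φ = φ' := MvPolynomial.ringHom_ext (fun c => (hconst c).1.trans (hconst c).2.symm) fun j => by
      rcases hj' j with rfl | rfl
      · exact hX0.1.trans hX0.2.symm
      · exact h
    have h2 := ProjMor.ι_comp_eq_of_ev_eq (P1Split.isAffine_U (k := k) i) t t' h0 h0' (RingHom.ext fun f => by
      obtain ⟨a, rfl⟩ := ProjMor.exists_deh_eq (CurveP1.X_mem k i) f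
      exact DFunLike.congr_fun hφ a)
    have htop : (Spec (CommRingCat.of k)).topIso.inv ≫ (⊤ : (Spec (CommRingCat.of k)).Opens).ι = 𝟙 _ :=
      (Spec (CommRingCat.of k)).topIso.inv_hom_id
    have h3 := congrArg ((Spec (CommRingCat.of k)).topIso.inv ≫ ·) h2
    simp only [reassoc_of% htop] at h3
    exact h3)
  obtain ⟨lam, hlam⟩ := hκ (φ' (MvPolynomial.X j'))
  let ℓ : MvPolynomial (Fin 2) k := MvPolynomial.X j' - MvPolynomial.C lam * MvPolynomial.X i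
  have hℓmem : ℓ ∈ 𝒜 1 := Submodule.sub_mem _ (CurveP1.X_mem k j')
    (MvPolynomial.IsHomogeneous.C_mul (CurveP1.X_mem k i) lam)
  have hℓ' : φ' ℓ = 0 := by rw [map_sub, map_mul, (hconst lam).2, hX0.2, mul_one, hlam, sub_self]
  have hℓ : φ ℓ ≠ 0 := by
    rw [map_sub, map_mul, (hconst lam).1, hX0.1, mul_one, hlam]
    exact sub_ne_zero.2 hX1
  let m := (-d).toNat
  obtain ⟨r, hr⟩ := (((isUnit_of_ne_zero_spec hℓ).pow m).mul (hu.map (t.appLE (U k i) ⊤ h0).hom)).exists_left_inv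
  obtain ⟨a, ha⟩ := hκ (b * r)
  obtain ⟨c, hc⟩ := hform (MvPolynomial.C a * ℓ ^ m) (MvPolynomial.IsHomogeneous.C_mul
    (GrT.pow_mem_one 𝒜 hℓmem m) a)
  refine ⟨c, ?_, ?_⟩
  · refine (congrArg (t.appLE (U k i) ⊤ h0) hc).trans ?_
    rw [map_mul]
    show φ (MvPolynomial.C a * ℓ ^ m) * _ = b
    rw [map_mul, map_pow, (hconst a).1, ha, mul_assoc b, mul_assoc b]
    exact (congrArg (b * ·) ((mul_assoc _ _ _).trans hr)).trans (mul_one b)
  · refine (congrArg (t'.appLE (U k i) ⊤ h0') hc).trans ?_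
    rw [map_mul]
    show φ' (MvPolynomial.C a * ℓ ^ m) * _ = 0
    rw [map_mul, map_pow, hℓ', zero_pow (show m ≠ 0 by omega), mul_zero, zero_mul]

include ht ht' in
/-- On a sum of negative twists, forms take prescribed values at one point and vanish at another. -/
theorem exists_form_two {X : Scheme.{u}} {Ω : X.Modules} (g : CohB1.ProjSpace 1 k ⟶ X) {n : ℕ} {d : Fin n → ℤ}
    (e : (Scheme.Modules.pullback g).obj Ω ≅ ∐ fun i : Fin n => O k (d i)) (hd : ∀ s, d s < 0)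
    (hne : t ≠ t') (h0 : ⊤ ≤ t ⁻¹ᵁ U k i) (h0' : ⊤ ≤ t' ⁻¹ᵁ U k i)
    {V : X.Opens} {m : ℕ} {fr : Fin m → Γ(Ω, V)} (hfr : TMul.IsFrame fr) (htV : ⊤ ≤ t ⁻¹ᵁ (g ⁻¹ᵁ V))
    (b : Fin m → Γ(Spec (CommRingCat.of k), ⊤)) :
    ∃ α : Ω ⟶ (Scheme.Modules.pushforward g).obj (Coh.structureModule (CohB1.ProjSpace 1 k)),
      (∀ l, t.appLE (g ⁻¹ᵁ V) ⊤ htV (α.app V (fr l)) = b l) ∧
      ∀ (V' : X.Opens) (e' : ⊤ ≤ t' ⁻¹ᵁ (g ⁻¹ᵁ V')) (w : Γ(Ω, V')), t'.appLE (g ⁻¹ᵁ V') ⊤ e' (α.app V' w) = 0 := by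
  classical
  choose gen hgen hgc using fun s => exists_separating t ht t' ht' (hd s) hne h0 h0'
  obtain ⟨π, -, -, hπ3⟩ := P1Split.exists_proj fun i : Fin n => O k (d i)
  let E := (Scheme.Modules.pullback g).obj Ω
  let adj := Scheme.Modules.pullbackPushforwardAdjunction g
  let W := g ⁻¹ᵁ V ⊓ U k i
  have hW : ⊤ ≤ t ⁻¹ᵁ W := fun y hy => ⟨htV hy, h0 hy⟩
  let χ : Γ(CohB1.ProjSpace 1 k, W) →+* Γ(Spec (CommRingCat.of k), ⊤) := (t.appLE W ⊤ hW).hom
  let Φ := (hfr.pullback g).equiv (inf_le_left : W ≤ g ⁻¹ᵁ V)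
  let η : Fin m → Γ(E, W) := fun l => res E (inf_le_left : W ≤ g ⁻¹ᵁ V) ((adj.unit.app Ω).app V (fr l))
  let ι : ∀ s, O k (d s) ⟶ E := fun s => Sigma.ι (fun i : Fin n => O k (d i)) s ≫ e.inv
  let gW : ∀ s, Γ(O k (d s), W) := fun s => res (O k (d s)) (inf_le_right : W ≤ U k i) (gen s)
  choose a ha using fun l s => (hgen s W inf_le_right).2 ((e.hom ≫ π s).app W (η l))
  let C : Fin n → Fin m → Γ(CohB1.ProjSpace 1 k, W) := fun s => Φ.symm ((ι s).app W (gW s))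
  have hid : ∀ x : Γ(E, W), x = ∑ s, (ι s).app W ((e.hom ≫ π s).app W x) := fun x => by
    let ev : (E ⟶ E) →+ Γ(E, W) := AddMonoidHom.mk' (fun f => f.app W x) fun _ _ => rfl
    have h1 : (∑ s, (e.hom ≫ π s) ≫ ι s) = 𝟙 E := by
      have h2 : e.hom ≫ (∑ s, π s ≫ Sigma.ι (fun i : Fin n => O k (d i)) s) ≫ e.inv = 𝟙 E := by
        rw [hπ3, Category.id_comp, e.hom_inv_id]
      rw [← h2, Preadditive.sum_comp, Preadditive.comp_sum]
      simp only [ι, Category.assoc]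
    have h3 := congrArg ev h1
    rw [map_sum] at h3
    exact h3.symm
  have hsingle : ∀ l, Φ (Pi.single l 1) = η l := fun l => by
    show (∑ i, (Pi.single l 1 : Fin m → Γ(CohB1.ProjSpace 1 k, W)) i • η i) = η l
    rw [Finset.sum_eq_single l (fun i _ hi => by rw [Pi.single_eq_of_ne hi, zero_smul])
      (fun h => absurd (Finset.mem_univ _) h), Pi.single_eq_same, one_smul]
  have hkey : ∀ l l', (∑ s, χ (a l s) * χ (C s l')) = if l' = l then 1 else 0 := fun l l' => by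
    have h1 : (Pi.single l 1 : Fin m → Γ(CohB1.ProjSpace 1 k, W)) = ∑ s, a l s • C s := by
      refine Φ.injective ?_
      rw [hsingle, map_sum, hid (η l)]
      refine Finset.sum_congr rfl fun s _ => ?_
      rw [map_smul, LinearEquiv.apply_symm_apply, ← ha l s, Scheme.Modules.Hom.app_smul]
    have h2 := congrArg χ (congrFun h1 l')
    rw [Finset.sum_apply, map_sum, Pi.single_apply, apply_ite χ, map_one, map_zero] at h2
    rw [h2]
    exact Finset.sum_congr rfl fun s _ => by rw [Pi.smul_apply, smul_eq_mul, map_mul]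
  choose c hc hc' using fun s => hgc s (∑ l', χ (C s l') * b l')
  let ψ : E ⟶ Coh.structureModule (CohB1.ProjSpace 1 k) := ∑ s, (e.hom ≫ π s) ≫ c s
  have hψ : ∀ (W' : (CohB1.ProjSpace 1 k).Opens) (x : Γ(E, W')),
      ψ.app W' x = ∑ s, (c s).app W' ((e.hom ≫ π s).app W' x) := fun W' x => by
    let ev : (E ⟶ Coh.structureModule (CohB1.ProjSpace 1 k)) →+ Γ(Coh.structureModule (CohB1.ProjSpace 1 k), W') :=
      AddMonoidHom.mk' (fun f => f.app W' x) fun _ _ => rfl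
    exact map_sum ev _ _
  have hval : ∀ {W' : (CohB1.ProjSpace 1 k).Opens} (t₁ : Spec (CommRingCat.of k) ⟶ CohB1.ProjSpace 1 k)
      (hW' : W' ≤ U k i) (h₁ : ⊤ ≤ t₁ ⁻¹ᵁ W') (s : Fin n) (r : Γ(CohB1.ProjSpace 1 k, W')),
      t₁.appLE W' ⊤ h₁ ((c s).app W' (r • res (O k (d s)) hW' (gen s))) =
        t₁.appLE W' ⊤ h₁ r * t₁.appLE (U k i) ⊤ (h₁.trans (t₁.preimage_mono hW')) ((c s).app (U k i) (gen s)) :=
    fun t₁ hW' h₁ s r => by
    rw [Scheme.Modules.Hom.app_smul, ← app_res]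
    show t₁.appLE _ ⊤ h₁ (r * resO (CohB1.ProjSpace 1 k) hW' ((c s).app (U k i) (gen s))) = _
    rw [map_mul]
    exact congrArg (_ * ·) (ConcreteCategory.congr_hom (t₁.map_appLE h₁ (homOfLE hW').op) _)
  have hres : ∀ {G₁ G₂ : (CohB1.ProjSpace 1 k).Opens} (t₁ : Spec (CommRingCat.of k) ⟶ CohB1.ProjSpace 1 k)
      (hG : G₂ ≤ G₁) (h₂ : ⊤ ≤ t₁ ⁻¹ᵁ G₂) (r : Γ(CohB1.ProjSpace 1 k, G₁)),
      t₁.appLE G₁ ⊤ (h₂.trans (t₁.preimage_mono hG)) r = t₁.appLE G₂ ⊤ h₂ (resO _ hG r) :=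
    fun t₁ hG h₂ r => (ConcreteCategory.congr_hom (t₁.map_appLE h₂ (homOfLE hG).op) r).symm
  refine ⟨adj.unit.app Ω ≫ (Scheme.Modules.pushforward g).map ψ, fun l => ?_, fun V' e' w => ?_⟩
  · refine (hres t (inf_le_left : W ≤ g ⁻¹ᵁ V) hW _).trans ?_
    show χ (res (Coh.structureModule (CohB1.ProjSpace 1 k)) (inf_le_left : W ≤ g ⁻¹ᵁ V)
      (ψ.app (g ⁻¹ᵁ V) ((adj.unit.app Ω).app V (fr l)))) = b l
    rw [app_res, hψ, map_sum]
    refine Eq.trans (b := ∑ s, χ (a l s) * ∑ l', χ (C s l') * b l') (Finset.sum_congr rfl fun s _ => ?_) (Eq.trans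
      (b := ∑ l', (∑ s, χ (a l s) * χ (C s l')) * b l') ?_ ?_)
    · show χ ((c s).app W ((e.hom ≫ π s).app W (η l))) = _
      rw [← ha l s]
      exact (hval t inf_le_right hW s _).trans (congrArg (_ * ·) (hc s))
    · simp only [Finset.mul_sum, Finset.sum_mul, mul_assoc]
      exact Finset.sum_comm
    · simp only [hkey, ite_mul, one_mul, zero_mul, Finset.sum_ite_eq', Finset.mem_univ, if_true]
  · let W' := g ⁻¹ᵁ V' ⊓ U k i
    have hW' : ⊤ ≤ t' ⁻¹ᵁ W' := fun y hy => ⟨e' hy, h0' hy⟩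
    refine (hres t' (inf_le_left : W' ≤ g ⁻¹ᵁ V') hW' _).trans ?_
    show t'.appLE W' ⊤ hW' (res (Coh.structureModule (CohB1.ProjSpace 1 k)) (inf_le_left : W' ≤ g ⁻¹ᵁ V')
      (ψ.app (g ⁻¹ᵁ V') ((adj.unit.app Ω).app V' w))) = 0
    rw [app_res, hψ, map_sum]
    refine Finset.sum_eq_zero fun s _ => ?_
    obtain ⟨r, hr⟩ := (hgen s W' inf_le_right).2 ((e.hom ≫ π s).app W'
      (res E (inf_le_left : W' ≤ g ⁻¹ᵁ V') ((adj.unit.app Ω).app V' w)))
    rw [← hr]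
    exact (hval t' inf_le_right hW' s r).trans ((congrArg (_ * ·) (hc' s)).trans (mul_zero _))

end Groth.Agent.FreeCurve
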