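import Groth.Agent.FreeCurve.PairForms
import Groth.Agent.FreeCurve.TanFree
import Mathlib

/-!
# The two point evaluation of very free curves is injective on cotangent spaces
-/

set_option autoImplicit false
set_option linter.style.haveILetI false
set_option backward.isDefEq.respectTransparency false
set_option backward.isDefEq.respectTransparency.types false
set_option synthInstance.maxHeartbeats 400000
set_option maxHeartbeats 1000000

universe u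

open CategoryTheory CategoryTheory.Limits AlgebraicGeometry TopologicalSpace Opposite
open Groth.Agent.QC (resO res app_res res_res resO_resO resO_self)
open Groth.Agent.ExpSeq (Xε sect dnMap dnPoint)
open Groth.Agent.HomTan (IsLift IsTan val pb em)
open IsLocalRing (closedPoint maximalIdeal)

noncomputable section

namespace Groth.Agent.FreeCurve

open Groth.Agent.P1Split (O U)

variable {k : Type u} [Field k]

/-- Values at a rational point are determined by those on a frame. -/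
theorem value_eq {X : Scheme.{u}} {Ω : X.Modules} (g : CohB1.ProjSpace 1 k ⟶ X)
    (t : Spec (CommRingCat.of k) ⟶ CohB1.ProjSpace 1 k) {V : X.Opens} {m : ℕ} {fr : Fin m → Γ(Ω, V)}
    (hfr : TMul.IsFrame fr) (htV : ⊤ ≤ t ⁻¹ᵁ (g ⁻¹ᵁ V))
    (α : Ω ⟶ (Scheme.Modules.pushforward g).obj (Coh.structureModule (CohB1.ProjSpace 1 k)))
    (β : Ω ⟶ (Scheme.Modules.pushforward (t ≫ g)).obj (Coh.structureModule (Spec (CommRingCat.of k))))
    (h : ∀ l, t.appLE (g ⁻¹ᵁ V) ⊤ htV (α.app V (fr l)) = resO (Spec (CommRingCat.of k)) htV (β.app V (fr l)))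
    (V' : X.Opens) (e' : ⊤ ≤ t ⁻¹ᵁ (g ⁻¹ᵁ V')) (w : Γ(Ω, V')) :
    t.appLE (g ⁻¹ᵁ V') ⊤ e' (α.app V' w) = resO (Spec (CommRingCat.of k)) e' (β.app V' w) := by
  let S := Spec (CommRingCat.of k)
  let V'' := V' ⊓ V
  have e'' : ⊤ ≤ t ⁻¹ᵁ (g ⁻¹ᵁ V'') := fun y hy => ⟨e' hy, htV hy⟩
  have hl : ∀ {V₀ : X.Opens} (h₀ : V'' ≤ V₀) (w₀ : Γ(Ω, V₀)) (e₀ : ⊤ ≤ t ⁻¹ᵁ (g ⁻¹ᵁ V₀)),
      t.appLE (g ⁻¹ᵁ V₀) ⊤ e₀ (α.app V₀ w₀) = t.appLE (g ⁻¹ᵁ V'') ⊤ e'' (α.app V'' (res Ω h₀ w₀)) :=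
    fun h₀ w₀ e₀ => by
    rw [← app_res]
    exact (ConcreteCategory.congr_hom (t.map_appLE e'' (homOfLE (g.preimage_mono h₀)).op) _).symm
  have hr : ∀ {V₀ : X.Opens} (h₀ : V'' ≤ V₀) (w₀ : Γ(Ω, V₀)) (e₀ : ⊤ ≤ t ⁻¹ᵁ (g ⁻¹ᵁ V₀)),
      resO S e₀ (β.app V₀ w₀) = resO S e'' (β.app V'' (res Ω h₀ w₀)) := fun h₀ w₀ e₀ => by
    rw [← app_res]
    exact (resO_resO e'' ((t ≫ g).preimage_mono h₀) _).symm
  rw [hl inf_le_left w e', hr inf_le_left w e']
  obtain ⟨c, hc⟩ := hfr.comb_surjective (inf_le_right : V'' ≤ V) (res Ω inf_le_left w)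
  rw [← hc, map_sum, map_sum, map_sum, map_sum]
  refine Finset.sum_congr rfl fun l _ => ?_
  rw [Scheme.Modules.Hom.app_smul, Scheme.Modules.Hom.app_smul]
  show t.appLE _ ⊤ e'' (g.app V'' (c l) * (show Γ(CohB1.ProjSpace 1 k, g ⁻¹ᵁ V'') from α.app V'' _)) =
    resO S e'' ((t ≫ g).app V'' (c l) * (show Γ(S, (t ≫ g) ⁻¹ᵁ V'') from β.app V'' _))
  rw [map_mul, map_mul]
  refine congrArg₂ (· * ·) ?_ ((hl inf_le_right (fr l) htV).symm.trans ((h l).trans (hr inf_le_right (fr l) htV)))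
  show (g.app V'' ≫ t.appLE _ ⊤ e'') (c l) = ((t ≫ g).app V'' ≫ S.presheaf.map (homOfLE e'').op) (c l)
  rw [Scheme.Hom.app_eq_appLE, Scheme.Hom.app_eq_appLE, Scheme.Hom.appLE_comp_appLE, Scheme.Hom.appLE_map]

local instance : (Spec (CommRingCat.of k)).Over (Spec (CommRingCat.of k)) := ⟨𝟙 _⟩
local instance : (CohB1.ProjSpace 1 k).Over (Spec (CommRingCat.of k)) := ⟨CohB1.ProjSpace.toSpec 1 k⟩

variable {X : Scheme.{u}} {q : X ⟶ Spec (CommRingCat.of k)}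
  (t : Spec (CommRingCat.of k) ⟶ CohB1.ProjSpace 1 k) (ht : t ≫ CohB1.ProjSpace.toSpec 1 k = 𝟙 _)
  (t' : Spec (CommRingCat.of k) ⟶ CohB1.ProjSpace 1 k) (ht' : t' ≫ CohB1.ProjSpace.toSpec 1 k = 𝟙 _)

include ht ht' in
/-- On a very free curve, maps out of the differentials interpolate at two points. -/
theorem exists_values_two [Smooth q] [QuasiSeparated q] {c₀ : Fin 2} (g : CohB1.ProjSpace 1 k ⟶ X) {n : ℕ} {d : Fin n → ℤ}
    (e : (Scheme.Modules.pullback g).obj (Omega.sheaf q) ≅ ∐ fun i : Fin n => O k (d i)) (hd : ∀ s, d s < 0)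
    (hne : t ≠ t') (h0 : ⊤ ≤ t ⁻¹ᵁ U k c₀) (h0' : ⊤ ≤ t' ⁻¹ᵁ U k c₀)
    (β : Omega.sheaf q ⟶ (Scheme.Modules.pushforward (t ≫ g)).obj (Coh.structureModule (Spec (CommRingCat.of k))))
    (β' : Omega.sheaf q ⟶ (Scheme.Modules.pushforward (t' ≫ g)).obj (Coh.structureModule (Spec (CommRingCat.of k)))) :
    ∃ α : Omega.sheaf q ⟶ (Scheme.Modules.pushforward g).obj (Coh.structureModule (CohB1.ProjSpace 1 k)),
      (∀ (V : X.Opens) (eV : ⊤ ≤ t ⁻¹ᵁ (g ⁻¹ᵁ V)) (w : Γ(Omega.sheaf q, V)),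
        t.appLE (g ⁻¹ᵁ V) ⊤ eV (α.app V w) = resO (Spec (CommRingCat.of k)) eV (β.app V w)) ∧
      ∀ (V : X.Opens) (eV : ⊤ ≤ t' ⁻¹ᵁ (g ⁻¹ᵁ V)) (w : Γ(Omega.sheaf q, V)),
        t'.appLE (g ⁻¹ᵁ V) ⊤ eV (α.app V w) = resO (Spec (CommRingCat.of k)) eV (β'.app V w) := by
  obtain ⟨V₁, m₁, fr₁, hx₁, hfr₁⟩ := TMul.exists_isFrame (AVOmega.isFinLocFree_omega q) (g (t (closedPoint k)))
  obtain ⟨V₂, m₂, fr₂, hx₂, hfr₂⟩ := TMul.exists_isFrame (AVOmega.isFinLocFree_omega q) (g (t' (closedPoint k)))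
  have hV₁ : ⊤ ≤ t ⁻¹ᵁ (g ⁻¹ᵁ V₁) := fun y _ => by
    obtain rfl : y = closedPoint k := Subsingleton.elim (α := PrimeSpectrum k) _ _
    exact hx₁
  have hV₂ : ⊤ ≤ t' ⁻¹ᵁ (g ⁻¹ᵁ V₂) := fun y _ => by
    obtain rfl : y = closedPoint k := Subsingleton.elim (α := PrimeSpectrum k) _ _
    exact hx₂
  obtain ⟨α₁, h₁, h₁'⟩ := exists_form_two t ht t' ht' g e hd hne h0 h0' hfr₁ hV₁
    fun l => resO (Spec (CommRingCat.of k)) hV₁ (β.app V₁ (fr₁ l))
  obtain ⟨α₂, h₂, h₂'⟩ := exists_form_two t' ht' t ht g e hd hne.symm h0' h0 hfr₂ hV₂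
    fun l => resO (Spec (CommRingCat.of k)) hV₂ (β'.app V₂ (fr₂ l))
  refine ⟨α₁ + α₂, fun V eV w => ?_, fun V eV w => ?_⟩
  · show t.appLE _ ⊤ eV ((show Γ(CohB1.ProjSpace 1 k, g ⁻¹ᵁ V) from α₁.app V w) +
      (show Γ(CohB1.ProjSpace 1 k, g ⁻¹ᵁ V) from α₂.app V w)) = _
    rw [map_add, value_eq g t hfr₁ hV₁ α₁ β h₁ V eV w, h₂' V eV w, add_zero]
  · show t'.appLE _ ⊤ eV ((show Γ(CohB1.ProjSpace 1 k, g ⁻¹ᵁ V) from α₁.app V w) +
      (show Γ(CohB1.ProjSpace 1 k, g ⁻¹ᵁ V) from α₂.app V w)) = _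
    rw [map_add, value_eq g t' hfr₂ hV₂ α₂ β' h₂ V eV w, h₁' V eV w, zero_add]

omit [Field k] in
theorem sect_ext_spec [Field k] {W : (Spec (CommRingCat.of k)).Opens} (r r' : Γ(Spec (CommRingCat.of k), W))
    (h : ∀ e : ⊤ ≤ W, resO (Spec (CommRingCat.of k)) e r = resO (Spec (CommRingCat.of k)) e r') : r = r' := by
  by_cases hp : closedPoint k ∈ W
  · obtain rfl := eq_top_of_mem hp
    have h1 := h le_rfl
    rwa [resO_self, resO_self] at h1
  · refine TopCat.Presheaf.section_ext (Spec (CommRingCat.of k)).sheaf W r r' fun y hy => absurd ?_ hp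
    obtain rfl : y = closedPoint k := Subsingleton.elim (α := PrimeSpectrum k) _ _
    exact hy

/-- An extension of a curve restricted to a point of the line. -/
theorem mapε_eq_of_value [QuasiSeparated q] {g : CohB1.ProjSpace 1 k ⟶ X} (hg : g ≫ q = CohB1.ProjSpace.toSpec 1 k)
    {H : Xε k (CohB1.ProjSpace 1 k) ⟶ X} (hH : IsLift q g H)
    {α : Omega.sheaf q ⟶ (Scheme.Modules.pushforward g).obj (Coh.structureModule (CohB1.ProjSpace 1 k))}
    (hα : IsTan q g H α) {h : Xε k (Spec (CommRingCat.of k)) ⟶ X} (hh : IsLift q (t ≫ g) h)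
    {β : Omega.sheaf q ⟶ (Scheme.Modules.pushforward (t ≫ g)).obj (Coh.structureModule (Spec (CommRingCat.of k)))}
    (hβ : IsTan q (t ≫ g) h β)
    (hv : ∀ (V : X.Opens) (eV : ⊤ ≤ t ⁻¹ᵁ (g ⁻¹ᵁ V)) (w : Γ(Omega.sheaf q, V)),
      t.appLE (g ⁻¹ᵁ V) ⊤ eV (α.app V w) = resO (Spec (CommRingCat.of k)) eV (β.app V w)) :
    mapε (X' := Spec (CommRingCat.of k)) (X := CohB1.ProjSpace 1 k) t ht ≫ H = h := by
  let S := Spec (CommRingCat.of k)
  have htg : (t ≫ g) ≫ q = S ↘ S := by rw [Category.assoc, hg]; exact ht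
  have hlift : IsLift q (t ≫ g) (mapε (X' := S) (X := CohB1.ProjSpace 1 k) t ht ≫ H) := by
    refine ⟨?_, ?_⟩
    · rw [Category.assoc, hH.comp, reassoc_of% (mapε_fst (k := k) (X' := S) (X := CohB1.ProjSpace 1 k) ht)]
      exact congrArg (pr k S ≫ ·) ht
    · rw [reassoc_of% (sect_mapε (X' := S) (X := CohB1.ProjSpace 1 k) ht), hH.res]
  refine HomTan.eq_of_isTan htg hlift hh (α := β) (fun V s eV => ?_) hβ
  refine (appLE_mapε_comp (X' := S) (X := CohB1.ProjSpace 1 k) ht hH hα V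
    (le_refl (t ⁻¹ᵁ (g ⁻¹ᵁ V.1))) eV s).trans ?_
  refine congrArg₂ (· + ·) (congrArg (pb k S _) ?_) (congrArg (em k S _) ?_)
  · show (g.app V.1 ≫ t.appLE _ _ _) s = _
    rw [Scheme.Hom.app_eq_appLE, Scheme.Hom.appLE_comp_appLE, Scheme.Hom.app_eq_appLE]
    rfl
  · refine sect_ext_spec _ _ fun e₁ => ?_
    refine Eq.trans ?_ (hv V.1 e₁ (OmegaSh.dSect q V.1 s))
    exact ConcreteCategory.congr_hom (t.appLE_map le_rfl (homOfLE e₁).op) _

include ht ht' in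
/-- First order deformations of a very free curve interpolate tangent vectors at two points. -/
theorem exists_lift_two [Smooth q] [QuasiSeparated q] {c₀ : Fin 2} (g : CohB1.ProjSpace 1 k ⟶ X)
    (hg : g ≫ q = CohB1.ProjSpace.toSpec 1 k) {n : ℕ} {d : Fin n → ℤ}
    (e : (Scheme.Modules.pullback g).obj (Omega.sheaf q) ≅ ∐ fun i : Fin n => O k (d i)) (hd : ∀ s, d s < 0)
    (hne : t ≠ t') (h0 : ⊤ ≤ t ⁻¹ᵁ U k c₀) (h0' : ⊤ ≤ t' ⁻¹ᵁ U k c₀)
    {h h' : Xε k (Spec (CommRingCat.of k)) ⟶ X} (hh : IsLift q (t ≫ g) h) (hh' : IsLift q (t' ≫ g) h') :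
    ∃ H : Xε k (CohB1.ProjSpace 1 k) ⟶ X, IsLift q g H ∧
      mapε (X' := Spec (CommRingCat.of k)) (X := CohB1.ProjSpace 1 k) t ht ≫ H = h ∧
      mapε (X' := Spec (CommRingCat.of k)) (X := CohB1.ProjSpace 1 k) t' ht' ≫ H = h' := by
  obtain ⟨β, hβ⟩ := HomTan.exists_isTan (X := Spec (CommRingCat.of k))
    (show (t ≫ g) ≫ q = Spec (CommRingCat.of k) ↘ Spec (CommRingCat.of k) by rw [Category.assoc, hg]; exact ht) hh
  obtain ⟨β', hβ'⟩ := HomTan.exists_isTan (X := Spec (CommRingCat.of k))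
    (show (t' ≫ g) ≫ q = Spec (CommRingCat.of k) ↘ Spec (CommRingCat.of k) by rw [Category.assoc, hg]; exact ht') hh'
  obtain ⟨α, hα, hα'⟩ := exists_values_two t ht t' ht' g e hd hne h0 h0' β β'
  obtain ⟨H, hH, hHα⟩ := HomTan.exists_isLift (X := CohB1.ProjSpace 1 k) hg α
  exact ⟨H, hH, mapε_eq_of_value t ht hg hH hHα hh hβ hα, mapε_eq_of_value t' ht' hg hH hHα hh' hβ' hα'⟩

variable {M : Over (Spec (CommRingCat.of k))} (v : MorSch.Obj (CohB1.ProjSpace.toSpec 1 k) q M)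

/-- The pairs of points on the curves of a family. -/
abbrev pairSpace (k : Type u) [Field k] (M : Over (Spec (CommRingCat.of k))) : Scheme.{u} :=
  pullback (pullback.snd (CohB1.ProjSpace.toSpec 1 k) M.hom) (pullback.snd (CohB1.ProjSpace.toSpec 1 k) M.hom)

/-- Evaluation at two points of the same curve. -/
def ev₂ : pairSpace k M ⟶ pullback q q :=
  pullback.lift (pullback.fst _ _ ≫ v.1) (pullback.snd _ _ ≫ v.1) (by
    rw [Category.assoc, Category.assoc, v.2, pullback.condition]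
    exact pullback.condition_assoc _)

theorem ev₂_fst : ev₂ v ≫ pullback.fst q q = pullback.fst _ _ ≫ v.1 := pullback.lift_fst _ _ _

theorem ev₂_snd : ev₂ v ≫ pullback.snd q q = pullback.snd _ _ ≫ v.1 := pullback.lift_snd _ _ _

variable {v}

/-- Two point evaluation is injective on cotangent spaces at two points of a very free curve. -/
theorem mem_sq_pair [Smooth q] [QuasiSeparated q] {c₀ : Fin 2} (hM : IsUnivN (CohB1.ProjSpace.toSpec 1 k) q M v)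
    (z : Spec (CommRingCat.of k) ⟶ pairSpace k M)
    (hz : (z ≫ pullback.fst _ _ ≫ pullback.snd _ _) ≫ M.hom = 𝟙 _) {n : ℕ} {d : Fin n → ℤ} (hd : ∀ s, d s < 0)
    (e : (Scheme.Modules.pullback (curveAt v (z ≫ pullback.fst _ _ ≫ pullback.snd _ _) hz)).obj
      (Omega.sheaf q) ≅ ∐ fun i : Fin n => O k (d i))
    (hne : z ≫ pullback.fst _ _ ≫ pullback.fst _ _ ≠ z ≫ pullback.snd _ _ ≫ pullback.fst _ _)
    (h0 : ⊤ ≤ (z ≫ pullback.fst _ _ ≫ pullback.fst _ _) ⁻¹ᵁ U k c₀)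
    (h0' : ⊤ ≤ (z ≫ pullback.snd _ _ ≫ pullback.fst _ _) ⁻¹ᵁ U k c₀)
    {a : (pullback q q).presheaf.stalk (ev₂ v (z (closedPoint k)))} (ha : a ∈ maximalIdeal _)
    (ha2 : (ev₂ v).stalkMap (z (closedPoint k)) a ∈ maximalIdeal _ ^ 2) : a ∈ maximalIdeal _ ^ 2 := by
  by_contra hna
  let S := Spec (CommRingCat.of k)
  let p := CohB1.ProjSpace.toSpec 1 k
  let pr₂ := pullback.snd p M.hom
  let mp : S ⟶ M.left := z ≫ pullback.fst pr₂ pr₂ ≫ pr₂
  have hmp : mp ≫ M.hom = 𝟙 _ := hz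
  have hmp' : z ≫ pullback.snd pr₂ pr₂ ≫ pr₂ = mp := congrArg (z ≫ ·) pullback.condition.symm
  let g := curveAt v mp hmp
  let i := pullback.lift (f := p) (g := M.hom) (𝟙 _) (p ≫ mp)
    (by rw [Category.id_comp, Category.assoc, hmp, Category.comp_id])
  let t : S ⟶ CohB1.ProjSpace 1 k := z ≫ pullback.fst pr₂ pr₂ ≫ pullback.fst p M.hom
  let t' : S ⟶ CohB1.ProjSpace 1 k := z ≫ pullback.snd pr₂ pr₂ ≫ pullback.fst p M.hom
  have ht : t ≫ p = 𝟙 _ := by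
    simp only [t, Category.assoc, pullback.condition]
    simpa [pr₂] using hz
  have ht' : t' ≫ p = 𝟙 _ := by
    simp only [t', Category.assoc, pullback.condition]
    rw [← hmp, ← hmp']
    simp [pr₂]
  have hti : t ≫ i = z ≫ pullback.fst pr₂ pr₂ := by
    apply pullback.hom_ext
    · simp [i, t]
    · rw [Category.assoc, pullback.lift_snd, ← Category.assoc, ht, Category.id_comp]
      simp [mp, pr₂]
  have hti' : t' ≫ i = z ≫ pullback.snd pr₂ pr₂ := by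
    apply pullback.hom_ext
    · simp [i, t']
    · rw [Category.assoc, pullback.lift_snd, ← Category.assoc, ht', Category.id_comp, Category.assoc]
      exact hmp'.symm
  let q₂ : pullback q q ⟶ S := pullback.fst q q ≫ q
  haveI : QuasiSeparated (pullback.fst q q) := MorphismProperty.pullback_fst _ _ ‹QuasiSeparated q›
  haveI : Smooth (pullback.fst q q) := MorphismProperty.pullback_fst _ _ ‹Smooth q›
  let xs : S ⟶ pullback q q := z ≫ ev₂ v
  have hxs₁ : xs ≫ pullback.fst q q = t ≫ g := by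
    show (z ≫ ev₂ v) ≫ _ = t ≫ i ≫ v.1
    rw [Category.assoc, ev₂_fst, ← Category.assoc t, hti, Category.assoc]
  have hxs₂ : xs ≫ pullback.snd q q = t' ≫ g := by
    show (z ≫ ev₂ v) ≫ _ = t' ≫ i ≫ v.1
    rw [Category.assoc, ev₂_snd, ← Category.assoc t', hti', Category.assoc]
  have hg : g ≫ q = p := curveAt_comp mp hmp
  have hxs : xs ≫ q₂ = 𝟙 _ := by
    show xs ≫ pullback.fst q q ≫ q = _
    rw [← Category.assoc, hxs₁, Category.assoc, hg, ht]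
  obtain ⟨U₁, hxU₁, s₁, hs₁⟩ := (pullback q q).presheaf.exists_germ_eq a
  obtain ⟨V, hV, hxV, hle⟩ := exists_isAffineOpen_mem_and_subset (X := pullback q q)
    (x := ev₂ v (z (closedPoint k))) (U := U₁) hxU₁
  let s : Γ(pullback q q, V) := resO _ hle s₁
  have hsa : (pullback q q).presheaf.germ V _ hxV s = a :=
    (TopCat.Presheaf.germ_res_apply _ (homOfLE hle) _ hxV s₁).trans hs₁
  have htopV : ⊤ ≤ xs ⁻¹ᵁ V := fun y _ => by
    obtain rfl : y = closedPoint k := Subsingleton.elim (α := PrimeSpectrum k) _ _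
    exact hxV
  obtain ⟨α₀, hα₀⟩ := exists_tangent q₂ xs hxs ⟨V, hV⟩ hxV s
    (show (pullback q q).presheaf.germ V _ hxV s ∈ _ from hsa ▸ ha)
    (show (pullback q q).presheaf.germ V _ hxV s ∉ _ from hsa ▸ hna) htopV
  obtain ⟨τX, hτX, hτα⟩ := HomTan.exists_isLift (X := S) (show xs ≫ q₂ = S ↘ S from hxs) α₀
  have hh : IsLift q (t ≫ g) (τX ≫ pullback.fst q q) :=
    ⟨(Category.assoc _ _ _).trans hτX.comp, by rw [reassoc_of% hτX.res, hxs₁]⟩
  have hh' : IsLift q (t' ≫ g) (τX ≫ pullback.snd q q) :=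
    ⟨by rw [Category.assoc, ← pullback.condition]; exact hτX.comp, by rw [reassoc_of% hτX.res, hxs₂]⟩
  obtain ⟨H, hH, hHt, hHt'⟩ := exists_lift_two t ht t' ht' g hg e hd hne h0 h0' hh hh'
  obtain ⟨G, ⟨γd, hγd⟩, hG, hGs⟩ := exists_family' hM mp hmp hH
  let φ := mapε (X' := S) (X := CohB1.ProjSpace 1 k) t ht
  let φ' := mapε (X' := S) (X := CohB1.ProjSpace 1 k) t' ht'
  let τ : Xε k S ⟶ pairSpace k M := pullback.lift (φ ≫ G) (φ' ≫ G) (by
    rw [Category.assoc, Category.assoc, hγd, ← Category.assoc, ← Category.assoc]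
    refine congrArg (· ≫ γd) ?_
    exact (pullback.lift_snd _ _ _).trans (pullback.lift_snd _ _ _).symm)
  have hτz : sect k S ≫ τ = z := by
    apply pullback.hom_ext
    · rw [Category.assoc, pullback.lift_fst, reassoc_of% (sect_mapε (X' := S) (X := CohB1.ProjSpace 1 k) ht), hGs]
      exact hti
    · rw [Category.assoc, pullback.lift_snd, reassoc_of% (sect_mapε (X' := S) (X := CohB1.ProjSpace 1 k) ht'), hGs]
      exact hti'
  have hτv : τ ≫ ev₂ v = τX := by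
    apply pullback.hom_ext
    · rw [Category.assoc, ev₂_fst, pullback.lift_fst_assoc, Category.assoc, hG, hHt]
    · rw [Category.assoc, ev₂_snd, pullback.lift_snd_assoc, Category.assoc, hG, hHt']
  have hτp : τ (sect k S (closedPoint k)) = z (closedPoint k) := by
    rw [← Scheme.Hom.comp_apply, hτz]
  have e₁ : pr k S ⁻¹ᵁ ⊤ ≤ τ ⁻¹ᵁ (ev₂ v ⁻¹ᵁ V) := fun y _ => by
    show ev₂ v (τ y) ∈ V
    rw [eq_sect y]
    exact (congrArg (fun w => ev₂ v w) hτp).symm ▸ hxV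
  have hsq := appLE_eq_zero_of_sq τ hτp (W := ev₂ v ⁻¹ᵁ V) hxV e₁ ((ev₂ v).app V s)
    (by rw [← Scheme.Hom.germ_stalkMap_apply, hsa]; exact ha2)
  have e₂ : pr k S ⁻¹ᵁ ⊤ ≤ τX ⁻¹ᵁ V := by rw [← hτv]; exact e₁
  have h1 : τX.appLE V _ e₂ s = 0 := by
    refine Eq.trans ?_ hsq
    rw [appLE_congr_apply hτv.symm e₂ e₁ s]
    show _ = ((ev₂ v).app V ≫ τ.appLE _ _ e₁) s
    rw [Scheme.Hom.app_eq_appLE, Scheme.Hom.appLE_comp_appLE]
  rw [appLE_of_isTan hτX hτα ⟨V, hV⟩ htopV e₂ s,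
    appLE_eq_zero xs hxV htopV s (show (pullback q q).presheaf.germ V _ hxV s ∈ _ from hsa ▸ ha), map_zero, zero_add] at h1
  exact hα₀ (HomTan.em_injective (k := k) S ⊤ (h1.trans (HomTan.em_zero _ ⊤).symm))

end Groth.Agent.FreeCurve
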