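import Groth.Agent.S3554
import Groth.Agent.RelProjLib.ProjMap
import Groth.Agent.ProjMor.ProjSpaceBase
import Groth.Agent.PnSpec.Basic
import Mathlib

/-!
# Linear maps of projective spaces
-/

set_option autoImplicit false
set_option linter.style.haveILetI false
set_option backward.isDefEq.respectTransparency false
set_option backward.isDefEq.respectTransparency.types false
set_option maxHeartbeats 1000000

universe u

open CategoryTheory CategoryTheory.Limits AlgebraicGeometry MvPolynomial

noncomputable section

namespace Groth.Agent.FreeCurve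

variable (R A : Type u) [CommRing R] [CommRing A] [Algebra R A] {n m : ℕ}

/-- Linear forms without common zero. -/
structure LinData (n m : ℕ) where
  /-- the forms -/
  v : Fin (n + 1) → MvPolynomial (Fin (m + 1)) A
  hom : ∀ i, (v i).IsHomogeneous 1
  cov : ∀ j, (X j : MvPolynomial (Fin (m + 1)) A) ∈ Ideal.span (Set.range v)

variable {A} in
/-- The graded homomorphism of linear forms. -/
def linHom (D : LinData A n m) : CohB1.polyGrading n R →+*ᵍ CohB1.polyGrading m A where
  toRingHom := eval₂Hom ((C : A →+* MvPolynomial (Fin (m + 1)) A).comp (algebraMap R A)) D.v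
  map_mem {i x} hx := by
    have h := (show x.IsHomogeneous i from hx).eval₂ ((C : A →+* MvPolynomial (Fin (m + 1)) A).comp (algebraMap R A))
      D.v (fun r => isHomogeneous_C _ _) D.hom
    rw [one_mul] at h
    exact h

variable {A} in
theorem linHom_irrelevant (D : LinData A n m) : HomogeneousIdeal.irrelevant (CohB1.polyGrading m A) ≤
    (HomogeneousIdeal.irrelevant (CohB1.polyGrading n R)).map (linHom R D) := by
  rw [HomogeneousIdeal.irrelevant_le]
  intro i hi p hp
  have key : ∀ j, (X j : MvPolynomial (Fin (m + 1)) A) ∈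
      ((HomogeneousIdeal.irrelevant (CohB1.polyGrading n R)).map (linHom R D)).toIdeal := fun j => by
    refine Ideal.span_le.2 ?_ (D.cov j)
    rintro _ ⟨l, rfl⟩
    have h := Ideal.mem_map_of_mem (linHom R D)
      (HomogeneousIdeal.mem_irrelevant_of_mem (CohB1.polyGrading n R) one_pos
        (show (X l : MvPolynomial (Fin (n + 1)) R) ∈ CohB1.polyGrading n R 1 from isHomogeneous_X R l))
    rwa [show linHom R D (X l) = D.v l from eval₂Hom_X' _ _ _] at h
  rw [p.as_sum]
  refine sum_mem fun d hd => ?_
  have hd0 : d ≠ 0 := by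
    rintro rfl
    have := hp (mem_support_iff.1 hd)
    simp at this
    omega
  obtain ⟨j, hj⟩ : ∃ j, d j ≠ 0 := by
    by_contra! h
    exact hd0 (Finsupp.ext h)
  rw [show monomial d (coeff d p) = monomial (d - Finsupp.single j 1) (coeff d p) * X j by
    rw [X, monomial_mul, mul_one, tsub_add_cancel_of_le]
    exact Finsupp.single_le_iff.2 (Nat.one_le_iff_ne_zero.2 hj)]
  exact Ideal.mul_mem_left _ _ (key j)

variable {A} in
/-- The map of projective spaces given by linear forms. -/
def linMap (D : LinData A n m) : CohB1.ProjSpace m A ⟶ CohB1.ProjSpace n R :=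
  Proj.map (linHom R D) (linHom_irrelevant R D)

variable {A} in
theorem linMap_toSpec (D : LinData A n m) :
    linMap R D ≫ CohB1.ProjSpace.toSpec n R =
      CohB1.ProjSpace.toSpec m A ≫ Spec.map (CommRingCat.ofHom (algebraMap R A)) := by
  refine RelProjLib.map_toBase (linHom R D) (linHom_irrelevant R D)
    (CommRingCat.ofHom (algebraMap R (CohB1.polyGrading n R 0)))
    (CommRingCat.ofHom (algebraMap A (CohB1.polyGrading m A 0))) (CommRingCat.ofHom (algebraMap R A)) ?_
  refine CommRingCat.hom_ext (RingHom.ext fun r => Subtype.ext ?_)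
  exact eval₂Hom_C _ _ _

variable {A} in
theorem linMap_preimage (D : LinData A n m) (s : MvPolynomial (Fin (n + 1)) R) :
    linMap R D ⁻¹ᵁ Proj.basicOpen (CohB1.polyGrading n R) s =
      Proj.basicOpen (CohB1.polyGrading m A) (eval₂ ((C : A →+* _).comp (algebraMap R A)) D.v s) :=
  Proj.map_preimage_basicOpen _ _ s

variable {A} {B : Type u} [CommRing B] [Algebra A B] [Algebra R B] [IsScalarTower R A B] {l : ℕ}

theorem linMap_comp (D : LinData A n m) (E : LinData B m l) (F : LinData B n l)
    (h : ∀ i, eval₂ ((C : B →+* _).comp (algebraMap A B)) E.v (D.v i) = F.v i) :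
    linMap A E ≫ linMap R D = linMap R F := by
  have hφ : ((linHom A E).comp (linHom R D)) = linHom R F := by
    refine DFunLike.ext _ _ fun p => ?_
    show eval₂Hom _ E.v (eval₂Hom _ D.v p) = eval₂Hom _ F.v p
    refine RingHom.congr_fun (?_ : (eval₂Hom _ E.v).comp (eval₂Hom _ D.v) = eval₂Hom _ F.v) p
    refine ringHom_ext (fun r => ?_) fun i => ?_
    · simp [← IsScalarTower.algebraMap_apply R A B]
    · simpa using h i
  show Proj.map _ _ ≫ Proj.map _ _ = _
  rw [← Proj.map_comp (hf := linHom_irrelevant R D) (hg := linHom_irrelevant A E)]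
  simp only [linMap, hφ]

omit [CommRing B] in
theorem linMap_id (D : LinData R n n) (h : ∀ i, D.v i = X i) : linMap R D = 𝟙 _ := by
  have hφ : linHom R D = GradedRingHom.id (CohB1.polyGrading n R) := by
    refine DFunLike.ext _ _ fun p => ?_
    show eval₂Hom _ D.v p = p
    refine RingHom.congr_fun (?_ : eval₂Hom _ D.v = RingHom.id _) p
    refine ringHom_ext (fun r => ?_) fun i => ?_
    · simp
    · simpa using h i
  simp only [linMap, hφ]
  exact Proj.map_id

/-- The coordinates. -/
def varData (A : Type u) [CommRing A] (n : ℕ) : LinData A n n where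
  v := X
  hom := isHomogeneous_X A
  cov j := Ideal.subset_span ⟨j, rfl⟩

variable (n) in
/-- Base change of projective space. -/
theorem isPullback_linMap (R A : Type u) [CommRing R] [CommRing A] [Algebra R A] : IsPullback (linMap R (varData A n)) (CohB1.ProjSpace.toSpec n A)
    (CohB1.ProjSpace.toSpec n R) (Spec.map (CommRingCat.ofHom (algebraMap R A))) := by
  letI : Algebra (MvPolynomial (Fin (n + 1)) R) (MvPolynomial (Fin (n + 1)) A) := algebraMvPolynomial
  exact Groth.Agent.S3554.result (R := A) (R' := R) (CohB1.polyGrading n R) (CohB1.polyGrading n A)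
    (linHom R (varData A n))
    (fun b => RingHom.congr_fun (map_eq_eval₂Hom_C_comp (algebraMap R A)).symm b) (linHom_irrelevant R _)

end Groth.Agent.FreeCurve
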