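import Groth.Agent.FreeCurve.RigidCot
import Groth.Agent.FreeCurve.Reparam
import Groth.Agent.FreeCurve.LocalEq
import Mathlib

/-!
# A nonconstant curve does not have trivial differentials pulled back to it, if it is free
-/

set_option autoImplicit false
set_option linter.style.haveILetI false
set_option backward.isDefEq.respectTransparency false
set_option backward.isDefEq.respectTransparency.types false
set_option synthInstance.maxHeartbeats 400000
set_option maxHeartbeats 1000000

universe u

open CategoryTheory CategoryTheory.Limits AlgebraicGeometry TopologicalSpace Opposite MvPolynomial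
open IsLocalRing (closedPoint maximalIdeal)

noncomputable section

namespace Groth.Agent.FreeCurve

open Groth.Agent.P1Split (O)

theorem exists_local_factor {R : Type u} [CommRing R] [IsLocalRing R] {Z : Scheme.{u}}
    (γ : Spec (CommRingCat.of R) ⟶ Z) {z : Z} (h : γ (closedPoint R) = z) :
    ∃ g : Z.presheaf.stalk z ⟶ CommRingCat.of R, Spec.map g ≫ Z.fromSpecStalk z = γ ∧ IsLocalHom g.hom := by
  subst h
  exact ⟨Scheme.stalkClosedPointTo γ, Scheme.Spec_stalkClosedPointTo_fromSpecStalk _, inferInstance⟩

section Data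

variable (A : Type u) [CommRing A]

/-- A translation of the line. -/
def transD (a : A) : LinData A 1 1 where
  v := ![X 0 + C a * X 1, X 1]
  hom i := by
    fin_cases i
    · exact (isHomogeneous_X A (0 : Fin 2)).add (by simpa using (isHomogeneous_C (Fin 2) a).mul (isHomogeneous_X A (1 : Fin 2)))
    · exact isHomogeneous_X A (1 : Fin 2)
  cov j := by
    have h0 : (X 0 + C a * X 1 : MvPolynomial (Fin 2) A) ∈
        Ideal.span (Set.range (![X 0 + C a * X 1, X 1] : Fin 2 → MvPolynomial (Fin 2) A)) :=
      Ideal.subset_span ⟨0, rfl⟩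
    have h1 : (X 1 : MvPolynomial (Fin 2) A) ∈
        Ideal.span (Set.range (![X 0 + C a * X 1, X 1] : Fin 2 → MvPolynomial (Fin 2) A)) :=
      Ideal.subset_span ⟨1, rfl⟩
    fin_cases j
    · have h := sub_mem h0 (Ideal.mul_mem_left _ (C a) h1)
      simpa using h
    · exact h1

/-- The point at infinity. -/
def infD : LinData A 1 0 where
  v := ![X 0, 0]
  hom i := by
    fin_cases i
    · exact isHomogeneous_X A (0 : Fin 1)
    · exact isHomogeneous_zero _ _ _
  cov j := by
    obtain rfl : j = 0 := Fin.eq_zero j
    exact Ideal.subset_span ⟨0, rfl⟩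

/-- A finite point. -/
def finD (a : A) : LinData A 1 0 where
  v := ![C a * X 0, X 0]
  hom i := by
    fin_cases i
    · simpa using (isHomogeneous_C (Fin 1) a).mul (isHomogeneous_X A (0 : Fin 1))
    · exact isHomogeneous_X A (0 : Fin 1)
  cov j := by
    obtain rfl : j = 0 := Fin.eq_zero j
    exact Ideal.subset_span ⟨1, rfl⟩

end Data

variable {k : Type u} [Field k]

/-- The section at infinity. -/
def tInf (k : Type u) [Field k] : Spec (CommRingCat.of k) ⟶ CohB1.ProjSpace 1 k :=
  haveI := ProjMor.isIso_toSpec_zero k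
  inv (CohB1.ProjSpace.toSpec 0 k) ≫ linMap k (infD k)

theorem tInf_comp : tInf k ≫ CohB1.ProjSpace.toSpec 1 k = 𝟙 _ := by
  haveI := ProjMor.isIso_toSpec_zero k
  rw [tInf, Category.assoc, linMap_toSpec, Algebra.algebraMap_self, CommRingCat.ofHom_id, Spec.map_id,
    Category.comp_id, IsIso.inv_hom_id]

theorem linMap_infD (R : Type u) [CommRing R] [Algebra k R] :
    linMap k (infD R) = CohB1.ProjSpace.toSpec 0 R ≫ Spec.map (CommRingCat.ofHom (algebraMap k R)) ≫ tInf k := by
  haveI := ProjMor.isIso_toSpec_zero k
  rw [tInf, ← Category.assoc (Spec.map _), ← Category.assoc (CohB1.ProjSpace.toSpec 0 R),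
    ← Category.assoc (CohB1.ProjSpace.toSpec 0 R), ← linMap_toSpec k (varData R 0), Category.assoc (linMap k _),
    IsIso.hom_inv_id, Category.comp_id]
  refine (linMap_comp k (infD k) (varData R 0) (infD R) fun i => ?_).symm
  fin_cases i <;> simp [infD, varData]

/-- The generic translate of a point is the generic point. -/
theorem finD_mem_basicOpen {K : Type u} [Field K] [Algebra k K] (a : K)
    (ha : Function.Injective (Polynomial.aeval a : Polynomial k →ₐ[k] K)) (y : CohB1.ProjSpace 0 K)
    {V : (CohB1.ProjSpace 1 k).Opens} (hV : (V : Set (CohB1.ProjSpace 1 k)).Nonempty) :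
    linMap k (finD K a) y ∈ V := by
  obtain ⟨z, hz⟩ := hV
  by_contra hy
  -- a homogeneous element in the prime of the image is zero
  have key : ∀ (i : ℕ) (p : MvPolynomial (Fin 2) k), p.IsHomogeneous i →
      p ∈ (linMap k (finD K a) y).asHomogeneousIdeal → p = 0 := by
    intro i p hp hpy
    have h1 : eval₂ ((C : K →+* MvPolynomial (Fin 1) K).comp (algebraMap k K)) (finD K a).v p ∈
        y.asHomogeneousIdeal := hpy
    set q := eval₂ ((C : K →+* MvPolynomial (Fin 1) K).comp (algebraMap k K)) (finD K a).v p
    have hq : q.IsHomogeneous (1 * i) := hp.eval₂ _ _ (fun r => isHomogeneous_C _ _) (finD K a).hom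
    rw [one_mul] at hq
    have hX : (X 0 : MvPolynomial (Fin 1) K) ∉ y.asHomogeneousIdeal := fun hX => by
      refine y.not_irrelevant_le ((HomogeneousIdeal.irrelevant_le _).2 fun j hj r hr => ?_)
      rw [r.as_sum]
      refine sum_mem fun d hd => ?_
      have hd0 : d 0 ≠ 0 := fun h => by
        have h2 := (show r.IsHomogeneous j from hr) (mem_support_iff.1 hd)
        rw [show d = 0 from Finsupp.ext fun l => by rw [Fin.eq_zero l, h]; rfl] at h2
        simp at h2
        omega
      rw [show monomial d (coeff d r) = monomial (d - Finsupp.single 0 1) (coeff d r) * X 0 by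
        rw [X, monomial_mul, mul_one, tsub_add_cancel_of_le]
        exact Finsupp.single_le_iff.2 (Nat.one_le_iff_ne_zero.2 hd0)]
      exact Ideal.mul_mem_left _ _ hX
    have hq' : q = C (eval (fun _ => (1 : K)) q) * X 0 ^ i := by
      have hds : ∀ d ∈ q.support, d = Finsupp.single 0 i := fun d hd => by
        refine Finsupp.ext fun l => ?_
        obtain rfl := Fin.eq_zero l
        have h2 := hq (mem_support_iff.1 hd)
        simpa [Finsupp.weight_apply, Finsupp.sum_fintype] using h2
      have h3 : q = monomial (Finsupp.single 0 i) (coeff (Finsupp.single 0 i) q) := by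
        refine MvPolynomial.ext _ _ fun d => ?_
        rw [coeff_monomial]
        split_ifs with h
        · rw [h]
        · exact notMem_support_iff.1 fun hd => h (hds d hd).symm
      rw [h3, eval_monomial]
      simp [C_mul_X_pow_eq_monomial]
    have hq0 : eval (fun _ => (1 : K)) q = 0 := by
      by_contra hne
      rw [hq'] at h1
      rcases y.isPrime.mem_or_mem h1 with h2 | h2
      · exact y.isPrime.ne_top (Ideal.eq_top_of_isUnit_mem _ h2 ((IsUnit.mk0 _ hne).map C))
      · exact hX (y.isPrime.mem_of_pow_mem i h2)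
    have hev : eval (fun _ => (1 : K)) q =
        Polynomial.aeval a (eval₂ (Polynomial.C : k →+* Polynomial k) ![Polynomial.X, 1] p) := by
      show ((eval fun _ => (1 : K)).comp (eval₂Hom ((C : K →+* MvPolynomial (Fin 1) K).comp (algebraMap k K))
          (finD K a).v)) p =
        ((Polynomial.aeval a : Polynomial k →ₐ[k] K).toRingHom.comp
          (eval₂Hom (Polynomial.C : k →+* Polynomial k) ![Polynomial.X, 1])) p
      refine RingHom.congr_fun (ringHom_ext (fun r => ?_) fun l => ?_) p
      · simp
      · fin_cases l <;> simp [finD]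
    have hs : eval₂ (Polynomial.C : k →+* Polynomial k) ![Polynomial.X, 1] p = 0 :=
      ha (((hev.symm.trans hq0)).trans (map_zero _).symm)
    refine MvPolynomial.ext _ _ fun d => ?_
    rw [coeff_zero]
    by_contra hd
    have hmem := mem_support_iff.2 hd
    have h4 := congrArg (fun s => Polynomial.coeff s (d 0)) hs
    rw [eval₂_eq', Polynomial.coeff_zero] at h4
    simp only [Polynomial.finsetSum_coeff] at h4
    rw [Finset.sum_eq_single d] at h4
    · simp [Fin.prod_univ_two] at h4
      exact hd h4
    · intro e he hne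
      simp [Fin.prod_univ_two]
      intro h5
      refine absurd ?_ hne
      have hi := hp (mem_support_iff.1 he)
      have hi' := hp hd
      simp [Finsupp.weight_apply, Finsupp.sum_fintype, Fin.sum_univ_two] at hi hi'
      refine Finsupp.ext fun l => ?_
      fin_cases l
      · exact h5.symm
      · show e 1 = d 1
        omega
    · exact fun h => absurd hmem h
  obtain ⟨s, hs, hsV⟩ : ∃ s : MvPolynomial (Fin 2) k, s ∉ z.asHomogeneousIdeal ∧
      ∀ w : CohB1.ProjSpace 1 k, s ∉ w.asHomogeneousIdeal → w ∈ V := by
    obtain ⟨_, ⟨s, rfl⟩, hzs, hsV⟩ :=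
      (ProjectiveSpectrum.isTopologicalBasis_basic_opens (CohB1.polyGrading 1 k)).exists_subset_of_mem_open hz V.2
    exact ⟨s, (ProjectiveSpectrum.mem_basicOpen _ _ z).1 hzs,
      fun w hw => hsV ((ProjectiveSpectrum.mem_basicOpen _ _ w).2 hw)⟩
  refine hs ?_
  have hsy : s ∈ (linMap k (finD K a) y).asHomogeneousIdeal := by
    by_contra h
    exact hy (hsV _ h)
  classical
  rw [← DirectSum.sum_support_decompose (CohB1.polyGrading 1 k) s]
  refine sum_mem fun i _ => ?_
  rw [key i _ (DirectSum.decompose (CohB1.polyGrading 1 k) s i).2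
    ((linMap k (finD K a) y).asHomogeneousIdeal.isHomogeneous i hsy)]
  exact zero_mem _

/-- A map invariant under the generic translation is constant. -/
theorem range_subset_of_translate [IsAlgClosed k] {X : Scheme.{u}} {q : X ⟶ Spec (CommRingCat.of k)}
    [LocallyOfFiniteType q] (f : CohB1.ProjSpace 1 k ⟶ X) (hf : f ≫ q = CohB1.ProjSpace.toSpec 1 k)
    {R : Type u} [CommRing R] [IsDomain R] [Algebra k R] (u : R)
    (hu : Function.Injective (Polynomial.aeval u : Polynomial k →ₐ[k] R))
    (hfam : linMap k (transD R u) ≫ f = linMap k (varData R 1) ≫ f) :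
    ∃ x : X, Set.range f.base ⊆ {x} := by
  let p := CohB1.ProjSpace.toSpec 1 k
  let K := FractionRing R
  let aK : K := algebraMap R K u
  have ha' : Function.Injective (Polynomial.aeval aK : Polynomial k →ₐ[k] K) := by
    have h1 : (Polynomial.aeval aK : Polynomial k →ₐ[k] K) =
        (IsScalarTower.toAlgHom k R K).comp (Polynomial.aeval u) :=
      Polynomial.algHom_ext (by simp [aK])
    rw [h1]
    exact (IsFractionRing.injective R K).comp hu
  have hK : linMap k (finD K aK) ≫ f = linMap k (finD K 0) ≫ f := by
    have h1 := congrArg (linMap R (finD K 0) ≫ ·) hfam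
    simp only [← Category.assoc] at h1
    rwa [linMap_comp k (transD R u) (finD K 0) (finD K aK) (fun i => by
        fin_cases i <;> simp [transD, finD, aK]),
      linMap_comp k (varData R 1) (finD K 0) (finD K 0) (fun i => by simp [varData])] at h1
  haveI := ProjMor.isIso_toSpec_zero k
  haveI := ProjMor.isIso_toSpec_zero K
  let t₀ : Spec (CommRingCat.of k) ⟶ CohB1.ProjSpace 1 k := inv (CohB1.ProjSpace.toSpec 0 k) ≫ linMap k (finD k 0)
  have ht₀ : t₀ ≫ p = 𝟙 _ := by
    rw [Category.assoc, linMap_toSpec, Algebra.algebraMap_self, CommRingCat.ofHom_id, Spec.map_id, Category.comp_id,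
      IsIso.inv_hom_id]
  let x := f (t₀ (closedPoint k))
  have hx : IsClosed ({x} : Set X) := by
    have hu : (t₀ ≫ f) ≫ q = 𝟙 _ := by rw [Category.assoc, hf]; exact ht₀
    exact ((pointEquivClosedPoint q) ⟨t₀ ≫ f, hu⟩).2
  refine ⟨x, ?_⟩
  let y : CohB1.ProjSpace 0 K := inv (CohB1.ProjSpace.toSpec 0 K) (closedPoint K)
  have hy : f (linMap k (finD K aK) y) = x := by
    rw [← Scheme.Hom.comp_apply, hK, ← linMap_comp k (finD k 0) (varData K 0) (finD K 0)
      (fun i => by fin_cases i <;> simp [varData, finD]), Category.assoc]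
    have h1 : linMap k (varData K 0) =
        (CohB1.ProjSpace.toSpec 0 K ≫ Spec.map (CommRingCat.ofHom (algebraMap k K))) ≫ inv (CohB1.ProjSpace.toSpec 0 k) := by
      rw [← linMap_toSpec, Category.assoc, IsIso.hom_inv_id, Category.comp_id]
    rw [h1]
    simp only [Category.assoc, Scheme.Hom.comp_apply]
    show f (linMap k (finD k 0) (inv (CohB1.ProjSpace.toSpec 0 k) _)) = f (t₀ (closedPoint k))
    rw [show Spec.map (CommRingCat.ofHom (algebraMap k K)) (CohB1.ProjSpace.toSpec 0 K y) = closedPoint k from
      Subsingleton.elim (α := PrimeSpectrum k) _ _]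
    rfl
  rintro _ ⟨z, rfl⟩
  by_contra hz
  have h2 := finD_mem_basicOpen aK ha' y (V := f ⁻¹ᵁ ⟨{x}ᶜ, hx.isOpen_compl⟩) ⟨z, hz⟩
  exact h2 hy

variable [IsAlgClosed k] {X : Scheme.{u}} {q : X ⟶ Spec (CommRingCat.of k)} {M : Over (Spec (CommRingCat.of k))}
  {v : MorSch.Obj (CohB1.ProjSpace.toSpec 1 k) q M}

/-- A curve with trivial pulled back differentials is constant. -/
theorem range_subset_of_trivial [Smooth q] [IsSeparated q] [LocallyOfFiniteType q] [LocallyOfFiniteType M.hom]
    (hM : IsUnivN (CohB1.ProjSpace.toSpec 1 k) q M v) (mp : Spec (CommRingCat.of k) ⟶ M.left)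
    (hmp : mp ≫ M.hom = 𝟙 _) {n : ℕ} {d : Fin n → ℤ} (hd : ∀ i, d i = 0)
    (e : (Scheme.Modules.pullback (curveAt v mp hmp)).obj (Omega.sheaf q) ≅ ∐ fun i : Fin n => O k (d i)) :
    ∃ x : X, Set.range (curveAt v mp hmp).base ⊆ {x} := by
  set f := curveAt v mp hmp with hf
  let p := CohB1.ProjSpace.toSpec 1 k
  let t₁ := tInf k
  let P : Ideal (Polynomial k) := RingHom.ker (Polynomial.evalRingHom (0 : k))
  haveI hPmax : P.IsMaximal := RingHom.ker_isMaximal_of_surjective _ fun c => ⟨Polynomial.C c, by simp⟩
  haveI : P.IsPrime := hPmax.isPrime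
  let R := Localization.AtPrime P
  have hunit : ∀ y : P.primeCompl, IsUnit (Polynomial.evalRingHom (0 : k) y) := fun y =>
    IsUnit.mk0 _ fun h => y.2 h
  let χ : R →+* k := IsLocalization.lift hunit
  have hχ : ∀ w : Polynomial k, χ (algebraMap (Polynomial k) R w) = Polynomial.evalRingHom (0 : k) w :=
    fun w => IsLocalization.lift_eq hunit w
  letI : Algebra R k := χ.toAlgebra
  haveI : IsScalarTower k R k := IsScalarTower.of_algebraMap_eq fun c => by
    rw [IsScalarTower.algebraMap_apply k (Polynomial k) R c]
    show _ = χ _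
    rw [hχ, Polynomial.algebraMap_eq]
    simp
  haveI : IsNoetherianRing R := IsLocalization.isNoetherianRing P.primeCompl R inferInstance
  haveI : IsDomain R := IsLocalization.isDomain_localization P.primeCompl_le_nonZeroDivisors
  let u : R := algebraMap (Polynomial k) R Polynomial.X
  let T : Over (Spec (CommRingCat.of k)) := Over.mk (Spec.map (CommRingCat.ofHom (algebraMap k R)))
  haveI : IsLocallyNoetherian T.left := inferInstanceAs (IsLocallyNoetherian (Spec (CommRingCat.of R)))
  let hpb := isPullback_linMap 1 k R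
  let ε : CohB1.ProjSpace 1 R ≅ PicF.XT p T := hpb.isoPullback
  have hεf : ε.hom ≫ pullback.fst p T.hom = linMap k (varData R 1) := hpb.isoPullback_hom_fst
  have hεs : ε.hom ≫ pullback.snd p T.hom = CohB1.ProjSpace.toSpec 1 R := hpb.isoPullback_hom_snd
  let fam : MorSch.Obj p q T := ⟨ε.inv ≫ linMap k (transD R u) ≫ f, by
    rw [Category.assoc, Category.assoc, hf, curveAt_comp, linMap_toSpec, Iso.inv_comp_eq]
    show _ = ε.hom ≫ pullback.fst _ _ ≫ p
    rw [← Category.assoc, hεf, linMap_toSpec]⟩
  obtain ⟨a, ha, -⟩ := hM.2 T fam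
  let b : T ⟶ M := Over.homMk (Spec.map (CommRingCat.ofHom (algebraMap k R)) ≫ mp)
    (by rw [Category.assoc, hmp, Category.comp_id]; rfl)
  have hb : PicF.XTmap p b ≫ v.1 = pullback.fst p T.hom ≫ f := by
    rw [hf, curveAt, ← Category.assoc (pullback.fst p T.hom)]
    refine congrArg (· ≫ v.1) ?_
    apply pullback.hom_ext
    · rw [MorSch.XTmap_fst, Category.assoc, pullback.lift_fst, Category.comp_id]
    · refine (pullback.lift_snd _ _ _).trans ?_
      rw [Category.assoc, pullback.lift_snd]
      show pullback.snd _ _ ≫ Spec.map (CommRingCat.ofHom (algebraMap k R)) ≫ mp = pullback.fst _ _ ≫ p ≫ mp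
      rw [← Category.assoc, ← Category.assoc]
      exact congrArg (· ≫ mp) pullback.condition.symm
  -- the two families agree at the closed point
  have hclosed : Spec.map (CommRingCat.ofHom χ) ≫ a.left = mp := by
    let T₁ : Over (Spec (CommRingCat.of k)) := Over.mk (𝟙 _)
    haveI : IsLocallyNoetherian T₁.left := inferInstanceAs (IsLocallyNoetherian (Spec (CommRingCat.of k)))
    have hχk : χ.comp (algebraMap k R) = RingHom.id k := (IsScalarTower.algebraMap_eq k R k).symm
    let c : T₁ ⟶ T := Over.homMk (Spec.map (CommRingCat.ofHom χ)) (by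
      show Spec.map _ ≫ Spec.map _ = 𝟙 _
      rw [← Spec.map_comp, ← CommRingCat.ofHom_comp, hχk, CommRingCat.ofHom_id, Spec.map_id])
    let m₁ : T₁ ⟶ M := Over.homMk mp hmp
    suffices h : c ≫ a = m₁ from congrArg CommaMorphism.left h
    refine (hM.2 T₁ (MorSch.pull p q m₁ v)).unique ?_ rfl
    rw [MorSch.pull_comp, ha]
    refine MorSch.Obj.ext ?_
    show PicF.XTmap p c ≫ ε.inv ≫ linMap k (transD R u) ≫ f = PicF.XTmap p m₁ ≫ v.1
    haveI : IsIso (pullback.fst p T₁.hom) := inferInstanceAs (IsIso (pullback.fst p (𝟙 _)))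
    have h1 : PicF.XTmap p c ≫ ε.inv = pullback.fst p T₁.hom ≫ linMap R (varData k 1) := by
      rw [Iso.comp_inv_eq]
      apply pullback.hom_ext
      · rw [MorSch.XTmap_fst, Category.assoc, Category.assoc, hεf,
          linMap_comp k (varData R 1) (varData k 1) (varData k 1) (fun i => by simp [varData]),
          linMap_id k (varData k 1) (fun i => rfl), Category.comp_id]
      · refine (pullback.lift_snd _ _ _).trans ?_
        rw [Category.assoc, Category.assoc, hεs, linMap_toSpec, ← Category.assoc]
        exact congrArg (· ≫ Spec.map (CommRingCat.ofHom χ)) (((pullback.condition (f := p) (g := T₁.hom)).trans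
          (Category.comp_id _)).symm)
    rw [reassoc_of% h1, ← Category.assoc (linMap R _),
      linMap_comp k (transD R u) (varData k 1) (varData k 1) (fun i => by
        have hu : algebraMap R k u = 0 := (hχ Polynomial.X).trans (by simp)
        fin_cases i <;> simp [transD, varData, hu]),
      linMap_id k (varData k 1) (fun i => rfl), Category.id_comp, hf, curveAt, ← Category.assoc]
    refine congrArg (· ≫ v.1) ?_
    apply pullback.hom_ext
    · rw [Category.assoc, pullback.lift_fst, Category.comp_id, MorSch.XTmap_fst]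
    · rw [Category.assoc, pullback.lift_snd, ← Category.assoc]
      refine Eq.trans ?_ (pullback.lift_snd _ _ _).symm
      exact congrArg (· ≫ mp) ((pullback.condition (f := p) (g := T₁.hom)).trans (Category.comp_id _))
  -- they agree after evaluating at infinity
  let ψ := evAt v t₁ tInf_comp
  have hψ : a.left ≫ ψ = b.left ≫ ψ := by
    let σT : T.left ⟶ PicF.XT p T := pullback.lift (T.hom ≫ t₁) (𝟙 _)
      (by rw [Category.assoc, tInf_comp, Category.comp_id, Category.id_comp])
    have h1 : ∀ g : T ⟶ M, g.left ≫ ψ = σT ≫ PicF.XTmap p g ≫ v.1 := fun g => by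
      show g.left ≫ pullback.lift _ _ _ ≫ v.1 = _
      rw [← Category.assoc, ← Category.assoc]
      refine congrArg (· ≫ v.1) ?_
      apply pullback.hom_ext
      · rw [Category.assoc, pullback.lift_fst, Category.assoc, MorSch.XTmap_fst, pullback.lift_fst, ← Category.assoc,
          Over.w g]
      · rw [Category.assoc, pullback.lift_snd, Category.comp_id, Category.assoc]
        refine Eq.trans ?_ (congrArg (σT ≫ ·) (pullback.lift_snd _ _ _)).symm
        rw [← Category.assoc, pullback.lift_snd]
        exact (Category.id_comp _).symm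
    have h2 : PicF.XTmap p a ≫ v.1 = ε.inv ≫ linMap k (transD R u) ≫ f := congrArg Subtype.val ha
    rw [h1, h1, h2, hb]
    haveI := ProjMor.isIso_toSpec_zero R
    rw [← cancel_epi (CohB1.ProjSpace.toSpec 0 R)]
    have h3 : CohB1.ProjSpace.toSpec 0 R ≫ σT ≫ ε.inv = linMap R (infD R) := by
      rw [← Category.assoc, Iso.comp_inv_eq]
      apply pullback.hom_ext
      · rw [Category.assoc, pullback.lift_fst, Category.assoc, hεf,
          linMap_comp k (varData R 1) (infD R) (infD R) (fun i => by simp [varData]), linMap_infD]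
        rfl
      · rw [Category.assoc, pullback.lift_snd, Category.assoc, hεs,
          linMap_toSpec, Algebra.algebraMap_self, CommRingCat.ofHom_id, Spec.map_id]
        rfl
    calc CohB1.ProjSpace.toSpec 0 R ≫ σT ≫ ε.inv ≫ linMap k (transD R u) ≫ f
        = (CohB1.ProjSpace.toSpec 0 R ≫ σT ≫ ε.inv) ≫ linMap k (transD R u) ≫ f := by simp only [Category.assoc]
      _ = linMap k (infD R) ≫ f := by
          rw [h3, ← Category.assoc,
            linMap_comp k (transD R u) (infD R) (infD R) (fun i => by fin_cases i <;> simp [transD, infD])]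
      _ = _ := by
          rw [linMap_infD, pullback.lift_fst_assoc, Category.assoc, Category.assoc, Category.assoc]
          rfl
  -- the two families are equal
  have hab : a.left = b.left := by
    haveI hlχ : IsLocalHom χ := IsLocalHom.of_surjective _ fun c => ⟨algebraMap k R c,
      RingHom.congr_fun (IsScalarTower.algebraMap_eq k R k).symm c⟩
    have hcl : Spec.map (CommRingCat.ofHom χ) (closedPoint k) = closedPoint R := specMap_closedPoint χ
    have ha0 : a.left (closedPoint R) = mp (closedPoint k) := by
      exact (congrArg (fun z => a.left z) hcl).symm.trans (congrArg (fun φ : Spec (CommRingCat.of k) ⟶ M.left => φ (closedPoint k)) hclosed)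
    have hb0 : b.left (closedPoint R) = mp (closedPoint k) := by
      refine (congrArg (fun z => b.left z) hcl).symm.trans ?_
      show (Spec.map (CommRingCat.ofHom χ) ≫ Spec.map (CommRingCat.ofHom (algebraMap k R)) ≫ mp) _ = _
      rw [← Category.assoc, ← Spec.map_comp, ← CommRingCat.ofHom_comp, show χ.comp (algebraMap k R) = RingHom.id k from (IsScalarTower.algebraMap_eq k R k).symm,
        CommRingCat.ofHom_id, Spec.map_id, Category.id_comp]
    obtain ⟨φa, hφa, hlocA⟩ := exists_local_factor a.left ha0
    obtain ⟨φb, hφb, hlocB⟩ := exists_local_factor b.left hb0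
    rw [← hφa, ← hφb]
    refine congrArg (fun φ => Spec.map φ ≫ _) (CommRingCat.hom_ext ?_)
    haveI := hlocA
    haveI := hlocB
    let m := mp (closedPoint k)
    have hσeq : ψ.stalkMap m ≫ φa = ψ.stalkMap m ≫ φb := Spec.map_injective ((cancel_mono (X.fromSpecStalk (ψ m))).1 (by
      rw [Spec.map_comp, Spec.map_comp, Category.assoc, Category.assoc, Scheme.SpecMap_stalkMap_fromSpecStalk,
        ← Category.assoc, ← Category.assoc, hφa, hφb, hψ]))
    refine eq_of_maximalIdeal_le_map (ψ.stalkMap m).hom φa.hom φb.hom
      (maximalIdeal_le_map hM t₁ tInf_comp mp hmp hd e) (congrArg CommRingCat.Hom.hom hσeq) fun r => ?_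
    letI : Algebra k (M.left.presheaf.stalk m) := (SmDiff.baseToStalk M.hom m).hom.toAlgebra
    have hk : ∀ (g : T ⟶ M) (φ : M.left.presheaf.stalk m ⟶ CommRingCat.of R),
        Spec.map φ ≫ M.left.fromSpecStalk m = g.left →
        SmDiff.baseToStalk M.hom m ≫ φ = CommRingCat.ofHom (algebraMap k R) := fun g φ hφ => by
      refine Spec.map_injective ?_
      rw [← show g.left ≫ M.hom = Spec.map (CommRingCat.ofHom (algebraMap k R)) from Over.w g, ← hφ,
        Spec.map_comp, Category.assoc]
      refine congrArg (Spec.map φ ≫ ·) ?_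
      rw [SmDiff.baseToStalk, Spec.map_comp, ← Scheme.SpecMap_stalkMap_fromSpecStalk]
      congr 1
      exact (Spec.fromSpecStalk_eq' _ _).symm
    let c := (Scheme.stalkClosedPointTo mp).hom r
    refine ⟨algebraMap k _ c, ?_, ?_⟩
    · exact (RingHom.congr_fun (congrArg CommRingCat.Hom.hom (hk a φa hφa)) c).trans
        (RingHom.congr_fun (congrArg CommRingCat.Hom.hom (hk b φb hφb)) c).symm
    · have h1 : SmDiff.baseToStalk M.hom m ≫ Scheme.stalkClosedPointTo mp = 𝟙 _ := Spec.map_injective (by
        rw [Spec.map_comp, Spec.map_id]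
        conv_rhs => rw [← hmp, ← Scheme.Spec_stalkClosedPointTo_fromSpecStalk mp, Category.assoc]
        refine congrArg (Spec.map (Scheme.stalkClosedPointTo mp) ≫ ·) ?_
        rw [SmDiff.baseToStalk, Spec.map_comp, ← Scheme.SpecMap_stalkMap_fromSpecStalk]
        congr 1
        exact (Spec.fromSpecStalk_eq' _ _).symm)
      rw [IsLocalRing.mem_maximalIdeal]
      intro hu
      have h2 := hu.map (Scheme.stalkClosedPointTo mp).hom
      rw [map_sub, show (Scheme.stalkClosedPointTo mp).hom (algebraMap k _ c) = c from
        RingHom.congr_fun (congrArg CommRingCat.Hom.hom h1) c, sub_self] at h2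
      exact not_isUnit_zero h2
  -- conclusion at the generic point
  have hfam : linMap k (transD R u) ≫ f = linMap k (varData R 1) ≫ f := by
    have h1 : PicF.XTmap p a ≫ v.1 = PicF.XTmap p b ≫ v.1 := by rw [show a = b from Over.OverMorphism.ext hab]
    rw [hb, show PicF.XTmap p a ≫ v.1 = ε.inv ≫ linMap k (transD R u) ≫ f from congrArg Subtype.val ha,
      Iso.inv_comp_eq, ← Category.assoc] at h1
    rw [h1]
    exact congrArg (· ≫ f) hεf
  have hinj : Function.Injective (Polynomial.aeval u : Polynomial k →ₐ[k] R) := by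
    rw [show (Polynomial.aeval u : Polynomial k →ₐ[k] R) = IsScalarTower.toAlgHom k (Polynomial k) R from
      Polynomial.algHom_ext (by simp [u])]
    exact IsLocalization.injective R P.primeCompl_le_nonZeroDivisors
  exact range_subset_of_translate (q := q) f (curveAt_comp mp hmp) u hinj hfam

end Groth.Agent.FreeCurve
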