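import Groth.Agent.FreeCurve.Vanish
import Groth.Agent.FreeCurve.Rigid
import Groth.Agent.CurveRR.TmapR
import Groth.Agent.CurveRR.Zero
import Mathlib

/-!
# Differential forms on varieties with free curves
-/

set_option autoImplicit false
set_option linter.style.haveILetI false
set_option backward.isDefEq.respectTransparency false
set_option backward.isDefEq.respectTransparency.types false
set_option synthInstance.maxHeartbeats 400000
set_option maxHeartbeats 1000000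

universe u

open CategoryTheory CategoryTheory.Limits AlgebraicGeometry TopologicalSpace Opposite
open IsLocalRing (closedPoint)
open Groth.Agent.QC (res)

noncomputable section

namespace Groth.Agent.FreeCurve

open Groth.Agent.P1Split (O U)

theorem isFinLocFree_extPow {X : Scheme.{u}} {E L : X.Modules} (hE : FlatMod.IsFinLocFree E) {p : ℕ}
    (hL : ExtPow.IsExtPow p E L) : FlatMod.IsFinLocFree L := by
  obtain ⟨φ, hφ⟩ := hL
  obtain ⟨φ', hφ'⟩ := SGA6Ext.isExtPow_extSh E p hE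
  obtain ⟨i⟩ := SGA6Ext.nonempty_iso_of_phi (E := E) (L := L) (L' := SGA6Ext.extSh E p) (φ := φ) hφ (φ' := φ') hφ'
  exact W7Hull.isFinLocFree_of_iso i.symm (SGA6Ext.isFinLocFree_extSh _ p hE)

variable {k : Type u} [Field k]

/-- The number of summands is the rank. -/
theorem eq_rank {X : Scheme.{u}} {Ω : X.Modules} {n : ℕ} (hΩ : FlatMod.IsFinLocFreeOfRank n Ω)
    (g : CohB1.ProjSpace 1 k ⟶ X) {m : ℕ} {d : Fin m → ℤ}
    (e : (Scheme.Modules.pullback g).obj Ω ≅ ∐ fun i : Fin m => O k (d i)) (hd : ∀ t, d t ≤ 0) : m = n := by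
  haveI : AlgebraicGeometry.IsIntegral (CohB1.ProjSpace 1 k) := CurveP1.isIntegral k
  let y : CohB1.ProjSpace 1 k := Classical.arbitrary _
  obtain ⟨l, hl⟩ := P1Split.exists_mem_U y
  obtain ⟨β, hβ⟩ := exists_forms e hd l
  obtain ⟨V, fr, hyV, hfr⟩ := CurveRR.exists_frame hΩ (g y)
  let W := g ⁻¹ᵁ V ⊓ U k l
  haveI : Nonempty W := ⟨⟨y, hyV, hl⟩⟩
  have Φ := ((hfr.pullback g).equiv (inf_le_left : W ≤ g ⁻¹ᵁ V)).trans
    (LinearEquiv.ofBijective (LinearMap.pi fun i => funOf (E := (Scheme.Modules.pullback g).obj Ω) (β i) W)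
      (hβ W inf_le_right))
  exact ((Fin.equiv_iff_eq).1 ⟨(Pi.basisFun Γ(CohB1.ProjSpace 1 k, W) (Fin n) |>.map Φ).indexEquiv
    (Pi.basisFun Γ(CohB1.ProjSpace 1 k, W) (Fin m))⟩).symm

variable [IsAlgClosed k] {X : Scheme.{u}} [X.Over (Spec (CommRingCat.of k))] [IsIntegral X]
  [Smooth (X ↘ Spec (CommRingCat.of k))]

/-- A bundle without sections on one free curve has no sections. -/
theorem subsingleton_hh0_of_free (hX : ∃ (N : ℕ) (ι : X ⟶ CohB1.ProjSpace N k), IsClosedImmersion ι ∧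
      ι ≫ CohB1.ProjSpace.toSpec N k = X ↘ Spec (CommRingCat.of k))
    (f : CohB1.ProjSpace 1 k ⟶ X) (hf : f ≫ (X ↘ Spec (CommRingCat.of k)) = CohB1.ProjSpace.toSpec 1 k)
    (hfree : Good (X ↘ Spec (CommRingCat.of k)) f) {F : X.Modules} (hF : FlatMod.IsFinLocFree F)
    (hneg : Subsingleton (Coh.HH (CohB1.ProjSpace 1 k) ((Scheme.Modules.pullback f).obj F) 0)) :
    Subsingleton (Coh.HH X F 0) := by
  obtain ⟨hprop, hqp⟩ := quasiProj_of_proj _ hX
  haveI := hprop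
  obtain ⟨M, hlft, v, hM⟩ := exists_mor _ hqp
  haveI := hlft
  obtain ⟨m₀, hm₀, hcf⟩ := exists_point_of_curve hM f hf
  obtain ⟨A, hA⟩ := exists_open_vanish v hF
  let B := goodOpen v ⊓ A
  let pr₂ := pullback.snd (CohB1.ProjSpace.toSpec 1 k) M.hom
  haveI : JacobsonSpace X := LocallyOfFiniteType.jacobsonSpace (X ↘ Spec (CommRingCat.of k))
  refine subsingleton_hh0_of_curves (k := k) hF
    ⟨v.1 '' (pr₂ ⁻¹ᵁ B : Set _), isOpen_image_ev hM B inf_le_left⟩ ?_ (fun x hx hxc => ?_) inferInstance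
  · have hmem : m₀ (closedPoint k) ∈ B :=
      ⟨(good_iff_rational m₀ hm₀).1 (by rw [hcf]; exact hfree), (hA m₀ hm₀).2 (by rw [hcf]; exact hneg)⟩
    let z : Spec (CommRingCat.of k) ⟶ pullback (CohB1.ProjSpace.toSpec 1 k) M.hom :=
      pullback.lift (tInf k) m₀ (tInf_comp.trans hm₀.symm)
    have hz : pr₂ (z (closedPoint k)) = m₀ (closedPoint k) := by
      rw [← Scheme.Hom.comp_apply, pullback.lift_snd]
    exact ⟨_, z (closedPoint k), (show pr₂ (z (closedPoint k)) ∈ B from hz ▸ hmem), rfl⟩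
  · obtain ⟨mp, hmp, hmem, hxr⟩ := exists_rational_of_mem B hxc hx
    exact ⟨curveAt v mp hmp, hxr, (hA mp hmp).1 hmem.2⟩

/-- Free curves kill the plurigenera. -/
theorem plurigenera (hX : ∃ (N : ℕ) (ι : X ⟶ CohB1.ProjSpace N k), IsClosedImmersion ι ∧
      ι ≫ CohB1.ProjSpace.toSpec N k = X ↘ Spec (CommRingCat.of k)) (n : ℕ) (hn : topologicalKrullDim X = n)
    (f : CohB1.ProjSpace 1 k ⟶ X) (hf : f ≫ (X ↘ Spec (CommRingCat.of k)) = CohB1.ProjSpace.toSpec 1 k)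
    (hnc : ¬ ∃ x : X, Set.range f.base ⊆ {x}) (hfree : Good (X ↘ Spec (CommRingCat.of k)) f) (ω : X.Modules)
    (hω : ExtPow.IsExtPow n (Omega.sheaf (X ↘ Spec (CommRingCat.of k))) ω) (m : ℕ) (hm : 1 ≤ m) :
    Subsingleton (Coh.HH X (CohB1.tensorPow ω m) 0) := by
  obtain ⟨hprop, hqp⟩ := quasiProj_of_proj _ hX
  haveI := hprop
  have hΩ := AVOmega.isFinLocFree_omega (X ↘ Spec (CommRingCat.of k))
  refine subsingleton_hh0_of_free hX f hf hfree (isFinLocFree_tensorPow (isFinLocFree_extPow hΩ hω) m) ?_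
  obtain ⟨n', d, hd, ⟨e⟩⟩ := exists_split_lt (SGA6Ext.isFinLocFree_pullback f hΩ) (-1) hfree
  have hd' : ∀ t, d t ≤ 0 := fun t => by have := hd t; omega
  refine subsingleton_pull_tensorPow f hΩ hω e hd' (fun I hI => ?_) hm
  have hn' := eq_rank (AVOmega.isFinLocFreeOfRank_omega (X ↘ Spec (CommRingCat.of k)) n hn) f e hd'
  by_contra hall
  push Not at hall
  obtain ⟨M, hlft, v, hM⟩ := exists_mor _ hqp
  haveI := hlft
  obtain ⟨m₀, hm₀, hcf⟩ := exists_point_of_curve hM f hf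
  subst hn'
  subst hcf
  exact hnc (range_subset_of_trivial hM m₀ hm₀ (fun i => by
    obtain ⟨j, rfl⟩ := (Finite.injective_iff_surjective.1 hI) i
    exact le_antisymm (hd' _) (hall j)) e)

/-- Very free curves kill all forms. -/
theorem forms_eq_zero (hX : ∃ (N : ℕ) (ι : X ⟶ CohB1.ProjSpace N k), IsClosedImmersion ι ∧
      ι ≫ CohB1.ProjSpace.toSpec N k = X ↘ Spec (CommRingCat.of k))
    (f : CohB1.ProjSpace 1 k ⟶ X) (hf : f ≫ (X ↘ Spec (CommRingCat.of k)) = CohB1.ProjSpace.toSpec 1 k)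
    (hvfree : Subsingleton (Coh.HH (CohB1.ProjSpace 1 k)
      ((Scheme.Modules.pullback f).obj (Omega.sheaf (X ↘ Spec (CommRingCat.of k)))) 0))
    (p : ℕ) (hp : 1 ≤ p) (E : X.Modules) (hE : ExtPow.IsExtPow p (Omega.sheaf (X ↘ Spec (CommRingCat.of k))) E)
    (m : ℕ) (hm : 1 ≤ m) : Subsingleton (Coh.HH X (CohB1.tensorPow E m) 0) := by
  obtain ⟨hprop, -⟩ := quasiProj_of_proj _ hX
  haveI := hprop
  have hΩ := AVOmega.isFinLocFree_omega (X ↘ Spec (CommRingCat.of k))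
  have hΩ' := SGA6Ext.isFinLocFree_pullback f hΩ
  refine subsingleton_hh0_of_free hX f hf (neg_of_hh0 hΩ' hvfree (-1) (by norm_num))
    (isFinLocFree_tensorPow (isFinLocFree_extPow hΩ hE) m) ?_
  obtain ⟨n', d, hd, ⟨e⟩⟩ := exists_split_neg hΩ' hvfree
  exact subsingleton_pull_tensorPow f hΩ hE e (fun t => (hd t).le) (fun I _ => ⟨⟨0, hp⟩, hd _⟩) hm

end Groth.Agent.FreeCurve
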