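import Groth.Agent.FreeCurve.SmoothEv
import Groth.Agent.KrullSch.StableBir2
import Groth.Agent.RatExt.Basic
import Groth.Agent.AVRat.AxesSingular
import Groth.Agent.PtBlow.Rational
import Groth.Agent.S4991
import Groth.Agent.WeilExt.Cor
import Groth.Agent.S10829
import Groth.Agent.S1582
import Mathlib

/-!
# Extending families of rational curves to a proper target
-/

set_option autoImplicit false
set_option linter.style.haveILetI false
set_option backward.isDefEq.respectTransparency false
set_option backward.isDefEq.respectTransparency.types false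
set_option synthInstance.maxHeartbeats 400000
set_option maxHeartbeats 1000000

universe u

open CategoryTheory CategoryTheory.Limits AlgebraicGeometry TopologicalSpace

attribute [local instance] Curv2.stalkAlgebra

noncomputable section

namespace Groth.Agent.FreeCurve

variable {k : Type u} [Field k]

/-- The local rings along the generic fibre of the product with the line have dimension at most one. -/
theorem ringKrullDim_stalk_generic_le {M : Scheme.{u}} [IsIntegral M] (m : M ⟶ Spec (CommRingCat.of k))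
    (x : ↥(pullback (CohB1.ProjSpace.toSpec 1 k) m))
    (hx : pullback.snd (CohB1.ProjSpace.toSpec 1 k) m x = genericPoint M) :
    ringKrullDim ((pullback (CohB1.ProjSpace.toSpec 1 k) m).presheaf.stalk x) ≤ 1 := by
  let p := CohB1.ProjSpace.toSpec 1 k
  let Y := pullback p m
  let η := genericPoint M
  letI : M.Over (Spec (CommRingCat.of k)) := ⟨m⟩
  let f := pullback.snd p m
  have hsq : IsPullback (pullback.fst f (M.fromSpecStalk η) ≫ pullback.fst p m) (pullback.snd f (M.fromSpecStalk η))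
      p (M.fromSpecStalk η ≫ m) :=
    (IsPullback.of_hasPullback f (M.fromSpecStalk η)).paste_horiz (IsPullback.of_hasPullback p m)
  rw [show M.fromSpecStalk η ≫ m = Spec.map (CommRingCat.ofHom (algebraMap k M.functionField)) from
    KrullSch.Stab.hom_fromSpecStalk (k := k) (X := M)] at hsq
  obtain ⟨κ, hκ, -⟩ := KrullSch.exists_projMap k M.functionField 1
  let θ := hsq.isoIsPullback _ _ hκ
  haveI : IsPreimmersion (pullback.fst f (M.fromSpecStalk η)) := MorphismProperty.pullback_fst _ _ inferInstance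
  have key : ∀ y (hy : f y = η), ∃ ℓ : Spec (Y.presheaf.stalk y) ⟶ pullback f (M.fromSpecStalk η),
      ℓ ≫ pullback.fst f (M.fromSpecStalk η) = Y.fromSpecStalk y := by
    intro y hy
    exact ⟨pullback.lift (Y.fromSpecStalk y)
      (Spec.map (M.presheaf.stalkSpecializes (specializes_of_eq hy) ≫ f.stalkMap y)) (by
        rw [Spec.map_comp, Category.assoc, Scheme.SpecMap_stalkSpecializes_fromSpecStalk,
          Scheme.SpecMap_stalkMap_fromSpecStalk]), pullback.lift_fst _ _ _⟩
  obtain ⟨ℓ, hℓ⟩ := key x hx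
  have hind : Topology.IsInducing ℓ := by
    refine Topology.IsInducing.of_comp ℓ.continuous (pullback.fst f (M.fromSpecStalk η)).continuous ?_
    rw [show (pullback.fst f (M.fromSpecStalk η) ∘ ℓ : _ → _) = Y.fromSpecStalk x from
      (congrArg (fun φ : Spec (Y.presheaf.stalk x) ⟶ Y => (φ : _ → Y)) hℓ)]
    exact (Y.fromSpecStalk x).isEmbedding.isInducing
  calc ringKrullDim (Y.presheaf.stalk x)
      = topologicalKrullDim ↥(Spec (Y.presheaf.stalk x)) := (PrimeSpectrum.topologicalKrullDim_eq_ringKrullDim _).symm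
    _ ≤ topologicalKrullDim ↥(CohB1.ProjSpace 1 M.functionField) :=
      (θ.hom.isOpenEmbedding.isInducing.comp hind).topologicalKrullDim_le
    _ ≤ 1 := (Groth.Agent.S10829.result M.functionField 1).le

variable [IsAlgClosed k] {X : Scheme.{u}} {pX : X ⟶ Spec (CommRingCat.of k)}

/-- A family of rational curves on a proper variety is a morphism over an open of a smooth parameter space. -/
theorem exists_extend [IsProper pX] (F : MorSch.RatFam k pX) :
    ∃ (U' : (pullback (CohB1.ProjSpace.toSpec 1 k) F.m).Opens) (hle : F.e.domain ≤ U') (h : (U' : Scheme.{u}) ⟶ X)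
      (B : F.M.Opens), (B : Set F.M).Nonempty ∧ Smooth (B.ι ≫ F.m) ∧
      pullback.snd (CohB1.ProjSpace.toSpec 1 k) F.m ⁻¹ᵁ B ≤ U' ∧
      h ≫ pX = U'.ι ≫ pullback.fst _ _ ≫ CohB1.ProjSpace.toSpec 1 k ∧
      (pullback (CohB1.ProjSpace.toSpec 1 k) F.m).homOfLE hle ≫ h = F.e.hom := by
  obtain ⟨hint, hsep, hlft, hqc⟩ := F.isVar
  let p := CohB1.ProjSpace.toSpec 1 k
  let f := pullback.snd p F.m
  haveI : IsIntegral (CohB1.ProjSpace 1 k) := CurveP1.isIntegral k
  haveI := ProjMor.isProper_toSpec 1 k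
  haveI := smooth_toSpec k
  haveI : IsIntegral (pullback p F.m) := Groth.Agent.S1582.result k _ _ p F.m
  haveI : IsProper f := MorphismProperty.pullback_snd _ _ inferInstance
  haveI : Smooth f := MorphismProperty.pullback_snd _ _ ‹Smooth p›
  haveI : LocallyOfFinitePresentation F.m := (LocallyOfFinitePresentation.iff_locallyOfFiniteType (f := F.m)).2 inferInstance
  have hgen : genericPoint F.M ∈ F.m.smoothLocus :=
    GeomProp.mem_smoothLocus_of_regular_perfect F.m (by
      let _ : Field (F.M.presheaf.stalk (genericPoint F.M)) := inferInstanceAs (Field F.M.functionField)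
      infer_instance)
  let B₀ := F.m.smoothLocus
  haveI : Smooth (B₀.ι ≫ F.m) := by
    rw [← Scheme.Hom.smoothLocus_eq_top_iff, ← Scheme.Hom.preimage_smoothLocus_eq]
    exact Scheme.Opens.ι_preimage_self B₀
  let Y := pullback p F.m
  let pY : Y ⟶ Spec (CommRingCat.of k) := f ≫ F.m
  haveI : IsLocallyNoetherian Y := LocallyOfFiniteType.isLocallyNoetherian pY
  let ι := {x : Y // f x = genericPoint F.M}
  have hval : ∀ x : ι, ValuationRing (Y.presheaf.stalk x.1) := fun x => by
    haveI : IsRegularLocalRing (Y.presheaf.stalk x.1) := by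
      refine (Groth.Agent.S4991.result pY x.1 ⟨f ⁻¹ᵁ B₀, show f x.1 ∈ B₀ by rw [x.2]; exact hgen, ?_⟩).2 ?_
      · show Smooth ((f ⁻¹ᵁ B₀).ι ≫ f ≫ F.m)
        rw [show (f ⁻¹ᵁ B₀).ι ≫ f ≫ F.m = (f ∣_ B₀) ≫ B₀.ι ≫ F.m by rw [morphismRestrict_ι_assoc]]
        haveI : Smooth (f ∣_ B₀) := IsZariskiLocalAtTarget.restrict ‹Smooth f› B₀
        infer_instance
      · exact WeilExt.regular_spec _
    haveI : IsIntegrallyClosed (Y.presheaf.stalk x.1) := (PtBlow.isNormal_of_regular (R := Y.presheaf.stalk x.1)).2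
    exact RatExt.valuationRing_of_dim_le_one (ringKrullDim_stalk_generic_le F.m x.1 x.2)
  have hh : F.e.hom ≫ pX = F.e.domain.ι ≫ pullback.fst p F.m ≫ p := F.comm
  have hex : ∀ x : ι, ∃ (U' : Y.Opens) (hUU' : F.e.domain ≤ U') (h' : U'.toScheme ⟶ X),
      x.1 ∈ U' ∧ h' ≫ pX = U'.ι ≫ pullback.fst p F.m ≫ p ∧ Y.homOfLE hUU' ≫ h' = F.e.hom := fun x =>
    RatExt.exists_hom_nhd pX (pullback.fst p F.m ≫ p) F.e.domain F.e.dense_domain F.e.hom hh x.1 (hval x)
  choose W hW g hxW hg hres using hex
  obtain ⟨U', hle, h, h1, h2, h3⟩ := RatExt.exists_glue_family pX (pullback.fst p F.m ≫ p) F.e.domain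
    F.e.dense_domain F.e.hom hh W hW g hg hres
  let C : Set F.M := f '' (U' : Set Y)ᶜ
  have hC : IsClosed C := f.isClosedMap _ U'.2.isClosed_compl
  have hηC : genericPoint F.M ∈ Cᶜ := by
    rintro ⟨y, hy, hyη⟩
    exact hy (h3 ⟨y, hyη⟩ (hxW _))
  let B : F.M.Opens := B₀ ⊓ ⟨Cᶜ, hC.isOpen_compl⟩
  refine ⟨U', hle, h, B, ⟨genericPoint F.M, hgen, hηC⟩, ?_, fun y hy => ?_, h1, h2⟩
  · rw [show B.ι ≫ F.m = F.M.homOfLE (inf_le_left : B ≤ B₀) ≫ B₀.ι ≫ F.m by rw [Scheme.homOfLE_ι_assoc]]
    infer_instance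
  · by_contra hyU
    exact hy.2 ⟨y, hyU, rfl⟩

end Groth.Agent.FreeCurve
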