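import Groth.Agent.FreeCurve.MorP1
import Mathlib

/-!
# At a curve with trivial differentials a rigidified evaluation is unramified
-/

set_option autoImplicit false
set_option linter.style.haveILetI false
set_option backward.isDefEq.respectTransparency false
set_option backward.isDefEq.respectTransparency.types false
set_option synthInstance.maxHeartbeats 400000
set_option maxHeartbeats 1000000

universe u

open CategoryTheory CategoryTheory.Limits AlgebraicGeometry TopologicalSpace Opposite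
open Groth.Agent.QC (resO res app_res res_res)
open Groth.Agent.ExpSeq (Xε sect dnMap dnPoint)
open Groth.Agent.HomTan (IsLift IsTan val pb em)
open Groth.Agent.SGA6Ext (Sec)
open IsLocalRing (closedPoint maximalIdeal)

noncomputable section

namespace Groth.Agent.FreeCurve

open Groth.Agent.P1Split (O U)

variable {k : Type u} [Field k]

theorem appLE_res {A B : Scheme.{u}} (t : A ⟶ B) {W' W : B.Opens} (h : W' ≤ W) {U : A.Opens}
    (e : U ≤ t ⁻¹ᵁ W') (r : Γ(B, W)) :
    t.appLE W' U e (resO B h r) = t.appLE W U (e.trans (t.preimage_mono h)) r :=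
  ConcreteCategory.congr_hom (t.map_appLE e (homOfLE h).op) r

theorem end_app {Z : Scheme.{u}} (φ : Coh.structureModule Z ⟶ Coh.structureModule Z) (V : Z.Opens) (r : Γ(Z, V)) :
    φ.app V r = r * resO Z le_top (φ.app ⊤ (1 : Γ(Z, ⊤))) := by
  have h1 : res (Coh.structureModule Z) (le_top : V ≤ ⊤) (1 : Γ(Z, ⊤)) = (1 : Γ(Z, V)) :=
    map_one (resO Z (le_top : V ≤ ⊤))
  have h2 : r • res (Coh.structureModule Z) (le_top : V ≤ ⊤) (1 : Γ(Z, ⊤)) = (r : Γ(Z, V)) := by
    rw [h1]; exact mul_one r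
  calc φ.app V r = φ.app V (r • res (Coh.structureModule Z) (le_top : V ≤ ⊤) (1 : Γ(Z, ⊤))) := by rw [h2]
    _ = _ := by
      rw [Scheme.Modules.Hom.app_smul, ← app_res]
      rfl

theorem end_eq_zero {Z : Scheme.{u}} (φ : Coh.structureModule Z ⟶ Coh.structureModule Z)
    (hc : (φ.app ⊤ (1 : Γ(Z, ⊤)) : Γ(Z, ⊤)) = 0) : φ = 0 := by
  refine KosExt.hom_ext_affine fun V r => ?_
  refine (end_app φ V.1 r).trans ?_
  rw [hc, map_zero, mul_zero]
  rfl

/-- A form on a trivial sum of twists which vanishes at one rational point is zero. -/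
theorem form_eq_zero {E : (CohB1.ProjSpace 1 k).Modules} {n : ℕ} {d : Fin n → ℤ} (hd : ∀ t, d t = 0)
    (e : E ≅ ∐ fun i : Fin n => O k (d i)) (β : E ⟶ Coh.structureModule (CohB1.ProjSpace 1 k))
    (t : Spec (CommRingCat.of k) ⟶ CohB1.ProjSpace 1 k) {W : (CohB1.ProjSpace 1 k).Opens} (hW : ⊤ ≤ t ⁻¹ᵁ W)
    (h : ∀ s : Γ(E, W), t.appLE W ⊤ hW (β.app W s) = 0) : β = 0 := by
  rw [← cancel_epi e.inv, comp_zero]
  refine Sigma.hom_ext _ _ fun i => ?_
  rw [comp_zero]
  obtain ⟨w₀⟩ := PnHodge.nonempty_twist_zero_iso (n := 1) (A := k)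
  let w : O k (d i) ≅ Coh.structureModule (CohB1.ProjSpace 1 k) := eqToIso (by rw [hd i]) ≪≫ w₀
  let φ : Coh.structureModule (CohB1.ProjSpace 1 k) ⟶ Coh.structureModule (CohB1.ProjSpace 1 k) :=
    w.inv ≫ Sigma.ι (fun i : Fin n => O k (d i)) i ≫ e.inv ≫ β
  suffices hφ : φ = 0 by
    rw [← cancel_epi w.inv, comp_zero]
    exact hφ
  refine end_eq_zero φ ?_
  by_contra hne
  have h1 : t.appLE W ⊤ hW (φ.app W (1 : Γ(CohB1.ProjSpace 1 k, W))) = 0 := h _
  rw [end_app, one_mul] at h1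
  have h2 : IsUnit ((Scheme.ΓSpecIso (CommRingCat.of k)).hom.hom
      (t.appLE W ⊤ hW (resO (CohB1.ProjSpace 1 k) (le_top : W ≤ ⊤)
        (φ.app ⊤ (1 : Γ(CohB1.ProjSpace 1 k, ⊤)))))) := (((isUnit_of_ne_zero hne).map _).map _).map _
  rw [h1, map_zero] at h2
  exact not_isUnit_zero h2

local instance : (Spec (CommRingCat.of k)).Over (Spec (CommRingCat.of k)) := ⟨𝟙 _⟩
local instance : (CohB1.ProjSpace 1 k).Over (Spec (CommRingCat.of k)) := ⟨CohB1.ProjSpace.toSpec 1 k⟩

variable {X : Scheme.{u}} {q : X ⟶ Spec (CommRingCat.of k)} {M : Over (Spec (CommRingCat.of k))}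
  {v : MorSch.Obj (CohB1.ProjSpace.toSpec 1 k) q M}

/-- Evaluation at a rational point of the line. -/
def evAt (v : MorSch.Obj (CohB1.ProjSpace.toSpec 1 k) q M) (t : Spec (CommRingCat.of k) ⟶ CohB1.ProjSpace 1 k)
    (ht : t ≫ CohB1.ProjSpace.toSpec 1 k = 𝟙 _) : M.left ⟶ X :=
  pullback.lift (f := CohB1.ProjSpace.toSpec 1 k) (g := M.hom) (M.hom ≫ t) (𝟙 _)
    (by rw [Category.assoc, ht, Category.comp_id, Category.id_comp]) ≫ v.1

theorem evAt_comp (t : Spec (CommRingCat.of k) ⟶ CohB1.ProjSpace 1 k) (ht : t ≫ CohB1.ProjSpace.toSpec 1 k = 𝟙 _) :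
    evAt v t ht ≫ q = M.hom := by
  rw [evAt, Category.assoc, v.2, pullback.lift_fst_assoc, Category.assoc, ht, Category.comp_id]

theorem evAt_curve (t : Spec (CommRingCat.of k) ⟶ CohB1.ProjSpace 1 k) (ht : t ≫ CohB1.ProjSpace.toSpec 1 k = 𝟙 _)
    (mp : Spec (CommRingCat.of k) ⟶ M.left) (hmp : mp ≫ M.hom = 𝟙 _) :
    mp ≫ evAt v t ht = t ≫ curveAt v mp hmp := by
  rw [evAt, curveAt, ← Category.assoc, ← Category.assoc]
  refine congrArg (· ≫ v.1) ?_
  apply pullback.hom_ext
  · rw [Category.assoc, pullback.lift_fst, Category.assoc, pullback.lift_fst, reassoc_of% hmp, Category.comp_id]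
  · rw [Category.assoc, pullback.lift_snd, Category.comp_id, Category.assoc, pullback.lift_snd, reassoc_of% ht]

/-- No tangent vector of curves with trivial differentials is killed by evaluating at a point. -/
theorem eq_zero_of_evAt [Smooth q] [QuasiSeparated q] (hM : IsUnivN (CohB1.ProjSpace.toSpec 1 k) q M v)
    (t : Spec (CommRingCat.of k) ⟶ CohB1.ProjSpace 1 k) (ht : t ≫ CohB1.ProjSpace.toSpec 1 k = 𝟙 _)
    (mp : Spec (CommRingCat.of k) ⟶ M.left) (hmp : mp ≫ M.hom = 𝟙 _) {n : ℕ} {d : Fin n → ℤ} (hd : ∀ i, d i = 0)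
    (e : (Scheme.Modules.pullback (curveAt v mp hmp)).obj (Omega.sheaf q) ≅ ∐ fun i : Fin n => O k (d i))
    (γ : Spec (CommRingCat.of (DualNumber k)) ⟶ M.left) (hγ : γ ≫ M.hom = dnMap k) (hγ₀ : dnPoint k ≫ γ = mp)
    (hψ : γ ≫ evAt v t ht = dnMap k ≫ mp ≫ evAt v t ht) : γ = dnMap k ≫ mp := by
  let p := CohB1.ProjSpace.toSpec 1 k
  let P := CohB1.ProjSpace 1 k
  let S := Spec (CommRingCat.of k)
  let g := curveAt v mp hmp
  let i := pullback.lift (f := p) (g := M.hom) (𝟙 _) (p ≫ mp)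
    (by rw [Category.id_comp, Category.assoc, hmp, Category.comp_id])
  let T : Over S := Over.mk (dnMap k)
  haveI : IsNoetherianRing (DualNumber k) :=
    isNoetherianRing_iff.2 (isNoetherian_of_tower k (inferInstanceAs (IsNoetherian k (k × k))))
  haveI : IsLocallyNoetherian T.left :=
    inferInstanceAs (IsLocallyNoetherian (Spec (CommRingCat.of (DualNumber k))))
  let γT : T ⟶ M := Over.homMk γ hγ
  let cT : T ⟶ M := Over.homMk (dnMap k ≫ mp) (by rw [Category.assoc, hmp, Category.comp_id]; rfl)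
  let h : Xε k P ⟶ X := PicF.XTmap p γT ≫ v.1
  let h₀ : Xε k P ⟶ X := pr k P ≫ g
  have hc : PicF.XTmap p cT = pr k P ≫ i := by
    apply pullback.hom_ext
    · rw [MorSch.XTmap_fst, Category.assoc, pullback.lift_fst, Category.comp_id]
      rfl
    · refine (pullback.lift_snd _ _ _).trans ?_
      rw [Category.assoc, pullback.lift_snd]
      show pullback.snd _ _ ≫ dnMap k ≫ mp = pullback.fst _ _ ≫ p ≫ mp
      rw [← Category.assoc, ← Category.assoc]
      exact congrArg (· ≫ mp) pullback.condition.symm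
  have hsect : sect k P ≫ PicF.XTmap p γT = i := by
    apply pullback.hom_ext
    · rw [Category.assoc, MorSch.XTmap_fst, pullback.lift_fst]
      exact ExpSeq.sect_fst _
    · rw [Category.assoc, pullback.lift_snd]
      refine (congrArg (sect k P ≫ ·) (pullback.lift_snd _ _ _)).trans ?_
      rw [← Category.assoc]
      refine (congrArg (· ≫ γ) (pullback.lift_snd _ _ _)).trans ?_
      rw [Category.assoc, hγ₀]
      rfl
  have hh : IsLift q g h := by
    refine ⟨(Category.assoc _ _ _).trans ?_, ?_⟩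
    · rw [v.2, ← Category.assoc, MorSch.XTmap_fst]; rfl
    · show sect k P ≫ PicF.XTmap p γT ≫ v.1 = g
      rw [reassoc_of% hsect]; rfl
  have hh₀ : IsLift q g h₀ := by
    refine ⟨?_, ?_⟩
    · show (pr k P ≫ g) ≫ q = _
      rw [Category.assoc, curveAt_comp]; rfl
    · show sect k P ≫ pr k P ≫ g = g
      rw [← Category.assoc, ExpSeq.sect_fst, Category.id_comp]
  obtain ⟨α, hα⟩ := HomTan.exists_isTan (curveAt_comp mp hmp) hh
  obtain ⟨α₀, hα₀⟩ := HomTan.exists_isTan (curveAt_comp mp hmp) hh₀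
  have hval₀ : ∀ (V : X.affineOpens) s, val q g α₀ V.1 s = 0 := fun V s => by
    refine HomTan.em_injective (k := k) P _ ?_
    rw [HomTan.em_zero]
    have h1 := hα₀ V s (HomTan.le_preimage_lift hh₀ V.1)
    have h2 : h₀.appLE V.1 (pr k P ⁻¹ᵁ (g ⁻¹ᵁ V.1)) (HomTan.le_preimage_lift hh₀ V.1) s =
        pb k P (g ⁻¹ᵁ V.1) (g.app V.1 s) := by
      show (pr k P ≫ g).appLE V.1 _ _ s = (g.app V.1 ≫ (pr k P).app _) s
      rw [← Scheme.Hom.comp_app, Scheme.Hom.app_eq_appLE]
      rfl
    rw [h2] at h1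
    exact left_eq_add.1 h1
  have hcomp : mapε (X' := S) (X := P) t ht ≫ h = mapε (X' := S) (X := P) t ht ≫ h₀ := by
    let σ := pullback.lift (f := p) (g := M.hom) (M.hom ≫ t) (𝟙 _)
      (by rw [Category.assoc, ht, Category.comp_id, Category.id_comp])
    have h1 : mapε (X' := S) (X := P) t ht ≫ PicF.XTmap p γT = pullback.snd _ _ ≫ γ ≫ σ := by
      apply pullback.hom_ext
      · rw [Category.assoc, MorSch.XTmap_fst]
        show mapε (X' := S) (X := P) t ht ≫ pr k P = _
        rw [mapε_fst, Category.assoc, Category.assoc, pullback.lift_fst, reassoc_of% hγ, ← Category.assoc]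
        exact congrArg (· ≫ t) ((Category.comp_id _).symm.trans pullback.condition)
      · rw [Category.assoc]
        refine (congrArg (mapε (X' := S) (X := P) t ht ≫ ·) (pullback.lift_snd _ _ _)).trans ?_
        rw [← Category.assoc]
        refine (congrArg (· ≫ γ) (pullback.lift_snd _ _ _)).trans ?_
        simp only [Category.assoc, σ, pullback.lift_snd, Category.comp_id]
    show _ ≫ PicF.XTmap p γT ≫ v.1 = _ ≫ pr k P ≫ g
    rw [← Category.assoc, h1, Category.assoc, Category.assoc]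
    show pullback.snd _ _ ≫ γ ≫ evAt v t ht = _
    rw [hψ, evAt_curve, ← Category.assoc, reassoc_of% (mapε_fst (X' := S) (X := P) ht)]
    refine congrArg (· ≫ t ≫ g) ?_
    exact pullback.condition.symm.trans (Category.comp_id _)
  obtain ⟨U₀, m, fr, hxU₀, hfr⟩ := TMul.exists_isFrame (AVOmega.isFinLocFree_omega q) (g (t (closedPoint k)))
  obtain ⟨V, hV, hxV, hle⟩ := exists_isAffineOpen_mem_and_subset (X := X) (x := g (t (closedPoint k))) (U := U₀) hxU₀
  have htV : ⊤ ≤ t ⁻¹ᵁ (g ⁻¹ᵁ V) := fun y _ => by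
    obtain rfl : y = closedPoint k := Subsingleton.elim (α := PrimeSpectrum k) _ _
    exact hxV
  have hvan : ∀ s, t.appLE _ ⊤ htV (val q g α V s) = 0 := fun s => by
    have e₁ : pr k S ⁻¹ᵁ ⊤ ≤ (mapε (X' := S) (X := P) t ht ≫ h) ⁻¹ᵁ V :=
      (le_mapε ht htV).trans ((mapε (X' := S) (X := P) t ht).preimage_mono (HomTan.le_preimage_lift hh V))
    have e₀ : pr k S ⁻¹ᵁ ⊤ ≤ (mapε (X' := S) (X := P) t ht ≫ h₀) ⁻¹ᵁ V := hcomp ▸ e₁
    have h1 := appLE_mapε_comp ht hh hα ⟨V, hV⟩ htV e₁ s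
    have h2 := appLE_mapε_comp ht hh₀ hα₀ ⟨V, hV⟩ htV e₀ s
    have h3 : (mapε (X' := S) (X := P) t ht ≫ h).appLE V _ e₁ s =
        (mapε (X' := S) (X := P) t ht ≫ h₀).appLE V _ e₀ s := by simp only [hcomp]
    rw [h1, h2, hval₀ ⟨V, hV⟩, map_zero, HomTan.em_zero, add_zero] at h3
    exact HomTan.em_injective (k := k) S ⊤ ((add_eq_left.1 h3).trans (HomTan.em_zero _ ⊤).symm)
  have hgen : ∀ w : Γ(Omega.sheaf q, V), t.appLE _ ⊤ htV (α.app V w) = 0 := fun w => by
    have hw : w ∈ Submodule.span Γ(X, V) (Set.range fun a => OmegaSh.dSect q V a) := by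
      rw [DefLift.span_dSect q ⟨V, hV⟩]; trivial
    induction hw using Submodule.span_induction with
    | mem y hy => obtain ⟨a, rfl⟩ := hy; exact hvan a
    | zero => rw [map_zero]; exact map_zero _
    | add a b _ _ ha hb => rw [map_add]; exact (map_add (t.appLE _ ⊤ htV).hom _ _).trans (by erw [ha, hb]; exact add_zero _)
    | smul r a _ ha =>
      rw [Scheme.Modules.Hom.app_smul]
      exact (map_mul (t.appLE _ ⊤ htV).hom (g.app V r) (α.app V a)).trans (by erw [ha]; exact mul_zero _)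
  let adj := Scheme.Modules.pullbackPushforwardAdjunction g
  let β := (adj.homEquiv _ _).symm α
  have hαβ : α = adj.unit.app (Omega.sheaf q) ≫ (Scheme.Modules.pushforward g).map β :=
    ((adj.homEquiv _ _).apply_symm_apply α).symm.trans (adj.homEquiv_unit _ _ β)
  have hfrV := W7Strat.isFrame_res hfr hle
  have he' := hfrV.pullback g
  have hβ : β = 0 := by
    refine form_eq_zero hd e β t htV fun s => ?_
    obtain ⟨c, rfl⟩ := he'.comb_surjective le_rfl s
    rw [map_sum]
    refine (map_sum (t.appLE _ ⊤ htV).hom _ _).trans (Finset.sum_eq_zero fun j _ => ?_)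
    rw [Scheme.Modules.Hom.app_smul]
    refine (map_mul (t.appLE _ ⊤ htV).hom (c j) _).trans ?_
    rw [Groth.Agent.QC.res_self]
    have h1 := hgen (res (Omega.sheaf q) hle (fr j))
    rw [hαβ] at h1
    exact mul_eq_zero_of_right _ h1
  have hα0 : α = α₀ := HomTan.val_ext fun V' s => by
    rw [hval₀ V' s, val, hαβ, hβ, Functor.map_zero, comp_zero]
    rfl
  have heq : h = h₀ := HomTan.eq_of_isTan (curveAt_comp mp hmp) hh hh₀ hα (hα0 ▸ hα₀)
  have hT : γT = cT := by
    refine (hM.2 T (MorSch.pull p q cT v)).unique (MorSch.Obj.ext ?_) rfl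
    show h = PicF.XTmap p cT ≫ v.1
    rw [heq, hc, Category.assoc]
    rfl
  exact congrArg CommaMorphism.left hT

/-- The maximal ideal is generated by the functions pulled back along the evaluation. -/
theorem maximalIdeal_le_map [Smooth q] [QuasiSeparated q] [LocallyOfFiniteType M.hom]
    (hM : IsUnivN (CohB1.ProjSpace.toSpec 1 k) q M v) (t : Spec (CommRingCat.of k) ⟶ CohB1.ProjSpace 1 k)
    (ht : t ≫ CohB1.ProjSpace.toSpec 1 k = 𝟙 _) (mp : Spec (CommRingCat.of k) ⟶ M.left) (hmp : mp ≫ M.hom = 𝟙 _)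
    {n : ℕ} {d : Fin n → ℤ} (hd : ∀ i, d i = 0)
    (e : (Scheme.Modules.pullback (curveAt v mp hmp)).obj (Omega.sheaf q) ≅ ∐ fun i : Fin n => O k (d i)) :
    maximalIdeal (M.left.presheaf.stalk (mp (closedPoint k))) ≤
      (maximalIdeal _).map ((evAt v t ht).stalkMap (mp (closedPoint k))).hom := by
  haveI := hM.1
  set m := mp (closedPoint k)
  set ψ := evAt v t ht
  set A := M.left.presheaf.stalk m
  set I : Ideal A := (maximalIdeal _).map (ψ.stalkMap m).hom
  suffices hle : maximalIdeal A ≤ I ⊔ maximalIdeal A • maximalIdeal A by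
    exact Submodule.le_of_le_smul_of_le_jacobson_bot (IsNoetherian.noetherian _)
      (IsLocalRing.maximalIdeal_le_jacobson _) hle
  intro r hr
  letI : Algebra k A := (SmDiff.baseToStalk M.hom m).hom.toAlgebra
  obtain ⟨φ, hφ, hmpφ⟩ : ∃ (φ : A ⟶ CommRingCat.of k),
      IsLocalHom φ.hom ∧ mp = Spec.map φ ≫ M.left.fromSpecStalk m :=
    ⟨Scheme.stalkClosedPointTo mp, inferInstance, (Scheme.Spec_stalkClosedPointTo_fromSpecStalk mp).symm⟩
  letI : Algebra A k := φ.hom.toAlgebra
  have hbase : M.left.fromSpecStalk m ≫ M.hom = Spec.map (SmDiff.baseToStalk M.hom m) := by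
    rw [SmDiff.baseToStalk, Spec.map_comp, ← Scheme.SpecMap_stalkMap_fromSpecStalk]
    congr 1
    exact Spec.fromSpecStalk_eq' _ _
  have h1 : SmDiff.baseToStalk M.hom m ≫ φ = 𝟙 _ := Spec.map_injective (by
    rw [Spec.map_comp, Spec.map_id, ← hbase, ← Category.assoc, ← hmpφ, hmp])
  haveI : IsScalarTower k A k := IsScalarTower.of_algebraMap_eq' (congrArg CommRingCat.Hom.hom h1).symm
  let W : Submodule k (maximalIdeal A).Cotangent :=
    (Submodule.map (maximalIdeal A).toCotangent (Submodule.comap (maximalIdeal A).subtype I)).restrictScalars k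
  by_contra hr'
  have hw : (maximalIdeal A).toCotangent ⟨r, hr⟩ ∉ W := by
    rintro ⟨⟨a, ha⟩, haI, hae⟩
    refine hr' ?_
    have h2 := (Ideal.toCotangent_eq _).1 hae.symm
    rw [show r = a + (r - a) by ring]
    refine Submodule.add_mem_sup haI ?_
    rw [smul_eq_mul, ← pow_two]
    exact h2
  obtain ⟨L, hLw, hLW⟩ := Submodule.exists_dual_map_eq_bot_of_notMem hw inferInstance
  let D := (QuotInf.derDual k A).symm L
  have hDI : ∀ a ∈ I, a ∈ maximalIdeal A → D a = 0 := fun a ha ham => by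
    have h0 : algebraMap A k a = 0 := by
      rw [← RingHom.mem_ker, ← QuotInf.maximalIdeal_eq_ker_eval (k := k)]; exact ham
    have h2 : (maximalIdeal A).toCotangent ⟨a - algebraMap k A (algebraMap A k a),
        QuotInf.sub_mem_maximal (k := k) a⟩ ∈ W :=
      ⟨⟨_, QuotInf.sub_mem_maximal (k := k) a⟩, by simpa [h0] using ha, rfl⟩
    show L _ = 0
    have h3 := Submodule.mem_map_of_mem (f := L) h2
    rwa [hLW, Submodule.mem_bot] at h3
  let γ := Spec.map (CommRingCat.ofHom (QuotInf.derHom D)) ≫ M.left.fromSpecStalk m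
  have hγ : γ ≫ M.hom = dnMap k := by
    rw [Category.assoc, hbase, ← Spec.map_comp]
    exact congrArg (fun ψ => Spec.map (CommRingCat.ofHom ψ)) (QuotInf.derHom_algebraMap D)
  have hγ₀ : dnPoint k ≫ γ = mp := by
    rw [hmpφ, ← Category.assoc, ← Spec.map_comp]
    congr 2
  have hψ : γ ≫ ψ = dnMap k ≫ mp ≫ ψ := by
    rw [hmpφ]
    simp only [γ, Category.assoc, ← Scheme.SpecMap_stalkMap_fromSpecStalk, ← Spec.map_comp_assoc]
    refine congrArg (fun θ => Spec.map θ ≫ _) (CommRingCat.hom_ext (RingHom.ext fun b => ?_))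
    refine TrivSqZeroExt.ext rfl ?_
    show D ((ψ.stalkMap m).hom b) = 0
    set a := (ψ.stalkMap m).hom b
    let c := algebraMap A k a
    let c' := SmDiff.baseToStalk q (ψ m)
    have hc' : (ψ.stalkMap m).hom (c'.hom c) = algebraMap k A c := by
      show (c' ≫ ψ.stalkMap m).hom c = (SmDiff.baseToStalk M.hom m).hom c
      refine RingHom.congr_fun (congrArg CommRingCat.Hom.hom (?_ : c' ≫ ψ.stalkMap m = SmDiff.baseToStalk M.hom m)) c
      refine Spec.map_injective ?_
      rw [← hbase, ← evAt_comp (v := v) t ht, ← Category.assoc, ← Scheme.SpecMap_stalkMap_fromSpecStalk,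
        Category.assoc, Spec.map_comp]
      refine congrArg (_ ≫ ·) ?_
      rw [show c' = SmDiff.baseToStalk q (ψ m) from rfl, SmDiff.baseToStalk, Spec.map_comp,
        ← Scheme.SpecMap_stalkMap_fromSpecStalk]
      congr 1
      exact (Spec.fromSpecStalk_eq' _ _).symm
    have hbm : b - c'.hom c ∈ maximalIdeal _ := by
      by_contra hu
      rw [IsLocalRing.mem_maximalIdeal, mem_nonunits_iff, not_not] at hu
      have h2 := hu.map (ψ.stalkMap m).hom
      rw [map_sub, hc'] at h2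
      exact (IsLocalRing.mem_maximalIdeal _).1 (QuotInf.sub_mem_maximal (k := k) a) h2
    have h2 : a - algebraMap k A c ∈ I := by
      rw [← hc', ← map_sub]
      exact Ideal.mem_map_of_mem _ hbm
    have h3 := hDI _ h2 (QuotInf.sub_mem_maximal (k := k) a)
    rwa [map_sub, D.map_algebraMap, sub_zero] at h3
  have hzero := eq_zero_of_evAt hM t ht mp hmp hd e γ hγ hγ₀ hψ
  rw [hmpφ] at hzero
  simp only [γ, ← Category.assoc, ← Spec.map_comp] at hzero
  have h4 := congrArg CommRingCat.Hom.hom (Spec.map_injective ((cancel_mono (M.left.fromSpecStalk m)).1 hzero))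
  have hDr : D r = 0 := congrArg TrivSqZeroExt.snd (RingHom.congr_fun h4 r)
  refine hLw ?_
  have h0 : algebraMap A k r = 0 := by
    rw [← RingHom.mem_ker, ← QuotInf.maximalIdeal_eq_ker_eval (k := k)]; exact hr
  rw [show (⟨r, hr⟩ : maximalIdeal A) = ⟨r - algebraMap k A (algebraMap A k r), QuotInf.sub_mem_maximal (k := k) r⟩ from
    Subtype.ext (by simp [h0])]
  exact hDr

end Groth.Agent.FreeCurve
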