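import Groth.Agent.HomTan.Lift
import Groth.Agent.SmDiff.Closed
import Mathlib

/-!
# First order neighbourhoods of rational points
-/

set_option autoImplicit false
set_option linter.unusedSectionVars false
set_option linter.style.haveILetI false
set_option backward.isDefEq.respectTransparency false
set_option backward.isDefEq.respectTransparency.types false
set_option maxHeartbeats 1000000

universe u

open CategoryTheory CategoryTheory.Limits AlgebraicGeometry TopologicalSpace Opposite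
open Groth.Agent.QC (resO res resO_resO)
open Groth.Agent.ExpSeq (Xε sect dnMap dnPoint)
open Groth.Agent.HomTan (IsLift IsTan val pb em)
open IsLocalRing (closedPoint maximalIdeal)

noncomputable section

namespace Groth.Agent.FreeCurve

variable {k : Type u} [Field k]

section Map

variable {X' X Z : Scheme.{u}} [X'.Over (Spec (CommRingCat.of k))] [X.Over (Spec (CommRingCat.of k))]

/-- The projection of a thickening. -/
abbrev pr (k : Type u) [Field k] (X : Scheme.{u}) [X.Over (Spec (CommRingCat.of k))] : Xε k X ⟶ X :=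
  pullback.fst (X ↘ Spec (CommRingCat.of k)) (dnMap k)

/-- Functoriality of thickenings. -/
def mapε (t : X' ⟶ X) (ht : t ≫ (X ↘ Spec (CommRingCat.of k)) = X' ↘ Spec (CommRingCat.of k)) : Xε k X' ⟶ Xε k X :=
  pullback.map _ _ _ _ t (𝟙 _) (𝟙 _) (by rw [ht, Category.comp_id]) (by simp)

variable {t : X' ⟶ X} (ht : t ≫ (X ↘ Spec (CommRingCat.of k)) = X' ↘ Spec (CommRingCat.of k))

theorem mapε_fst : mapε t ht ≫ pr k X = pr k X' ≫ t := pullback.lift_fst _ _ _

theorem sect_mapε : sect k X' ≫ mapε t ht = t ≫ sect k X := by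
  apply pullback.hom_ext
  · simp only [Category.assoc, mapε, sect, pullback.lift_fst, Category.comp_id]
    rw [pullback.lift_fst_assoc, Category.id_comp]
  · simp only [Category.assoc, mapε, sect, pullback.lift_snd, Category.comp_id]
    rw [← Category.assoc, ht]

theorem le_mapε {W : X.Opens} {W' : X'.Opens} (h : W' ≤ t ⁻¹ᵁ W) :
    pr k X' ⁻¹ᵁ W' ≤ mapε t ht ⁻¹ᵁ (pr k X ⁻¹ᵁ W) := by
  rw [← Scheme.Hom.comp_preimage, mapε_fst]
  exact (pr k X').preimage_mono h

theorem mapε_pb {W : X.Opens} {W' : X'.Opens} (h : W' ≤ t ⁻¹ᵁ W) (r : Γ(X, W)) :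
    (mapε t ht).appLE _ _ (le_mapε ht h) (pb k X W r) = pb k X' W' (t.appLE W W' h r) := by
  show ((pr k X).app W ≫ (mapε t ht).appLE _ _ (le_mapε ht h)) r = (t.appLE W W' h ≫ (pr k X').app W') r
  rw [Scheme.Hom.app_eq_appLE, Scheme.Hom.app_eq_appLE, Scheme.Hom.appLE_comp_appLE, Scheme.Hom.appLE_comp_appLE]
  simp only [mapε_fst ht]

theorem mapε_epsTop : (mapε t ht).appTop (ExpSeq.epsTop k X) = ExpSeq.epsTop k X' := by
  show ((pullback.snd (X ↘ Spec (CommRingCat.of k)) (dnMap k)).appTop ≫ (mapε t ht).appTop) _ = _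
  rw [← Scheme.Hom.comp_appTop, mapε, pullback.lift_snd, Category.comp_id]
  rfl

theorem mapε_eps {U : (Xε k X).Opens} {U' : (Xε k X').Opens} (h : U' ≤ mapε t ht ⁻¹ᵁ U) :
    (mapε t ht).appLE U U' h (ExpSeq.epsOn k X U) = ExpSeq.epsOn k X' U' := by
  show _ = resO _ le_top (ExpSeq.epsTop k X')
  rw [← mapε_epsTop ht]
  exact (ConcreteCategory.congr_hom ((mapε t ht).map_appLE h (homOfLE (le_top : U ≤ ⊤)).op) _).trans
    (ConcreteCategory.congr_hom (show (mapε t ht).appLE ⊤ U' le_top =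
      (mapε t ht).appTop ≫ (Xε k X').presheaf.map (homOfLE (le_top : U' ≤ ⊤)).op from rfl) _)

theorem mapε_em {W : X.Opens} {W' : X'.Opens} (h : W' ≤ t ⁻¹ᵁ W) (r : Γ(X, W)) :
    (mapε t ht).appLE _ _ (le_mapε ht h) (em k X W r) = em k X' W' (t.appLE W W' h r) := by
  rw [HomTan.em, map_mul, mapε_pb ht h, mapε_eps ht]
  rfl

variable {yY : Z ⟶ Spec (CommRingCat.of k)} [QuasiSeparated yY] {f : X ⟶ Z}

/-- The value of an extension after composing with a map of thickenings. -/
theorem appLE_mapε_comp {h : Xε k X ⟶ Z} (hh : IsLift yY f h)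
    {α : Omega.sheaf yY ⟶ (Scheme.Modules.pushforward f).obj (Coh.structureModule X)} (hα : IsTan yY f h α)
    (V : Z.affineOpens) {W' : X'.Opens} (hW : W' ≤ t ⁻¹ᵁ (f ⁻¹ᵁ V.1))
    (e : pr k X' ⁻¹ᵁ W' ≤ (mapε t ht ≫ h) ⁻¹ᵁ V.1) (s : Γ(Z, V.1)) :
    (mapε t ht ≫ h).appLE V.1 _ e s = pb k X' W' (t.appLE _ W' hW (f.app V.1 s)) +
      em k X' W' (t.appLE _ W' hW (val yY f α V.1 s)) := by
  rw [← mapε_pb ht hW, ← mapε_em ht hW, ← map_add, ← hα V s (HomTan.le_preimage_lift hh V.1)]
  exact (ConcreteCategory.congr_hom (Scheme.Hom.appLE_comp_appLE (mapε t ht) h _ _ _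
    (HomTan.le_preimage_lift hh V.1) (le_mapε ht hW)) s).symm

end Map

section Point

local instance : (Spec (CommRingCat.of k)).Over (Spec (CommRingCat.of k)) := ⟨𝟙 _⟩

theorem eq_top_of_mem {W : (Spec (CommRingCat.of k)).Opens} (h : closedPoint k ∈ W) : W = ⊤ :=
  top_le_iff.1 fun y _ => by
    have : y = closedPoint k := Subsingleton.elim (α := PrimeSpectrum k) _ _
    rw [this]; exact h

theorem isUnit_of_ne_zero_spec {r : Γ(Spec (CommRingCat.of k), ⊤)} (hr : r ≠ 0) : IsUnit r := by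
  let ι := Scheme.ΓSpecIso (CommRingCat.of k)
  have h1 : IsUnit (ι.hom r) := IsUnit.mk0 _ fun h => hr (by rw [← Iso.hom_inv_id_apply ι r, h, map_zero])
  have h2 := h1.map ι.inv.hom
  rwa [Iso.hom_inv_id_apply ι r] at h2

/-- A function in the maximal ideal at a rational point vanishes there. -/
theorem appLE_eq_zero {Z : Scheme.{u}} (zs : Spec (CommRingCat.of k) ⟶ Z) {W : Z.Opens}
    (hW : zs (closedPoint k) ∈ W) (e : ⊤ ≤ zs ⁻¹ᵁ W) (r : Γ(Z, W))
    (hr : Z.presheaf.germ W _ hW r ∈ maximalIdeal (Z.presheaf.stalk (zs (closedPoint k)))) :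
    zs.appLE W ⊤ e r = 0 := by
  by_contra h
  rw [IsLocalRing.mem_maximalIdeal] at hr
  refine hr ?_
  have h1 : IsUnit ((Spec (CommRingCat.of k)).presheaf.germ ⊤ (closedPoint k) trivial (zs.appLE W ⊤ e r)) :=
    (isUnit_of_ne_zero_spec h).map _
  have h2 : zs.stalkMap (closedPoint k) (Z.presheaf.germ W _ hW r) =
      (Spec (CommRingCat.of k)).presheaf.germ ⊤ (closedPoint k) trivial (zs.appLE W ⊤ e r) := by
    rw [Scheme.Hom.germ_stalkMap_apply]
    exact (TopCat.Presheaf.germ_res_apply _ (homOfLE e) (closedPoint k) trivial (zs.app W r)).symm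
  rw [← h2] at h1
  exact IsLocalHom.map_nonunit _ h1

theorem eq_sect (z : (Xε k (Spec (CommRingCat.of k)) : Scheme.{u})) :
    z = sect k (Spec (CommRingCat.of k)) (closedPoint k) := by
  obtain ⟨y, rfl⟩ := (ExpSeq.isHomeomorph_sect (k := k) (Spec (CommRingCat.of k))).surjective z
  exact congrArg _ (Subsingleton.elim (α := PrimeSpectrum k) _ _)

/-- The square of the maximal ideal dies in the thickened point. -/
theorem appLE_eq_zero_of_sq {Z : Scheme.{u}} (h : Xε k (Spec (CommRingCat.of k)) ⟶ Z) {z : Z}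
    (hz : h (sect k (Spec (CommRingCat.of k)) (closedPoint k)) = z) {W : Z.Opens} (hW : z ∈ W)
    (e : pr k (Spec (CommRingCat.of k)) ⁻¹ᵁ ⊤ ≤ h ⁻¹ᵁ W) (r : Γ(Z, W))
    (hr : Z.presheaf.germ W z hW r ∈ maximalIdeal (Z.presheaf.stalk z) ^ 2) :
    h.appLE W _ e r = 0 := by
  subst hz
  set S := Spec (CommRingCat.of k)
  set p := sect k S (closedPoint k)
  have hsub : ∀ (U : (Xε k S).Opens), p ∈ U → U = ⊤ := fun U hU => top_le_iff.1 fun z _ => by rw [eq_sect z]; exact hU
  have hsq : ∀ a ∈ maximalIdeal ((Xε k S).presheaf.stalk p), ∀ b ∈ maximalIdeal ((Xε k S).presheaf.stalk p),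
      a * b = 0 := by
    have key : ∀ a ∈ maximalIdeal ((Xε k S).presheaf.stalk p), ∃ v : Γ(S, ⊤),
        (Xε k S).presheaf.germ (pr k S ⁻¹ᵁ ⊤) p trivial (em k S ⊤ v) = a := fun a ha => by
      obtain ⟨U, hU, w, rfl⟩ := (Xε k S).presheaf.exists_germ_eq a
      obtain rfl : U = pr k S ⁻¹ᵁ ⊤ := hsub U hU
      obtain ⟨v, hv⟩ := HomTan.exists_decomp (k := k) S ⊤ w
      refine ⟨v, ?_⟩
      by_cases h0 : HomTan.dn k S ⊤ w = 0
      · rw [h0, map_zero, zero_add] at hv
        rw [← hv]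
      · exfalso
        rw [IsLocalRing.mem_maximalIdeal] at ha
        refine ha ?_
        have hu : IsUnit (pb k S ⊤ (HomTan.dn k S ⊤ w)) := (isUnit_of_ne_zero_spec h0).map _
        have hn : IsNilpotent (em k S ⊤ v) := ⟨2, by rw [pow_two]; exact HomTan.em_mul_em S ⊤ v v⟩
        have hw : IsUnit w := by
          rw [hv]
          exact hn.isUnit_add_left_of_commute hu (Commute.all _ _)
        exact hw.map _
    intro a ha b hb
    obtain ⟨v, rfl⟩ := key a ha
    obtain ⟨v', rfl⟩ := key b hb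
    rw [← map_mul, HomTan.em_mul_em, map_zero]
  have h1 : h.stalkMap p (Z.presheaf.germ W _ hW r) = 0 := by
    have hmem := Ideal.mem_map_of_mem (h.stalkMap p).hom hr
    rw [Ideal.map_pow, pow_two] at hmem
    have hle : Ideal.map (h.stalkMap p).hom (maximalIdeal (Z.presheaf.stalk (h p))) ≤
        maximalIdeal ((Xε k S).presheaf.stalk p) :=
      Ideal.map_le_iff_le_comap.2 fun x hx => by
        rw [IsLocalRing.mem_maximalIdeal] at hx
        rw [Ideal.mem_comap, IsLocalRing.mem_maximalIdeal]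
        exact fun hu => hx (IsLocalHom.map_nonunit _ hu)
    have hbot : maximalIdeal ((Xε k S).presheaf.stalk p) * maximalIdeal ((Xε k S).presheaf.stalk p) ≤ ⊥ :=
      Ideal.mul_le.2 fun a ha b hb => by rw [Ideal.mem_bot]; exact hsq a ha b hb
    exact (Ideal.mul_mono hle hle).trans hbot hmem
  refine TopCat.Presheaf.section_ext (Xε k S).sheaf _ _ _ fun y hy => ?_
  obtain rfl : y = p := eq_sect y
  rw [map_zero]
  refine Eq.trans ?_ h1
  rw [Scheme.Hom.germ_stalkMap_apply]
  exact TopCat.Presheaf.germ_res_apply _ (homOfLE e) p hy (h.app W r)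

/-- Tangent vectors detect the cotangent space at a rational point. -/
theorem exists_tangent {X : Scheme.{u}} (q : X ⟶ Spec (CommRingCat.of k)) [QuasiSeparated q]
    (xs : Spec (CommRingCat.of k) ⟶ X) (hxs : xs ≫ q = 𝟙 _) (V : X.affineOpens)
    (hxV : xs (closedPoint k) ∈ V.1) (s : Γ(X, V.1))
    (hs : X.presheaf.germ V.1 _ hxV s ∈ maximalIdeal (X.presheaf.stalk (xs (closedPoint k))))
    (hs2 : X.presheaf.germ V.1 _ hxV s ∉ maximalIdeal (X.presheaf.stalk (xs (closedPoint k))) ^ 2)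
    (e : ⊤ ≤ xs ⁻¹ᵁ V.1) :
    ∃ α : Omega.sheaf q ⟶ (Scheme.Modules.pushforward xs).obj (Coh.structureModule (Spec (CommRingCat.of k))),
      resO (Spec (CommRingCat.of k)) e (val q xs α V.1 s) ≠ 0 := by
  set x := xs (closedPoint k)
  letI : Algebra k (X.presheaf.stalk x) := (SmDiff.baseToStalk q x).hom.toAlgebra
  obtain ⟨φ, hφ, hxsφ⟩ : ∃ (φ : X.presheaf.stalk x ⟶ CommRingCat.of k),
      IsLocalHom φ.hom ∧ xs = Spec.map φ ≫ X.fromSpecStalk x := by
    refine ⟨Scheme.stalkClosedPointTo xs, inferInstance, ?_⟩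
    exact (Scheme.Spec_stalkClosedPointTo_fromSpecStalk xs).symm
  letI : Algebra (X.presheaf.stalk x) k := φ.hom.toAlgebra
  have hbase : X.fromSpecStalk x ≫ q = Spec.map (SmDiff.baseToStalk q x) := by
    rw [SmDiff.baseToStalk, Spec.map_comp, ← Scheme.SpecMap_stalkMap_fromSpecStalk]
    congr 1
    exact Spec.fromSpecStalk_eq' _ _
  haveI : IsScalarTower k (X.presheaf.stalk x) k := IsScalarTower.of_algebraMap_eq' (by
    have h1 : SmDiff.baseToStalk q x ≫ φ = 𝟙 _ := Spec.map_injective (by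
      rw [Spec.map_comp, Spec.map_id, ← hbase, ← Category.assoc, ← hxsφ, hxs])
    exact (congrArg CommRingCat.Hom.hom h1).symm)
  set a := X.presheaf.germ V.1 x hxV s
  let w : (maximalIdeal (X.presheaf.stalk x)).Cotangent := (maximalIdeal (X.presheaf.stalk x)).toCotangent ⟨a, hs⟩
  have hw : w ≠ 0 := fun h => hs2 ((Ideal.toCotangent_eq_zero _ _).1 h)
  obtain ⟨L, hL⟩ : ∃ L : Module.Dual k (maximalIdeal (X.presheaf.stalk x)).Cotangent, L w ≠ 0 := by
    by_contra hall
    push Not at hall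
    exact hw ((Module.forall_dual_apply_eq_zero_iff k w).1 hall)
  let D := (QuotInf.derDual k (X.presheaf.stalk x)).symm L
  have hDa : D a ≠ 0 := by
    show L ((maximalIdeal _).toCotangent ⟨a - algebraMap k _ (algebraMap _ k a), _⟩) ≠ 0
    have h0 : algebraMap (X.presheaf.stalk x) k a = 0 := by
      rw [← RingHom.mem_ker, ← QuotInf.maximalIdeal_eq_ker_eval (k := k)]; exact hs
    have h1 : (⟨a, hs⟩ : maximalIdeal (X.presheaf.stalk x)) =
        ⟨a - algebraMap k _ (algebraMap _ k a), QuotInf.sub_mem_maximal (k := k) a⟩ :=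
      Subtype.ext (by simp [h0])
    rw [← h1]
    exact hL
  let S := Spec (CommRingCat.of k)
  let iε : Xε k S ⟶ Spec (CommRingCat.of (DualNumber k)) := pullback.snd _ _
  haveI : IsIso iε := by
    haveI : IsIso (S ↘ Spec (CommRingCat.of k)) := inferInstanceAs (IsIso (𝟙 _))
    exact inferInstanceAs (IsIso (pullback.snd (S ↘ Spec (CommRingCat.of k)) (dnMap k)))
  let g := Spec.map (CommRingCat.ofHom (QuotInf.derHom D)) ≫ X.fromSpecStalk x
  let h : Xε k S ⟶ X := iε ≫ g
  have hg : dnPoint k ≫ g = xs := by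
    rw [hxsφ, ← Category.assoc, ← Spec.map_comp]
    congr 2
  have hh : IsLift q xs h := by
    refine ⟨?_, ?_⟩
    · have h1 : g ≫ q = dnMap k := by
        show (_ ≫ _) ≫ q = _
        rw [Category.assoc, hbase, ← Spec.map_comp]
        exact congrArg (fun ψ => Spec.map (CommRingCat.ofHom ψ)) (QuotInf.derHom_algebraMap D)
      show (iε ≫ g) ≫ q = _
      rw [Category.assoc, h1]
      exact pullback.condition.symm
    · show sect k S ≫ iε ≫ g = xs
      rw [← Category.assoc]
      show (pullback.lift _ _ _ ≫ pullback.snd _ _) ≫ g = xs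
      rw [pullback.lift_snd, Category.assoc, hg]
      exact Category.id_comp xs
  obtain ⟨α, hα⟩ := HomTan.exists_isTan (X := S) (hxs : xs ≫ q = S ↘ Spec (CommRingCat.of k)) hh
  refine ⟨α, fun h0 => hDa ?_⟩
  have hle := HomTan.le_preimage_lift hh V.1
  have hval := congrArg (resO _ ((pr k S).preimage_mono e)) (hα V s hle)
  rw [map_add, HomTan.pb_res (k := k) S e, HomTan.em_res (k := k) S e, h0, HomTan.em_zero, add_zero,
    show resO S e (xs.app V.1 s) = 0 from appLE_eq_zero xs hxV e s hs, map_zero] at hval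
  have e' : ⊤ ≤ g ⁻¹ᵁ V.1 := fun y _ => by
    have hy : y = closedPoint (DualNumber k) := Subsingleton.elim (α := PrimeSpectrum (DualNumber k)) _ _
    obtain ⟨y', rfl⟩ := (dnPoint k).surjective y
    have : y' = closedPoint k := Subsingleton.elim (α := PrimeSpectrum k) _ _
    show g (dnPoint k y') ∈ V.1
    rw [this, ← Scheme.Hom.comp_apply, hg]
    exact hxV
  have h2 : g.appLE V.1 ⊤ e' s = (Scheme.ΓSpecIso (CommRingCat.of (DualNumber k))).inv (QuotInf.derHom D a) := by
    show (Spec.map (CommRingCat.ofHom (QuotInf.derHom D)) ≫ X.fromSpecStalk x).appLE V.1 ⊤ e' s = _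
    rw [Scheme.Hom.comp_appLE, Scheme.fromSpecStalk_app hxV]
    simp only [CommRingCat.hom_comp, RingHom.comp_apply]
    refine Eq.trans (ConcreteCategory.congr_hom ((Spec.map (CommRingCat.ofHom (QuotInf.derHom D))).map_appLE e'
      (homOfLE (le_top : X.fromSpecStalk x ⁻¹ᵁ V.1 ≤ ⊤)).op) _) ?_
    exact (ConcreteCategory.congr_hom (Scheme.ΓSpecIso_inv_naturality (CommRingCat.ofHom (QuotInf.derHom D))) a).symm
  have h3 : h.appLE V.1 (pr k S ⁻¹ᵁ ⊤) (((pr k S).preimage_mono e).trans hle) s = 0 := by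
    rw [← hval]
    exact (ConcreteCategory.congr_hom (h.appLE_map hle (homOfLE ((pr k S).preimage_mono e)).op) s).symm
  have h4 : h.appLE V.1 (pr k S ⁻¹ᵁ ⊤) (((pr k S).preimage_mono e).trans hle) s =
      iε.appTop (g.appLE V.1 ⊤ e' s) :=
    (ConcreteCategory.congr_hom (Scheme.Hom.appLE_comp_appLE iε g V.1 ⊤ (pr k S ⁻¹ᵁ ⊤) e' le_top) s).symm.trans
      (ConcreteCategory.congr_hom (Scheme.Hom.app_eq_appLE (f := iε) (U := ⊤)).symm _)
  rw [h3, h2] at h4
  have hinj : Function.Injective iε.appTop := (ConcreteCategory.bijective_of_isIso iε.appTop).1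
  have h5 := (ConcreteCategory.bijective_of_isIso (Scheme.ΓSpecIso (CommRingCat.of (DualNumber k))).inv).1
    ((hinj ((map_zero _).trans h4)).symm.trans (map_zero _).symm)
  exact congrArg TrivSqZeroExt.snd h5

end Point

end Groth.Agent.FreeCurve
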