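import Groth.Agent.FreeCurve.PairTan
import Groth.Agent.PerfPush.H0
import Mathlib

/-!
# Families whose two point evaluation is injective on cotangent spaces consist of very free curves
-/

set_option autoImplicit false
set_option linter.style.haveILetI false
set_option backward.isDefEq.respectTransparency false
set_option backward.isDefEq.respectTransparency.types false
set_option synthInstance.maxHeartbeats 400000
set_option maxHeartbeats 1000000

universe u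

open CategoryTheory CategoryTheory.Limits AlgebraicGeometry TopologicalSpace Opposite
open Groth.Agent.QC (resO res app_res res_res resO_self)
open Groth.Agent.ExpSeq (Xε sect dnMap dnPoint)
open Groth.Agent.HomTan (IsLift IsTan val pb em)
open Groth.Agent.SGA6Ext (Sec)
open IsLocalRing (closedPoint maximalIdeal)

noncomputable section

namespace Groth.Agent.FreeCurve

open Groth.Agent.P1Split (O U)

variable {k : Type u} [Field k]

local instance : (Spec (CommRingCat.of k)).Over (Spec (CommRingCat.of k)) := ⟨𝟙 _⟩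
local instance : (CohB1.ProjSpace 1 k).Over (Spec (CommRingCat.of k)) := ⟨CohB1.ProjSpace.toSpec 1 k⟩

variable {X : Scheme.{u}}

/-- The covector given by a summand is the differential of a function at a point. -/
theorem exists_covector_at (q : X ⟶ Spec (CommRingCat.of k)) [Smooth q] [QuasiSeparated q]
    (f : CohB1.ProjSpace 1 k ⟶ X) {n : ℕ} {d : Fin n → ℤ}
    (e : (Scheme.Modules.pullback f).obj (Omega.sheaf q) ≅ ∐ fun i : Fin n => O k (d i)) (j : Fin n)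
    (t : Spec (CommRingCat.of k) ⟶ CohB1.ProjSpace 1 k) (hxs : (t ≫ f) ≫ q = 𝟙 _)
    {G₀ : (CohB1.ProjSpace 1 k).Opens} {gen : Γ(O k (d j), G₀)} (hgen : TMul.IsGen gen) (hG₀t : ⊤ ≤ t ⁻¹ᵁ G₀) :
    ∃ (V : X.affineOpens) (hxV : (t ≫ f) (closedPoint k) ∈ V.1) (e₀ : ⊤ ≤ t ⁻¹ᵁ (f ⁻¹ᵁ V.1)) (s : Γ(X, V.1)),
      (t ≫ f).appLE V.1 ⊤ e₀ s = 0 ∧
      X.presheaf.germ V.1 _ hxV s ∉ maximalIdeal (X.presheaf.stalk ((t ≫ f) (closedPoint k))) ^ 2 ∧
      ∀ α : Omega.sheaf q ⟶ (Scheme.Modules.pushforward f).obj (Coh.structureModule (CohB1.ProjSpace 1 k)),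
        t.appLE (f ⁻¹ᵁ V.1) ⊤ e₀ (α.app V.1 (OmegaSh.dSect q V.1 s)) =
          t.appLE G₀ ⊤ hG₀t (((Sigma.ι (fun i : Fin n => O k (d i)) j ≫ e.inv) ≫
            ((Scheme.Modules.pullbackPushforwardAdjunction f).homEquiv _ _).symm α).app G₀ gen) := by
  classical
  obtain ⟨U₀, m, fr, hxU₀, hfr⟩ := TMul.exists_isFrame (AVOmega.isFinLocFree_omega q) ((t ≫ f) (closedPoint k))
  obtain ⟨V, hV, hxV, hle⟩ := exists_isAffineOpen_mem_and_subset (X := X) (x := (t ≫ f) (closedPoint k)) (U := U₀)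
    hxU₀
  have hfrV := W7Strat.isFrame_res hfr hle
  let frV : Fin m → Γ(Omega.sheaf q, V) := fun l => res (Omega.sheaf q) hle (fr l)
  let W := f ⁻¹ᵁ V ⊓ G₀
  have hG₀ : t (closedPoint k) ∈ G₀ := hG₀t (Set.mem_univ (closedPoint k))
  have hW : ⊤ ≤ t ⁻¹ᵁ W := fun y _ => by
    obtain rfl : y = closedPoint k := Subsingleton.elim (α := PrimeSpectrum k) _ _
    exact ⟨hxV, hG₀⟩
  have e₀ : ⊤ ≤ t ⁻¹ᵁ (f ⁻¹ᵁ V) := fun y hy => (hW hy).1
  let χ : Γ(CohB1.ProjSpace 1 k, W) →+* Γ(Spec (CommRingCat.of k), ⊤) := (t.appLE W ⊤ hW).hom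
  have hχ : ∀ r : Γ(CohB1.ProjSpace 1 k, f ⁻¹ᵁ V),
      χ (resO (CohB1.ProjSpace 1 k) (inf_le_left : W ≤ f ⁻¹ᵁ V) r) = t.appLE _ ⊤ e₀ r := fun r =>
    ConcreteCategory.congr_hom (t.map_appLE hW (homOfLE (inf_le_left : W ≤ f ⁻¹ᵁ V)).op) r
  have he' := hfrV.pullback f
  let adj := Scheme.Modules.pullbackPushforwardAdjunction f
  let E := (Scheme.Modules.pullback f).obj (Omega.sheaf q)
  let gW : Γ(O k (d j), W) := res (O k (d j)) (inf_le_right : W ≤ G₀) gen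
  let ιj : O k (d j) ⟶ E := Sigma.ι (fun i : Fin n => O k (d i)) j ≫ e.inv
  let c : Fin m → Γ(CohB1.ProjSpace 1 k, W) := (he'.equiv (inf_le_left : W ≤ f ⁻¹ᵁ V)).symm (ιj.app W gW)
  have hvc : (∑ l, c l • res E (inf_le_left : W ≤ f ⁻¹ᵁ V) ((adj.unit.app (Omega.sheaf q)).app V (frV l))) =
      ιj.app W gW :=
    LinearEquiv.apply_symm_apply (he'.equiv (inf_le_left : W ≤ f ⁻¹ᵁ V)) _
  -- the deformations see this direction
  have hform : ∀ α : Omega.sheaf q ⟶ (Scheme.Modules.pushforward f).obj (Coh.structureModule (CohB1.ProjSpace 1 k)),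
      ∑ l, χ (c l) * t.appLE _ ⊤ e₀ (α.app V (frV l)) =
        t.appLE G₀ ⊤ hG₀t ((ιj ≫ ((Scheme.Modules.pullbackPushforwardAdjunction f).homEquiv _ _).symm α).app G₀ gen) :=
    fun α => by
    obtain ⟨ψ, hψ⟩ : ∃ ψ, ψ = (adj.homEquiv _ _).symm α := ⟨_, rfl⟩
    have hα : α = adj.unit.app _ ≫ (Scheme.Modules.pushforward f).map ψ := by
      rw [hψ]
      exact ((adj.homEquiv _ _).apply_symm_apply α).symm.trans (adj.homEquiv_unit _ _ _)
    rw [← hψ]
    clear hψ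
    clear_value ιj
    have h1 : χ (ψ.app W (ιj.app W gW)) = t.appLE G₀ ⊤ hG₀t ((ιj ≫ ψ).app G₀ gen) := by
      have h0 : ψ.app W (ιj.app W gW) =
          res (Coh.structureModule (CohB1.ProjSpace 1 k)) (inf_le_right : W ≤ G₀) (ψ.app G₀ (ιj.app G₀ gen)) := by
        rw [app_res, app_res]
      refine Eq.trans (congrArg χ h0) ?_
      exact ConcreteCategory.congr_hom (t.map_appLE hW (homOfLE (inf_le_right : W ≤ G₀)).op) _
    rw [← hvc, map_sum, map_sum] at h1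
    refine Eq.trans (Finset.sum_congr rfl fun l _ => ?_) h1
    rw [Scheme.Modules.Hom.app_smul, ← app_res ψ, hα]
    show _ = χ (c l * resO (CohB1.ProjSpace 1 k) (inf_le_left : W ≤ f ⁻¹ᵁ V)
      (ψ.app (f ⁻¹ᵁ V) ((adj.unit.app (Omega.sheaf q)).app V (frV l))))
    rw [map_mul, hχ]
    rfl
  -- the direction is not zero
  obtain ⟨l₀, hl₀⟩ : ∃ l, χ (c l) ≠ 0 := by
    by_contra hall
    push Not at hall
    obtain ⟨π, h1, -, -⟩ := P1Split.exists_proj fun i : Fin n => O k (d i)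
    choose r hr using fun l => (hgen W inf_le_right).2 ((e.hom ≫ π j).app W
      (res E (inf_le_left : W ≤ f ⁻¹ᵁ V) ((adj.unit.app (Omega.sheaf q)).app V (frV l))))
    have hg : (e.hom ≫ π j).app W (ιj.app W gW) = gW := by
      show (ιj ≫ e.hom ≫ π j).app W gW = gW
      rw [show ιj ≫ e.hom ≫ π j = 𝟙 _ by simp only [ιj, Category.assoc, Iso.inv_hom_id_assoc]; exact h1 j]
      rfl
    rw [← hvc, map_sum] at hg
    have hone : (∑ l, c l * r l) = 1 := by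
      refine (hgen W inf_le_right).1 ?_
      show (∑ l, c l * r l) • gW = (1 : Γ(CohB1.ProjSpace 1 k, W)) • gW
      rw [one_smul, Finset.sum_smul]
      refine Eq.trans (Finset.sum_congr rfl fun l _ => ?_) hg
      rw [Scheme.Modules.Hom.app_smul, mul_smul]
      exact congrArg (c l • ·) (hr l)
    have h01 := congrArg χ hone
    rw [map_sum, map_one, Finset.sum_eq_zero fun l _ => by rw [map_mul, hall l, zero_mul]] at h01
    exact zero_ne_one h01
  -- a function with this differential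
  let xv : Γ(X, V) →+* Γ(Spec (CommRingCat.of k), ⊤) := ((t ≫ f).appLE V ⊤ e₀).hom
  have hev : ∀ r : Γ(X, V), t.appLE _ ⊤ e₀ (f.app V r) = xv r := fun r => by
    show (f.app V ≫ t.appLE _ ⊤ e₀) r = _
    rw [Scheme.Hom.app_eq_appLE, Scheme.Hom.appLE_comp_appLE]
  let σ : Γ(Spec (CommRingCat.of k), ⊤) →+* Γ(X, V) := (q.appLE ⊤ V le_top).hom
  have hσ : ∀ a, xv (σ a) = a := fun a => by
    show (q.appLE ⊤ V le_top ≫ (t ≫ f).appLE V ⊤ e₀) a = a
    rw [Scheme.Hom.appLE_comp_appLE]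
    have key : ∀ (g : Spec (CommRingCat.of k) ⟶ Spec (CommRingCat.of k)) (e : ⊤ ≤ g ⁻¹ᵁ ⊤), g = 𝟙 _ →
        g.appLE ⊤ ⊤ e a = a := by
      rintro g e rfl
      simp [Scheme.Hom.appLE]
    exact key _ _ hxs
  have hdσ : ∀ a, OmegaSh.dSect q V (σ a) = 0 := fun a => OmAff.dSect_appLE q ⊤ V le_top a
  let co := (hfrV.equiv (le_refl V)).symm
  have hd : ∀ ω : Γ(Omega.sheaf q, V), ∃ s, xv s = 0 ∧ ∀ l, xv (co (OmegaSh.dSect q V s) l) = xv (co ω l) :=
    fun ω => by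
    have hω : ω ∈ Submodule.span Γ(X, V) (Set.range fun a => OmegaSh.dSect q V a) := by
      rw [DefLift.span_dSect q ⟨V, hV⟩]; trivial
    induction hω using Submodule.span_induction with
    | mem y hy =>
      obtain ⟨a, rfl⟩ := hy
      refine ⟨a + σ (-xv a), by rw [map_add, hσ, add_neg_cancel], fun l => ?_⟩
      rw [OmegaSh.dSect_add, hdσ, add_zero]
    | zero => exact ⟨0, map_zero _, fun l => by
        rw [show OmegaSh.dSect q V (0 : Γ(X, V)) = 0 by rw [← map_zero σ]; exact hdσ 0]⟩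
    | add y z _ _ hy hz =>
      obtain ⟨a, ha, ha'⟩ := hy
      obtain ⟨b, hb, hb'⟩ := hz
      refine ⟨a + b, by rw [map_add, ha, hb, add_zero], fun l => ?_⟩
      rw [OmegaSh.dSect_add, map_add, map_add, Pi.add_apply, Pi.add_apply, map_add, map_add, ha', hb']
    | smul r y _ hy =>
      obtain ⟨a, ha, ha'⟩ := hy
      refine ⟨σ (xv r) * a, by rw [map_mul, ha, mul_zero], fun l => ?_⟩
      rw [OmegaSh.dSect_mul, hdσ, smul_zero, add_zero, map_smul, map_smul, Pi.smul_apply, Pi.smul_apply,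
        smul_eq_mul, smul_eq_mul, map_mul, map_mul, hσ, ha']
  obtain ⟨s, hs0, hs⟩ := hd (∑ l, σ (χ (c l)) • frV l)
  have hcoord : ∀ l, xv (co (OmegaSh.dSect q V s) l) = χ (c l) := fun l => by
    rw [hs l, show co (∑ l, σ (χ (c l)) • frV l) = fun l => σ (χ (c l)) from
      (LinearEquiv.symm_apply_eq _).2 (Finset.sum_congr rfl fun i _ => by
        rw [Groth.Agent.QC.res_self])]
    exact hσ _
  have hds : (∑ l, co (OmegaSh.dSect q V s) l • frV l) = OmegaSh.dSect q V s := by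
    refine Eq.trans ?_ (LinearEquiv.apply_symm_apply (hfrV.equiv (le_refl V)) _)
    exact Finset.sum_congr rfl fun i _ => by rw [Groth.Agent.QC.res_self]
  refine ⟨⟨V, hV⟩, hxV, e₀, s, hs0, fun hs2 => hl₀ ?_, fun α => ?_⟩
  swap
  · rw [← hds, map_sum, map_sum]
    refine Eq.trans (Finset.sum_congr rfl fun l _ => ?_) (hform α)
    rw [Scheme.Modules.Hom.app_smul]
    show t.appLE _ ⊤ e₀ (f.app V (co (OmegaSh.dSect q V s) l) *
      (show Γ(CohB1.ProjSpace 1 k, f ⁻¹ᵁ V) from α.app V (frV l))) = _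
    rw [map_mul, hev, hcoord]
  -- a coordinate of the differential is a tangent vector
  let xs := t ≫ f
  have fr0 := hfrV.pullback xs
  have e₁ : ⊤ ≤ xs ⁻¹ᵁ V := e₀
  let adj₀ := Scheme.Modules.pullbackPushforwardAdjunction xs
  let g : Γ(RefHull.dual ((Scheme.Modules.pullback xs).obj (Omega.sheaf q)), ⊤) :=
    res _ e₁ (ResDesc.coord fr0 l₀)
  obtain ⟨b, hb⟩ := RefStalk.exists_hom g
  let β : Omega.sheaf q ⟶ (Scheme.Modules.pushforward xs).obj (Coh.structureModule (Spec (CommRingCat.of k))) :=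
    adj₀.unit.app (Omega.sheaf q) ≫ (Scheme.Modules.pushforward xs).map b
  have hβ : ∀ i, β.app V (frV i) = (if i = l₀ then 1 else 0 : Γ(Spec (CommRingCat.of k), xs ⁻¹ᵁ V)) := fun i => by
    refine RefStalk.germ_ext (G := Coh.structureModule (Spec (CommRingCat.of k))) fun y hy => ?_
    refine (RefHull.stalkMapₗ_germ b y hy ((adj₀.unit.app (Omega.sheaf q)).app V (frV i))).symm.trans ?_
    rw [hb y]
    refine (ResDesc.coord_germ fr0 l₀ i hy).trans ?_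
    split_ifs with h
    · refine Eq.trans ?_ (ResDesc.germ_smul_one hy (1 : Γ(Spec (CommRingCat.of k), xs ⁻¹ᵁ V)))
      rw [map_one, one_smul]
    · exact (map_zero _).symm
  obtain ⟨h, hh, hhα⟩ := HomTan.exists_isLift (X := Spec (CommRingCat.of k))
    (hxs : xs ≫ q = (Spec (CommRingCat.of k)) ↘ Spec (CommRingCat.of k)) β
  let S := Spec (CommRingCat.of k)
  have hz : h (sect k S (closedPoint k)) = xs (closedPoint k) := by
    rw [← Scheme.Hom.comp_apply, hh.res]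
  have hle' := HomTan.le_preimage_lift hh V
  have h0 := appLE_eq_zero_of_sq h hz hxV (((pr k S).preimage_mono e₁).trans hle') s hs2
  have hval := congrArg (resO _ ((pr k S).preimage_mono e₁)) (hhα ⟨V, hV⟩ s hle')
  rw [map_add, HomTan.pb_res (k := k) S e₁, HomTan.em_res (k := k) S e₁,
    show resO S e₁ (xs.app V s) = 0 from hs0, map_zero, zero_add] at hval
  have hval' : resO S e₁ (val q xs β V s) = 0 := by
    refine HomTan.em_injective (k := k) S ⊤ (hval.symm.trans ?_)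
    rw [HomTan.em_zero]
    refine Eq.trans ?_ h0
    exact ConcreteCategory.congr_hom (h.appLE_map hle' (homOfLE ((pr k S).preimage_mono e₁)).op) s
  have key : ∀ a : Fin m → Γ(X, V), xv (a l₀) = resO S e₁ (β.app V (∑ l, a l • frV l)) := fun a => by
    rw [map_sum, map_sum, Finset.sum_eq_single l₀]
    · rw [Scheme.Modules.Hom.app_smul, hβ, if_pos rfl]
      show _ = resO S e₁ (xs.app V (a l₀) * 1)
      rw [mul_one]
      rfl
    · intro l _ hl
      rw [Scheme.Modules.Hom.app_smul, hβ, if_neg hl]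
      show resO S e₁ (xs.app V _ * 0) = 0
      rw [mul_zero, map_zero]
    · exact fun h => absurd (Finset.mem_univ _) h
  rw [← hcoord l₀, key fun l => co (OmegaSh.dSect q V s) l, hds]
  exact hval'

/-- The global functions on the line are constant. -/
theorem appLE_top_eq [IsAlgClosed k] (t t' : Spec (CommRingCat.of k) ⟶ CohB1.ProjSpace 1 k)
    (ht : t ≫ CohB1.ProjSpace.toSpec 1 k = 𝟙 _) (ht' : t' ≫ CohB1.ProjSpace.toSpec 1 k = 𝟙 _)
    (a : Γ(CohB1.ProjSpace 1 k, ⊤)) : t.appLE ⊤ ⊤ le_top a = t'.appLE ⊤ ⊤ le_top a := by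
  haveI : AlgebraicGeometry.IsIntegral (CohB1.ProjSpace 1 k) := CurveP1.isIntegral k
  haveI := ProjMor.isProper_toSpec 1 k
  obtain ⟨c, rfl⟩ := (PerfPush.bijective_appTop_of_algClosed (CohB1.ProjSpace.toSpec 1 k)).2 a
  have key : ∀ (u : Spec (CommRingCat.of k) ⟶ CohB1.ProjSpace 1 k), u ≫ CohB1.ProjSpace.toSpec 1 k = 𝟙 _ →
      u.appLE ⊤ ⊤ le_top ((CohB1.ProjSpace.toSpec 1 k).appTop c) = c := fun u hu => by
    show ((CohB1.ProjSpace.toSpec 1 k).appTop ≫ u.appLE ⊤ ⊤ le_top) c = c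
    rw [show u.appLE ⊤ ⊤ le_top = u.appTop from Scheme.Hom.appLE_eq_app u, ← Scheme.Hom.comp_appTop, hu]
    rfl
  exact (key t ht).trans (key t' ht').symm

/-- A family of curves with two point evaluation injective on the cotangent directions of the first point makes
a curve very free. -/
theorem hh0_of_pair [IsAlgClosed k] {c₀ : Fin 2} (q : X ⟶ Spec (CommRingCat.of k)) [Smooth q] [IsSeparated q] {M : Scheme.{u}}
    (qM : M ⟶ Spec (CommRingCat.of k)) [IsSeparated qM] (m : Spec (CommRingCat.of k) ⟶ M) (hm : m ≫ qM = 𝟙 _)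
    (E : pullback (CohB1.ProjSpace.toSpec 1 k) qM ⟶ X)
    (hE : E ≫ q = pullback.fst (CohB1.ProjSpace.toSpec 1 k) qM ≫ CohB1.ProjSpace.toSpec 1 k)
    (i : CohB1.ProjSpace 1 k ⟶ pullback (CohB1.ProjSpace.toSpec 1 k) qM)
    (hi₁ : i ≫ pullback.fst _ _ = 𝟙 _) (hi₂ : i ≫ pullback.snd _ _ = CohB1.ProjSpace.toSpec 1 k ≫ m)
    (t t' : Spec (CommRingCat.of k) ⟶ CohB1.ProjSpace 1 k) (ht : t ≫ CohB1.ProjSpace.toSpec 1 k = 𝟙 _)
    (ht' : t' ≫ CohB1.ProjSpace.toSpec 1 k = 𝟙 _) (hne : t ≠ t') (h0 : ⊤ ≤ t ⁻¹ᵁ U k c₀) (h0' : ⊤ ≤ t' ⁻¹ᵁ U k c₀)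
    (ev : pullback (pullback.snd (CohB1.ProjSpace.toSpec 1 k) qM) (pullback.snd (CohB1.ProjSpace.toSpec 1 k) qM) ⟶
      pullback q q)
    (hev₁ : ev ≫ pullback.fst q q = pullback.fst _ _ ≫ E) (hev₂ : ev ≫ pullback.snd q q = pullback.snd _ _ ≫ E)
    (z : Spec (CommRingCat.of k) ⟶
      pullback (pullback.snd (CohB1.ProjSpace.toSpec 1 k) qM) (pullback.snd (CohB1.ProjSpace.toSpec 1 k) qM))
    (hz₁ : z ≫ pullback.fst _ _ = t ≫ i) (hz₂ : z ≫ pullback.snd _ _ = t' ≫ i)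
    (hinj : ∀ (V : (pullback q q).Opens) (hV : ev (z (closedPoint k)) ∈ V) (s : Γ(pullback q q, V)),
      (pullback q q).presheaf.germ V _ hV s ∈ maximalIdeal _ →
      (ev.stalkMap (z (closedPoint k))).hom ((pullback q q).presheaf.germ V _ hV s) ∈ maximalIdeal _ ^ 2 →
      ∀ (j : X ⟶ pullback q q), j ≫ pullback.fst q q = 𝟙 X → j ≫ pullback.snd q q = q ≫ t' ≫ i ≫ E →
      ∀ hx : (t ≫ i ≫ E) (closedPoint k) ∈ j ⁻¹ᵁ V,
        X.presheaf.germ (j ⁻¹ᵁ V) _ hx (j.app V s) ∈ maximalIdeal (X.presheaf.stalk ((t ≫ i ≫ E) (closedPoint k))) ^ 2) :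
    Subsingleton (Coh.HH (CohB1.ProjSpace 1 k) ((Scheme.Modules.pullback (i ≫ E)).obj (Omega.sheaf q)) 0) := by
  classical
  haveI := ProjMor.isProper_toSpec 1 k
  haveI := smooth_toSpec k
  let S := Spec (CommRingCat.of k)
  let P₁ := CohB1.ProjSpace 1 k
  let p := CohB1.ProjSpace.toSpec 1 k
  let pr₂ := pullback.snd p qM
  let g := i ≫ E
  have hg : g ≫ q = p := by rw [Category.assoc, hE, reassoc_of% hi₁]
  obtain ⟨n, d, ⟨ee⟩⟩ := exists_split_locFree (SGA6Ext.isFinLocFree_pullback g (AVOmega.isFinLocFree_omega q))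
  obtain ⟨w⟩ := PnHodge.nonempty_twist_zero_iso (n := 1) (A := k)
  suffices hd : ∀ l, d l < 0 by
    have h1 := (hh0_coprod_iff d 0 ee).2 fun l => by simpa using hd l
    exact CohQC.hh_subsingleton_of_iso
      (PicGrp.tensorModIso (Iso.refl _) w ≪≫ TMul.commIso _ _ ≪≫ TMul.leftUnitIso _) _ h1
  intro j
  by_contra hj
  push Not at hj
  have hxs : (t ≫ g) ≫ q = 𝟙 _ := by rw [Category.assoc, hg, ht]
  have hxs' : (t' ≫ g) ≫ q = 𝟙 _ := by rw [Category.assoc, hg, ht']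
  -- a pair of functions with the same differential on all deformations
  obtain ⟨V₁, hxV₁, e₁, s₁, hs₁, hns₁, V₂, hxV₂, e₂, s₂, hs₂, hpair⟩ :
      ∃ (V₁ : X.affineOpens) (hxV₁ : (t ≫ g) (closedPoint k) ∈ V₁.1) (e₁ : ⊤ ≤ t ⁻¹ᵁ (g ⁻¹ᵁ V₁.1))
        (s₁ : Γ(X, V₁.1)), (t ≫ g).appLE V₁.1 ⊤ e₁ s₁ = 0 ∧
        X.presheaf.germ V₁.1 _ hxV₁ s₁ ∉ maximalIdeal (X.presheaf.stalk ((t ≫ g) (closedPoint k))) ^ 2 ∧
        ∃ (V₂ : X.affineOpens) (_ : (t' ≫ g) (closedPoint k) ∈ V₂.1) (e₂ : ⊤ ≤ t' ⁻¹ᵁ (g ⁻¹ᵁ V₂.1))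
          (s₂ : Γ(X, V₂.1)), (t' ≫ g).appLE V₂.1 ⊤ e₂ s₂ = 0 ∧
          ∀ α : Omega.sheaf q ⟶ (Scheme.Modules.pushforward g).obj (Coh.structureModule P₁),
            t.appLE (g ⁻¹ᵁ V₁.1) ⊤ e₁ (α.app V₁.1 (OmegaSh.dSect q V₁.1 s₁)) =
              t'.appLE (g ⁻¹ᵁ V₂.1) ⊤ e₂ (α.app V₂.1 (OmegaSh.dSect q V₂.1 s₂)) := by
    rcases hj.eq_or_lt with hj0 | hjpos
    · obtain ⟨gen, hgen⟩ : ∃ gen : Γ(O k (d j), ⊤), TMul.IsGen gen := by
        rw [← hj0]
        refine ⟨w.inv.app ⊤ (1 : Γ(CohB1.ProjSpace 1 k, ⊤)), isGen_map_iso w.symm fun V hV => ?_⟩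
        have h1 : (fun c : Γ(CohB1.ProjSpace 1 k, V) => c • res (Coh.structureModule (CohB1.ProjSpace 1 k)) hV
            (show Γ(Coh.structureModule (CohB1.ProjSpace 1 k), ⊤) from (1 : Γ(CohB1.ProjSpace 1 k, ⊤)))) = id := by
          funext c
          show c * resO (CohB1.ProjSpace 1 k) hV 1 = c
          rw [map_one, mul_one]
        exact h1 ▸ Function.bijective_id
      obtain ⟨V₁, hxV₁, e₁, s₁, hs₁, hns₁, hform₁⟩ := exists_covector_at q g ee j t hxs hgen le_top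
      obtain ⟨V₂, hxV₂, e₂, s₂, hs₂, -, hform₂⟩ := exists_covector_at q g ee j t' hxs' hgen le_top
      exact ⟨V₁, hxV₁, e₁, s₁, hs₁, hns₁, V₂, hxV₂, e₂, s₂, hs₂, fun α =>
        (hform₁ α).trans ((appLE_top_eq t t' ht ht' _).trans (hform₂ α).symm)⟩
    · obtain ⟨G₀, gen, hG₀, hgen⟩ := TMul.exists_isGen (CohFinite.isInvertible_twist 1 k (d j)) (t (closedPoint k))
      obtain ⟨V₁, hxV₁, e₁, s₁, hs₁, hns₁, hform₁⟩ := exists_covector_at q g ee j t hxs hgen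
        (fun y _ => by
          obtain rfl : y = closedPoint k := Subsingleton.elim (α := PrimeSpectrum k) _ _
          exact hG₀)
      obtain ⟨V₂, hV₂, hxV₂, -⟩ := exists_isAffineOpen_mem_and_subset (X := X) (x := (t' ≫ g) (closedPoint k))
        (U := ⊤) trivial
      have e₂ : ⊤ ≤ t' ⁻¹ᵁ (g ⁻¹ᵁ V₂) := fun y _ => by
        obtain rfl : y = closedPoint k := Subsingleton.elim (α := PrimeSpectrum k) _ _
        exact hxV₂
      refine ⟨V₁, hxV₁, e₁, s₁, hs₁, hns₁, ⟨V₂, hV₂⟩, hxV₂, e₂, 0, map_zero _, fun α => ?_⟩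
      rw [hform₁ α, hom_pos_eq_zero hjpos (_ ≫ _), show OmegaSh.dSect q V₂ (0 : Γ(X, V₂)) = 0 by
        rw [← map_zero (q.appLE ⊤ V₂ le_top).hom]; exact OmAff.dSect_appLE q ⊤ V₂ le_top 0, map_zero, map_zero]
      exact map_zero _
  -- the function on the product
  let xs := z ≫ ev
  have hx₁ : xs ≫ pullback.fst q q = t ≫ g := by
    show (z ≫ ev) ≫ _ = _
    rw [Category.assoc, hev₁, ← Category.assoc, hz₁, Category.assoc]
  have hx₂ : xs ≫ pullback.snd q q = t' ≫ g := by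
    show (z ≫ ev) ≫ _ = _
    rw [Category.assoc, hev₂, ← Category.assoc, hz₂, Category.assoc]
  let Va : (pullback q q).Opens := pullback.fst q q ⁻¹ᵁ V₁.1 ⊓ pullback.snd q q ⁻¹ᵁ V₂.1
  have hmem : ev (z (closedPoint k)) ∈ Va := by
    refine ⟨?_, ?_⟩
    · show (xs ≫ pullback.fst q q) (closedPoint k) ∈ V₁.1
      rw [hx₁]; exact hxV₁
    · show (xs ≫ pullback.snd q q) (closedPoint k) ∈ V₂.1
      rw [hx₂]; exact hxV₂
  have eVa : ⊤ ≤ xs ⁻¹ᵁ Va := fun y _ => by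
    obtain rfl : y = closedPoint k := Subsingleton.elim (α := PrimeSpectrum k) _ _
    exact hmem
  let sA : Γ(pullback q q, Va) := (pullback.fst q q).appLE V₁.1 Va inf_le_left s₁ -
    (pullback.snd q q).appLE V₂.1 Va inf_le_right s₂
  have eval : ∀ {T : Scheme.{u}} (φ : T ⟶ pullback q q) (W : T.Opens) (eW : W ≤ φ ⁻¹ᵁ Va),
      φ.appLE Va W eW sA =
        (φ ≫ pullback.fst q q).appLE V₁.1 W (eW.trans (φ.preimage_mono inf_le_left)) s₁ -
        (φ ≫ pullback.snd q q).appLE V₂.1 W (eW.trans (φ.preimage_mono inf_le_right)) s₂ := by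
    intro T φ W eW
    show φ.appLE Va W eW (_ - _) = _
    rw [map_sub]
    exact congrArg₂ (· - ·) (ConcreteCategory.congr_hom (Scheme.Hom.appLE_comp_appLE _ _ _ _ _ inf_le_left eW) s₁)
      (ConcreteCategory.congr_hom (Scheme.Hom.appLE_comp_appLE _ _ _ _ _ inf_le_right eW) s₂)
  have hsA : xs.appLE Va ⊤ eVa sA = 0 := by
    rw [eval xs ⊤ eVa, appLE_congr_apply hx₁ _ e₁, appLE_congr_apply hx₂ _ e₂, hs₁, hs₂, sub_zero]
  have hamem : (pullback q q).presheaf.germ Va _ hmem sA ∈ maximalIdeal _ :=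
    mem_maximal_of_appLE xs hmem eVa sA hsA
  have eS : ∀ {V : X.Opens} (f₀ : Xε k S ⟶ X), f₀ (sect k S (closedPoint k)) ∈ V → pr k S ⁻¹ᵁ ⊤ ≤ f₀ ⁻¹ᵁ V := by
    intro V f₀ h y _
    show f₀ y ∈ V
    rw [eq_sect y]; exact h
  -- it is not in the square
  let j : X ⟶ pullback q q := pullback.lift (𝟙 X) (q ≫ t' ≫ g) (by
    rw [Category.id_comp, Category.assoc, hxs', Category.comp_id])
  have hjx : (t ≫ g) ≫ j = xs := by
    apply pullback.hom_ext
    · rw [hx₁, Category.assoc, pullback.lift_fst, Category.comp_id]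
    · rw [hx₂, Category.assoc, pullback.lift_snd, ← Category.assoc, hxs, Category.id_comp]
  have hjmem : (t ≫ g) (closedPoint k) ∈ j ⁻¹ᵁ Va := by
    show ((t ≫ g) ≫ j) (closedPoint k) ∈ Va
    rw [hjx]; exact hmem
  have hna : X.presheaf.germ (j ⁻¹ᵁ Va) _ hjmem (j.app Va sA) ∉ maximalIdeal _ ^ 2 := fun hsq => by
    obtain ⟨β, hβ⟩ := exists_tangent q (t ≫ g) hxs V₁ hxV₁ s₁
      (mem_maximal_of_appLE (t ≫ g) hxV₁ e₁ s₁ hs₁) hns₁ e₁
    obtain ⟨h₀, hh₀, hh₀β⟩ := HomTan.exists_isLift (X := S) (show (t ≫ g) ≫ q = S ↘ S from hxs) β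
    let τX : Xε k S ⟶ pullback q q := pullback.lift h₀ (pr k S ≫ t' ≫ g) (by
      rw [hh₀.comp, Category.assoc, hxs']
      rfl)
    have hτXz : τX (sect k S (closedPoint k)) = ev (z (closedPoint k)) := by
      rw [← Scheme.Hom.comp_apply, ← Scheme.Hom.comp_apply]
      refine congrArg (fun φ : S ⟶ pullback q q => φ (closedPoint k)) ?_
      apply pullback.hom_ext
      · rw [Category.assoc, pullback.lift_fst, hh₀.res]
        exact hx₁.symm
      · rw [Category.assoc, pullback.lift_snd, ← Category.assoc, show sect k S ≫ pr k S = 𝟙 _ from ExpSeq.sect_fst _,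
          Category.id_comp]
        exact hx₂.symm
    have eW : pr k S ⁻¹ᵁ ⊤ ≤ τX ⁻¹ᵁ Va := fun y _ => by
      show τX y ∈ Va
      exact ((congrArg (fun w => τX w) (eq_sect y)).trans hτXz).symm ▸ hmem
    have hτj : h₀ ≫ j = τX := by
      apply pullback.hom_ext
      · rw [Category.assoc, pullback.lift_fst, Category.comp_id, pullback.lift_fst]
      · rw [Category.assoc, pullback.lift_snd, pullback.lift_snd, reassoc_of% hh₀.comp]
        rfl
    have hh₀z : h₀ (sect k S (closedPoint k)) = (t ≫ g) (closedPoint k) := by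
      rw [← Scheme.Hom.comp_apply]
      exact congrArg (fun φ : S ⟶ X => φ (closedPoint k)) hh₀.res
    have eWj : pr k S ⁻¹ᵁ ⊤ ≤ h₀ ⁻¹ᵁ (j ⁻¹ᵁ Va) := fun y hy => by
      show (h₀ ≫ j) y ∈ Va
      rw [hτj]; exact eW hy
    have h1 : τX.appLE Va (pr k S ⁻¹ᵁ ⊤) eW sA = 0 := by
      refine Eq.trans ?_ (appLE_eq_zero_of_sq h₀ hh₀z hjmem eWj (j.app Va sA) hsq)
      show _ = (j.app Va ≫ h₀.appLE _ _ eWj) sA
      rw [Scheme.Hom.app_eq_appLE, Scheme.Hom.appLE_comp_appLE]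
      exact (appLE_congr_apply hτj _ eW sA).symm
    have eh₀ : pr k S ⁻¹ᵁ ⊤ ≤ h₀ ⁻¹ᵁ V₁.1 := ((pr k S).preimage_mono e₁).trans (HomTan.le_preimage_lift hh₀ V₁.1)
    have ec : pr k S ⁻¹ᵁ ⊤ ≤ (pr k S ≫ t' ≫ g) ⁻¹ᵁ V₂.1 := (pr k S).preimage_mono e₂
    have h2 : (pr k S ≫ t' ≫ g).appLE V₂.1 _ ec s₂ = 0 := by
      refine Eq.trans ?_ ((congrArg (pb k S ⊤) hs₂).trans (map_zero _))
      show _ = ((t' ≫ g).appLE V₂.1 ⊤ e₂ ≫ (pr k S).app ⊤) s₂
      rw [Scheme.Hom.app_eq_appLE, Scheme.Hom.appLE_comp_appLE]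
    rw [eval τX _ eW, appLE_congr_apply (pullback.lift_fst _ _ _) _ eh₀,
      appLE_congr_apply (pullback.lift_snd _ _ _) _ ec, h2, sub_zero, appLE_of_isTan hh₀ hh₀β V₁ e₁ eh₀ s₁, hs₁,
      map_zero, zero_add] at h1
    exact hβ (HomTan.em_injective (k := k) S ⊤ (h1.trans (HomTan.em_zero _ ⊤).symm))
  refine hna (hinj Va hmem sA hamem ?_ j (pullback.lift_fst _ _ _) (pullback.lift_snd _ _ _) hjmem)
  by_contra hb
  -- a tangent vector of the family
  let qP : pullback pr₂ pr₂ ⟶ S := pullback.fst pr₂ pr₂ ≫ pr₂ ≫ qM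
  have hzq : z ≫ qP = 𝟙 _ := by
    show z ≫ pullback.fst pr₂ pr₂ ≫ pr₂ ≫ qM = _
    rw [← Category.assoc, hz₁, Category.assoc, ← Category.assoc i, hi₂, Category.assoc, hm, Category.comp_id, ht]
  haveI : IsSeparated pr₂ := MorphismProperty.pullback_snd _ _ inferInstance
  haveI : IsSeparated (pullback.fst pr₂ pr₂) := MorphismProperty.pullback_fst _ _ ‹IsSeparated pr₂›
  haveI : IsSeparated qP := inferInstanceAs (IsSeparated (_ ≫ _ ≫ _))
  obtain ⟨V', hV', hzV', hV'le⟩ := exists_isAffineOpen_mem_and_subset (X := pullback pr₂ pr₂)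
    (x := z (closedPoint k)) (U := ev ⁻¹ᵁ Va) hmem
  let r : Γ(pullback pr₂ pr₂, V') := ev.appLE Va V' hV'le sA
  have ez : ⊤ ≤ z ⁻¹ᵁ V' := fun y _ => by
    obtain rfl : y = closedPoint k := Subsingleton.elim (α := PrimeSpectrum k) _ _
    exact hzV'
  have hr0 : z.appLE V' ⊤ ez r = 0 := by
    refine Eq.trans ?_ hsA
    exact ConcreteCategory.congr_hom (Scheme.Hom.appLE_comp_appLE z ev Va V' ⊤ hV'le ez) sA
  have hr2 : (pullback pr₂ pr₂).presheaf.germ V' _ hzV' r ∉ maximalIdeal _ ^ 2 := fun h => hb (by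
    have h2 : ev.stalkMap (z (closedPoint k)) ((pullback q q).presheaf.germ Va _ hmem sA) =
        (pullback pr₂ pr₂).presheaf.germ V' _ hzV' r := by
      rw [Scheme.Hom.germ_stalkMap_apply]
      exact (TopCat.Presheaf.germ_res_apply _ (homOfLE hV'le) _ hzV' (ev.app Va sA)).symm
    show ev.stalkMap (z (closedPoint k)) _ ∈ _
    rw [h2]; exact h)
  obtain ⟨β, hβ⟩ := exists_tangent qP z hzq ⟨V', hV'⟩ hzV' r (mem_maximal_of_appLE z hzV' ez r hr0) hr2 ez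
  obtain ⟨τ, hτ, hτβ⟩ := HomTan.exists_isLift (X := S) (show z ≫ qP = S ↘ S from hzq) β
  -- it comes from a deformation of the curve
  let τ₁ : Xε k S ⟶ P₁ := τ ≫ pullback.fst pr₂ pr₂ ≫ pullback.fst p qM
  let τ₂ : Xε k S ⟶ P₁ := τ ≫ pullback.snd pr₂ pr₂ ≫ pullback.fst p qM
  let iε : Xε k S ⟶ Spec (CommRingCat.of (DualNumber k)) := pullback.snd _ _
  haveI : IsIso iε := by
    haveI : IsIso (S ↘ Spec (CommRingCat.of k)) := inferInstanceAs (IsIso (𝟙 _))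
    exact inferInstanceAs (IsIso (pullback.snd (S ↘ Spec (CommRingCat.of k)) (dnMap k)))
  have hτqM : τ ≫ pullback.fst pr₂ pr₂ ≫ pr₂ ≫ qM = pr k S ≫ (S ↘ Spec (CommRingCat.of k)) := hτ.comp
  have hl₁ : IsLift p t τ₁ := by
    refine ⟨?_, ?_⟩
    · simp only [τ₁, Category.assoc]
      rw [show pullback.fst p qM ≫ p = pr₂ ≫ qM from pullback.condition]
      exact hτqM
    · simp only [τ₁]
      rw [reassoc_of% hτ.res, reassoc_of% hz₁, hi₁, Category.comp_id]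
  have hl₂ : IsLift p t' τ₂ := by
    refine ⟨?_, ?_⟩
    · simp only [τ₂, Category.assoc]
      rw [show pullback.fst p qM ≫ p = pr₂ ≫ qM from pullback.condition,
        ← pullback.condition_assoc (f := pr₂) (g := pr₂)]
      exact hτqM
    · simp only [τ₂]
      rw [reassoc_of% hτ.res, reassoc_of% hz₂, hi₁, Category.comp_id]
  obtain ⟨ω⟩ := PnEuler.nonempty_omega_line (k := k)
  let eI : (Scheme.Modules.pullback (𝟙 P₁)).obj (Omega.sheaf p) ≅ ∐ fun _ : Fin 1 => O k (-2) :=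
    (Scheme.Modules.pullbackId _).app _ ≪≫ ω ≪≫ (coproductUniqueIso fun _ : Fin 1 => O k (-2)).symm
  obtain ⟨h₁, hh₁, hh₁t, hh₁t'⟩ := exists_lift_two (q := p) t ht t' ht' (𝟙 P₁) (Category.id_comp _) eI
    (fun _ => by norm_num) hne h0 h0' (h := τ₁) (h' := τ₂) (by rw [Category.comp_id]; exact hl₁)
    (by rw [Category.comp_id]; exact hl₂)
  let τd := inv iε ≫ τ ≫ pullback.fst pr₂ pr₂ ≫ pr₂
  have hτd : τd ≫ qM = dnMap k := by
    simp only [τd, Category.assoc]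
    rw [IsIso.inv_comp_eq, hτqM]
    exact pullback.condition
  let Φ : Xε k P₁ ⟶ pullback p qM := pullback.lift h₁ (pullback.snd _ _ ≫ τd) (by
    rw [Category.assoc, hτd, hh₁.comp]
    exact pullback.condition)
  have hsΦ : sect k P₁ ≫ Φ = i := by
    apply pullback.hom_ext
    · rw [Category.assoc, pullback.lift_fst, hi₁, hh₁.res]
    · rw [Category.assoc, pullback.lift_snd, hi₂]
      refine Eq.trans (pullback.lift_snd_assoc _ _ _ _) ?_
      refine (Category.assoc _ _ _).trans ?_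
      refine congrArg (p ≫ ·) ?_
      have hd : dnPoint k = sect k S ≫ iε := ((pullback.lift_snd _ _ _).trans (Category.id_comp _)).symm
      rw [hd, Category.assoc, IsIso.hom_inv_id_assoc, reassoc_of% hτ.res, reassoc_of% hz₁, hi₂, reassoc_of% ht]
  let H := Φ ≫ E
  have hH : IsLift q g H := by
    refine ⟨?_, ?_⟩
    · show (Φ ≫ E) ≫ q = _
      rw [Category.assoc, hE, pullback.lift_fst_assoc, hh₁.comp]
      rfl
    · show sect k P₁ ≫ Φ ≫ E = _
      rw [reassoc_of% hsΦ]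
  obtain ⟨α, hα⟩ := HomTan.exists_isTan (X := P₁) (hg : g ≫ q = P₁ ↘ Spec (CommRingCat.of k)) hH
  have hΦ : ∀ (u : S ⟶ P₁) (hu : u ≫ p = 𝟙 _),
      (mapε (X' := S) (X := P₁) u hu ≫ Φ) ≫ pr₂ = τ ≫ pullback.fst pr₂ pr₂ ≫ pr₂ := fun u hu => by
    rw [Category.assoc, pullback.lift_snd, ← Category.assoc]
    refine (congrArg (· ≫ τd) ((pullback.lift_snd _ _ _).trans (Category.comp_id _))).trans ?_
    exact IsIso.hom_inv_id_assoc iε _
  have hΦ₁ : mapε (X' := S) (X := P₁) t ht ≫ Φ = τ ≫ pullback.fst pr₂ pr₂ := by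
    apply pullback.hom_ext
    · rw [Category.assoc, pullback.lift_fst, hh₁t, Category.assoc]
    · rw [hΦ t ht, Category.assoc]
  have hΦ₂ : mapε (X' := S) (X := P₁) t' ht' ≫ Φ = τ ≫ pullback.snd pr₂ pr₂ := by
    apply pullback.hom_ext
    · rw [Category.assoc, pullback.lift_fst, hh₁t', Category.assoc]
    · rw [hΦ t' ht', Category.assoc]
      exact congrArg (τ ≫ ·) pullback.condition
  -- both values agree
  have hτH₁ : (τ ≫ ev) ≫ pullback.fst q q = mapε (X' := S) (X := P₁) t ht ≫ H := by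
    rw [Category.assoc, hev₁, ← Category.assoc, ← hΦ₁, Category.assoc]
  have hτH₂ : (τ ≫ ev) ≫ pullback.snd q q = mapε (X' := S) (X := P₁) t' ht' ≫ H := by
    rw [Category.assoc, hev₂, ← Category.assoc, ← hΦ₂, Category.assoc]
  have eτ : pr k S ⁻¹ᵁ ⊤ ≤ τ ⁻¹ᵁ V' := ((pr k S).preimage_mono ez).trans (HomTan.le_preimage_lift hτ V')
  have k1 := appLE_of_isTan hτ hτβ ⟨V', hV'⟩ ez eτ r
  rw [hr0, map_zero, zero_add] at k1
  have eτVa : pr k S ⁻¹ᵁ ⊤ ≤ (τ ≫ ev) ⁻¹ᵁ Va := eτ.trans (τ.preimage_mono hV'le)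
  have k2 : τ.appLE V' _ eτ r = (τ ≫ ev).appLE Va _ eτVa sA :=
    ConcreteCategory.congr_hom (Scheme.Hom.appLE_comp_appLE τ ev Va V' _ hV'le eτ) sA
  have eH₁ : pr k S ⁻¹ᵁ ⊤ ≤ (mapε (X' := S) (X := P₁) t ht ≫ H) ⁻¹ᵁ V₁.1 :=
    hτH₁ ▸ eτVa.trans ((τ ≫ ev).preimage_mono inf_le_left)
  have eH₂ : pr k S ⁻¹ᵁ ⊤ ≤ (mapε (X' := S) (X := P₁) t' ht' ≫ H) ⁻¹ᵁ V₂.1 :=
    hτH₂ ▸ eτVa.trans ((τ ≫ ev).preimage_mono inf_le_right)
  have hgapp : ∀ (u : S ⟶ P₁) (V : X.Opens) (eu : ⊤ ≤ u ⁻¹ᵁ (g ⁻¹ᵁ V)) (s : Γ(X, V)),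
      u.appLE (g ⁻¹ᵁ V) ⊤ eu (g.app V s) = (u ≫ g).appLE V ⊤ eu s := fun u V eu s => by
    show (g.app V ≫ u.appLE _ ⊤ eu) s = _
    rw [Scheme.Hom.app_eq_appLE, Scheme.Hom.appLE_comp_appLE]
  rw [k2, eval (τ ≫ ev) _ eτVa, appLE_congr_apply hτH₁ _ eH₁, appLE_congr_apply hτH₂ _ eH₂,
    appLE_mapε_comp ht hH hα V₁ e₁ eH₁ s₁, appLE_mapε_comp ht' hH hα V₂ e₂ eH₂ s₂, hgapp, hgapp, hs₁, hs₂,
    map_zero, zero_add, zero_add, show val q g α V₁.1 s₁ = α.app V₁.1 (OmegaSh.dSect q V₁.1 s₁) from rfl,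
    show val q g α V₂.1 s₂ = α.app V₂.1 (OmegaSh.dSect q V₂.1 s₂) from rfl, hpair α, sub_self] at k1
  exact hβ (HomTan.em_injective (k := k) S ⊤ (k1.symm.trans (HomTan.em_zero _ ⊤).symm))

/-- A family of curves with two point evaluation injective on cotangent spaces at two points of a curve makes it
very free. -/
theorem hh0_of_cotangent₂ [IsAlgClosed k] {c₀ : Fin 2} (q : X ⟶ Spec (CommRingCat.of k)) [Smooth q] [IsSeparated q] {M : Scheme.{u}}
    (qM : M ⟶ Spec (CommRingCat.of k)) [IsSeparated qM] (m : Spec (CommRingCat.of k) ⟶ M) (hm : m ≫ qM = 𝟙 _)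
    (E : pullback (CohB1.ProjSpace.toSpec 1 k) qM ⟶ X)
    (hE : E ≫ q = pullback.fst (CohB1.ProjSpace.toSpec 1 k) qM ≫ CohB1.ProjSpace.toSpec 1 k)
    (i : CohB1.ProjSpace 1 k ⟶ pullback (CohB1.ProjSpace.toSpec 1 k) qM)
    (hi₁ : i ≫ pullback.fst _ _ = 𝟙 _) (hi₂ : i ≫ pullback.snd _ _ = CohB1.ProjSpace.toSpec 1 k ≫ m)
    (t t' : Spec (CommRingCat.of k) ⟶ CohB1.ProjSpace 1 k) (ht : t ≫ CohB1.ProjSpace.toSpec 1 k = 𝟙 _)
    (ht' : t' ≫ CohB1.ProjSpace.toSpec 1 k = 𝟙 _) (hne : t ≠ t') (h0 : ⊤ ≤ t ⁻¹ᵁ U k c₀) (h0' : ⊤ ≤ t' ⁻¹ᵁ U k c₀)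
    (ev : pullback (pullback.snd (CohB1.ProjSpace.toSpec 1 k) qM) (pullback.snd (CohB1.ProjSpace.toSpec 1 k) qM) ⟶
      pullback q q)
    (hev₁ : ev ≫ pullback.fst q q = pullback.fst _ _ ≫ E) (hev₂ : ev ≫ pullback.snd q q = pullback.snd _ _ ≫ E)
    (z : Spec (CommRingCat.of k) ⟶
      pullback (pullback.snd (CohB1.ProjSpace.toSpec 1 k) qM) (pullback.snd (CohB1.ProjSpace.toSpec 1 k) qM))
    (hz₁ : z ≫ pullback.fst _ _ = t ≫ i) (hz₂ : z ≫ pullback.snd _ _ = t' ≫ i)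
    (hinj : ∀ a ∈ maximalIdeal ((pullback q q).presheaf.stalk (ev (z (closedPoint k)))),
      (ev.stalkMap (z (closedPoint k))).hom a ∈ maximalIdeal _ ^ 2 → a ∈ maximalIdeal _ ^ 2) :
    Subsingleton (Coh.HH (CohB1.ProjSpace 1 k) ((Scheme.Modules.pullback (i ≫ E)).obj (Omega.sheaf q)) 0) := by
  refine hh0_of_pair q qM m hm E hE i hi₁ hi₂ t t' ht ht' hne h0 h0' ev hev₁ hev₂ z hz₁ hz₂
    fun V hV s h1 h2 j hj₁ hj₂ hx => ?_
  have h3 := hinj _ h1 h2
  have hj : j ((t ≫ i ≫ E) (closedPoint k)) = ev (z (closedPoint k)) := by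
    rw [← Scheme.Hom.comp_apply, ← Scheme.Hom.comp_apply]
    refine congrArg (fun φ : Spec (CommRingCat.of k) ⟶ pullback q q => φ (closedPoint k)) ?_
    apply pullback.hom_ext
    · rw [Category.assoc, hj₁, Category.comp_id, Category.assoc, hev₁, reassoc_of% hz₁]
    · rw [Category.assoc, hj₂, Category.assoc z, hev₂, reassoc_of% hz₂, Category.assoc, Category.assoc,
        reassoc_of% hE, reassoc_of% hi₁, reassoc_of% ht]
  have key : ∀ y (_ : y = ev (z (closedPoint k))) (hy : y ∈ V),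
      (pullback q q).presheaf.germ V y hy s ∈ maximalIdeal _ ^ 2 := by
    rintro y rfl _; exact h3
  rw [← Scheme.Hom.germ_stalkMap_apply j V _ hx]
  have h4 := Ideal.mem_map_of_mem (j.stalkMap ((t ≫ i ≫ E) (closedPoint k))).hom (key _ hj hx)
  rw [Ideal.map_pow] at h4
  refine Ideal.pow_right_mono (Ideal.map_le_iff_le_comap.2 fun a ha => ?_) 2 h4
  rw [Ideal.mem_comap, IsLocalRing.mem_maximalIdeal]
  rw [IsLocalRing.mem_maximalIdeal] at ha
  exact fun hu => ha (isUnit_of_map_unit (j.stalkMap _).hom a hu)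

end Groth.Agent.FreeCurve
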