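import Groth.Agent.FreeCurve.BadLocus
import Groth.Agent.FreeCurve.VFree
import Groth.Agent.S1582
import Mathlib

/-!
# In characteristic zero the curves through a fixed point which are not very free sweep out thin sets
-/

set_option autoImplicit false
set_option linter.style.haveILetI false
set_option backward.isDefEq.respectTransparency false
set_option backward.isDefEq.respectTransparency.types false
set_option synthInstance.maxHeartbeats 400000
set_option maxHeartbeats 1000000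

universe u

open CategoryTheory CategoryTheory.Limits AlgebraicGeometry TopologicalSpace
open IsLocalRing (closedPoint maximalIdeal)

noncomputable section

namespace Groth.Agent.FreeCurve

open Groth.Agent.P1Split (U)

/-- A proper morphism pulls back countable covers. -/
theorem HasCountCover.of_quasiCompact {P M : Scheme.{u}} (h : HasCountCover M) (f : P ⟶ M) [QuasiCompact f] :
    HasCountCover P := by
  obtain ⟨κ, hκ, W, hW, hsup⟩ := h
  refine ⟨κ, hκ, fun a => f ⁻¹ᵁ W a, fun a => f.isCompact_preimage (hW a), ?_⟩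
  rw [← Scheme.Hom.preimage_iSup, hsup]
  rfl

variable {k : Type u} [Field k] {X : Scheme.{u}}

/-- A morphism from a reduced scheme to a rational point. -/
theorem eq_of_range_subset_rational {q : X ⟶ Spec (CommRingCat.of k)} [IsSeparated q]
    (a : Spec (CommRingCat.of k) ⟶ X) (ha : a ≫ q = 𝟙 _) {Y : Scheme.{u}} [IsReduced Y] (y : Y ⟶ X)
    (h : ∀ w, y w = a (closedPoint k)) : y = (y ≫ q) ≫ a := by
  haveI : IsClosedImmersion (a ≫ q) := by rw [ha]; infer_instance
  haveI : IsClosedImmersion a := IsClosedImmersion.of_comp a q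
  let s := pullback.snd a y
  haveI : IsClosedImmersion s := MorphismProperty.pullback_snd _ _ inferInstance
  haveI : Surjective s := ⟨fun z => by
    obtain ⟨w, -, hw⟩ := Scheme.Pullback.exists_preimage_pullback (f := a) (g := y) (closedPoint k) z (h z).symm
    exact ⟨w, hw⟩⟩
  haveI : IsIso s := isIso_of_isClosedImmersion_of_surjective s
  have h1 : y = (inv s ≫ pullback.fst a y) ≫ a := by
    rw [Category.assoc, pullback.condition, IsIso.inv_hom_id_assoc]
  have h2 : y ≫ q = inv s ≫ pullback.fst a y := by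
    refine (congrArg (· ≫ q) h1).trans ?_
    rw [Category.assoc, ha, Category.comp_id]
  rw [h2]
  exact h1

theorem germ_app_congr {A C : Scheme.{u}} {h h' : A ⟶ C} (e : h = h') (a : A) {V : C.Opens} (s : Γ(C, V))
    (hm : a ∈ h ⁻¹ᵁ V) (hm' : a ∈ h' ⁻¹ᵁ V) (n : ℕ)
    (hs : A.presheaf.germ (h ⁻¹ᵁ V) a hm (h.app V s) ∈ maximalIdeal (A.presheaf.stalk a) ^ n) :
    A.presheaf.germ (h' ⁻¹ᵁ V) a hm' (h'.app V s) ∈ maximalIdeal (A.presheaf.stalk a) ^ n := by
  subst e
  exact hs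

theorem germ_comp_mem_pow {A B C : Scheme.{u}} (f : A ⟶ B) (g : B ⟶ C) (a : A) {b : B} (hb : f a = b) {V : C.Opens}
    (s : Γ(C, V)) (hV : g b ∈ V) (hm : a ∈ (f ≫ g) ⁻¹ᵁ V) (n : ℕ)
    (hs : (g.stalkMap b).hom (C.presheaf.germ V _ hV s) ∈ maximalIdeal (B.presheaf.stalk b) ^ n) :
    A.presheaf.germ ((f ≫ g) ⁻¹ᵁ V) a hm ((f ≫ g).app V s) ∈ maximalIdeal (A.presheaf.stalk a) ^ n := by
  subst hb
  have h := Ideal.mem_map_of_mem (f.stalkMap a).hom hs
  rw [Ideal.map_pow] at h
  have hle : (maximalIdeal (B.presheaf.stalk (f a))).map (f.stalkMap a).hom ≤ maximalIdeal (A.presheaf.stalk a) :=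
    Ideal.map_le_iff_le_comap.2 fun x hx => by
      rw [Ideal.mem_comap, IsLocalRing.mem_maximalIdeal]
      rw [IsLocalRing.mem_maximalIdeal] at hx
      exact fun hu => hx (isUnit_of_map_unit (f.stalkMap a).hom x hu)
  have h2 := Ideal.pow_right_mono hle n h
  refine Eq.subst (motive := fun r => r ∈ maximalIdeal (A.presheaf.stalk a) ^ n) ?_ h2
  show (f.stalkMap a).hom ((g.stalkMap (f a)).hom (C.presheaf.germ V _ hV s)) = _
  rw [Scheme.Hom.germ_stalkMap_apply, Scheme.Hom.germ_stalkMap_apply]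
  rfl

/-- A dominant family stays dominant on a nonempty open of an irreducible base. -/
theorem isDominant_pull_open {q : X ⟶ Spec (CommRingCat.of k)} {M : Over (Spec (CommRingCat.of k))}
    [IrreducibleSpace M.left] (v : MorSch.Obj (CohB1.ProjSpace.toSpec 1 k) q M) [IsDominant v.1]
    {O : Over (Spec (CommRingCat.of k))} (g : O ⟶ M) [IsOpenImmersion g.left] [Nonempty O.left] :
    IsDominant (MorSch.pull (CohB1.ProjSpace.toSpec 1 k) q g v).1 := by
  haveI := smooth_toSpec k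
  let p := CohB1.ProjSpace.toSpec 1 k
  let pr := PicF.XTproj p M
  haveI : Smooth pr := MorphismProperty.pullback_snd _ _ ‹Smooth p›
  refine ⟨dense_iff_inter_open.2 fun V hV hVne => ?_⟩
  obtain ⟨x, hxV, ⟨w, rfl⟩⟩ := v.1.denseRange.inter_open_nonempty _ hV hVne
  obtain ⟨_, ⟨w', hw', rfl⟩, ⟨o, ho⟩⟩ := nonempty_preirreducible_inter
    (pr.isOpenMap _ (hV.preimage v.1.continuous)) g.left.isOpenEmbedding.isOpen_range
    ⟨_, w, hxV, rfl⟩ (Set.range_nonempty _)
  obtain ⟨z, hz, -⟩ := Scheme.exists_preimage_of_isPullback (S17082.isPullback_XTmap p g) w' o ho.symm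
  refine ⟨_, ?_, ⟨z, rfl⟩⟩
  show v.1 (PicF.XTmap p g z) ∈ V
  rw [hz]; exact hw'

/-- A dominant family of curves through a fixed point, along a chart, contains a very free one. -/
theorem exists_vfree_through [IsAlgClosed k] [CharZero k] [IsIntegral X] (q : X ⟶ Spec (CommRingCat.of k))
    [Smooth q] [IsSeparated q] (M : Over (Spec (CommRingCat.of k))) [IsIntegral M.left] [IsAffine M.left]
    [Smooth M.hom] (v : MorSch.Obj (CohB1.ProjSpace.toSpec 1 k) q M) [IsDominant v.1]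
    (σ : M.left ⟶ CohB1.ProjSpace 1 k) (hσ : σ ≫ CohB1.ProjSpace.toSpec 1 k = M.hom) (c₀ : Fin 2)
    (hσc : ∀ m, σ m ∈ U k c₀) (xs : Spec (CommRingCat.of k) ⟶ X)
    (hfix : pullback.lift σ (𝟙 M.left) (hσ.trans (Category.id_comp _).symm) ≫ v.1 = M.hom ≫ xs) :
    ∃ (mp : Spec (CommRingCat.of k) ⟶ M.left) (hmp : mp ≫ M.hom = 𝟙 _),
      Subsingleton (Coh.HH (CohB1.ProjSpace 1 k)
        ((Scheme.Modules.pullback (curveAt v mp hmp)).obj (Omega.sheaf q)) 0) := by
  classical
  haveI := ProjMor.isProper_toSpec 1 k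
  haveI := smooth_toSpec k
  let p := CohB1.ProjSpace.toSpec 1 k
  haveI : IsIntegral (CohB1.ProjSpace 1 k) := Groth.Agent.CurveP1.isIntegral k
  haveI : IsIntegral (PicF.XT p M) := Groth.Agent.S1582.result k _ _ p M.hom
  let pr := PicF.XTproj p M
  haveI : IsSeparated pr := MorphismProperty.pullback_snd _ _ inferInstance
  haveI : Smooth pr := MorphismProperty.pullback_snd _ _ ‹Smooth p›
  haveI : IsProper pr := MorphismProperty.pullback_snd _ _ inferInstance
  let s₁ : M.left ⟶ PicF.XT p M := pullback.lift σ (𝟙 M.left) (hσ.trans (Category.id_comp _).symm)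
  have hs₁ : s₁ ≫ pr = 𝟙 _ := pullback.lift_snd _ _ _
  haveI : IsClosedImmersion (s₁ ≫ pr) := by rw [hs₁]; infer_instance
  haveI : IsClosedImmersion s₁ := IsClosedImmersion.of_comp s₁ pr
  haveI : CompactSpace ↥(PicF.XT p M) := QuasiCompact.compactSpace_of_compactSpace pr
  haveI : QuasiSeparatedSpace X := quasiSeparatedSpace_of_quasiSeparated q
  haveI : QuasiCompact v.1 := quasiCompact_of_compactSpace v.1
  let hW := v.1 ≫ q
  have hWeq : hW = pr ≫ M.hom := v.2.trans pullback.condition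
  haveI : Smooth hW := by rw [hWeq]; infer_instance
  obtain ⟨V, hV, hVsm⟩ := GrpAct.exists_smooth_restrict hW q v.1 rfl
  let D : (PicF.XT p M).Opens := ⟨(Set.range s₁)ᶜ, s₁.isClosedEmbedding.isClosed_range.isOpen_compl⟩
  haveI : JacobsonSpace ↥M.left := LocallyOfFiniteType.jacobsonSpace M.hom
  obtain ⟨m₀, -, hm₀⟩ := nonempty_inter_closedPoints (X := M.left) (Z := Set.univ) Set.univ_nonempty
    isClosed_univ.isLocallyClosed
  obtain ⟨⟨mp₀, hmp₀⟩, hmp₀m⟩ : ∃ z₀ : {z : Spec (CommRingCat.of k) ⟶ M.left // z ≫ M.hom = 𝟙 _},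
      z₀.1 (closedPoint k) = m₀ :=
    ⟨_, congrArg Subtype.val ((pointEquivClosedPoint M.hom).apply_symm_apply ⟨m₀, hm₀⟩)⟩
  have hDne : (D : Set ↥(PicF.XT p M)).Nonempty := by
    obtain ⟨t, t', ht, ht', hne, -, -⟩ := exists_two_points_chart (k := k)
    by_contra hD
    have hall : ∀ z, z ∈ Set.range s₁ := fun z => by
      by_contra h; exact hD ⟨z, h⟩
    let a := fun (u : Spec (CommRingCat.of k) ⟶ CohB1.ProjSpace 1 k) (hu : u ≫ p = 𝟙 _) =>
      (pullback.lift u mp₀ (hu.trans hmp₀.symm) : Spec (CommRingCat.of k) ⟶ PicF.XT p M)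
    have key : ∀ u hu, u = mp₀ ≫ σ := fun u hu => by
      obtain ⟨m, hm⟩ := hall (a u hu (closedPoint k))
      have hm' : m = mp₀ (closedPoint k) := by
        have h1 := congrArg pr hm
        rw [← Scheme.Hom.comp_apply, ← Scheme.Hom.comp_apply, hs₁, pullback.lift_snd] at h1
        exact h1
      refine ext_of_apply_closedPoint_eq p hu (by rw [Category.assoc, hσ, hmp₀]) ?_
      have h2 := congrArg (pullback.fst p M.hom) hm
      rw [← Scheme.Hom.comp_apply, ← Scheme.Hom.comp_apply, pullback.lift_fst, pullback.lift_fst, hm'] at h2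
      exact h2.symm
    exact hne ((key t ht).trans (key t' ht').symm)
  have hVne : ((v.1 ⁻¹ᵁ V : Opens _) : Set ↥(PicF.XT p M)).Nonempty := by
    obtain ⟨x, hxV, ⟨w, rfl⟩⟩ := v.1.denseRange.inter_open_nonempty _ V.2 hV
    exact ⟨w, hxV⟩
  let C : (PicF.XT p M).Opens := pullback.fst p M.hom ⁻¹ᵁ U k c₀
  have hCne : (C : Set ↥(PicF.XT p M)).Nonempty := ⟨s₁ m₀, by
    show (s₁ ≫ pullback.fst p M.hom) m₀ ∈ U k c₀
    rw [pullback.lift_fst]; exact hσc m₀⟩
  let W : (PicF.XT p M).Opens := (v.1 ⁻¹ᵁ V ⊓ D) ⊓ C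
  have hWne : (W : Set ↥(PicF.XT p M)).Nonempty := nonempty_preirreducible_inter (v.1 ⁻¹ᵁ V ⊓ D).2 C.2
    (nonempty_preirreducible_inter (v.1 ⁻¹ᵁ V).2 D.2 hVne hDne) hCne
  let qP := pr ≫ M.hom
  haveI : Smooth qP := inferInstanceAs (Smooth (pr ≫ M.hom))
  haveI : JacobsonSpace ↥(PicF.XT p M) := LocallyOfFiniteType.jacobsonSpace qP
  obtain ⟨y, hy, hyc⟩ := nonempty_inter_closedPoints (X := (PicF.XT p M : Scheme.{u})) (Z := (W : Set _))
    hWne W.2.isLocallyClosed
  obtain ⟨⟨z, hz⟩, hzy⟩ : ∃ z₀ : {z : Spec (CommRingCat.of k) ⟶ PicF.XT p M // z ≫ qP = 𝟙 _},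
      z₀.1 (closedPoint k) = y :=
    ⟨_, congrArg Subtype.val ((pointEquivClosedPoint qP).apply_symm_apply ⟨y, hyc⟩)⟩
  subst hzy
  haveI : IsLocallyNoetherian X := LocallyOfFiniteType.isLocallyNoetherian q
  haveI : LocallyOfFiniteType (v.1 ≫ q) := inferInstanceAs (LocallyOfFiniteType hW)
  haveI : LocallyOfFiniteType v.1 := locallyOfFiniteType_of_comp v.1 q
  haveI : LocallyOfFinitePresentation v.1 := LocallyOfFinitePresentation.iff_locallyOfFiniteType.2 inferInstance
  haveI : Smooth ((v.1 ⁻¹ᵁ V).ι ≫ v.1) := by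
    haveI := hVsm
    rw [show (v.1 ⁻¹ᵁ V).ι ≫ v.1 = (v.1 ∣_ V) ≫ V.ι from (morphismRestrict_ι _ _).symm]
    infer_instance
  have hcot := (SmDiff.cotangentMapAt_injective_iff v.1 _).1
    ((SmDiff.formallySmooth_stalkMap_iff_injective qP q v.1 hWeq hyc).1
      (Scheme.Hom.mem_smoothLocus.1 (SmDesc.mem_smoothLocus_of_smooth_ι v.1 (U := v.1 ⁻¹ᵁ V) hy.1.1)))
  let t := z ≫ pullback.fst p M.hom
  let mp := z ≫ pr
  have ht : t ≫ p = 𝟙 _ := by rw [Category.assoc, pullback.condition]; exact hz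
  have hmp : mp ≫ M.hom = 𝟙 _ := (Category.assoc _ _ _).trans hz
  let t' := mp ≫ σ
  have ht' : t' ≫ p = 𝟙 _ := by rw [Category.assoc, hσ]; exact hmp
  let i : CohB1.ProjSpace 1 k ⟶ PicF.XT p M :=
    pullback.lift (𝟙 _) (p ≫ mp) (by rw [Category.id_comp, Category.assoc, hmp, Category.comp_id])
  have hti : t ≫ i = z := by
    apply pullback.hom_ext
    · rw [Category.assoc, pullback.lift_fst, Category.comp_id]
    · rw [Category.assoc, pullback.lift_snd, reassoc_of% ht]
  have ht'i : t' ≫ i = mp ≫ s₁ := by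
    apply pullback.hom_ext
    · rw [Category.assoc, pullback.lift_fst, Category.comp_id, Category.assoc, pullback.lift_fst]
    · rw [Category.assoc, pullback.lift_snd, reassoc_of% ht', Category.assoc, pullback.lift_snd, Category.comp_id]
  have hne : t ≠ t' := fun h => hy.1.2 ⟨mp (closedPoint k), by
    rw [← Scheme.Hom.comp_apply, ← ht'i, ← h, hti]⟩
  have hchart : ∀ u : Spec (CommRingCat.of k) ⟶ CohB1.ProjSpace 1 k, u (closedPoint k) ∈ U k c₀ → ⊤ ≤ u ⁻¹ᵁ U k c₀ :=
    fun u hu y _ => by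
      obtain rfl : y = closedPoint k := Subsingleton.elim (α := PrimeSpectrum k) _ _
      exact hu
  let ev : pullback pr pr ⟶ pullback q q := pullback.lift (pullback.fst pr pr ≫ v.1) (pullback.snd pr pr ≫ v.1) (by
    rw [Category.assoc, Category.assoc]
    show _ ≫ hW = _ ≫ hW
    rw [hWeq, pullback.condition_assoc])
  let z₂ : Spec (CommRingCat.of k) ⟶ pullback pr pr := pullback.lift z (mp ≫ s₁) (by
    rw [Category.assoc, hs₁, Category.comp_id])
  let Λ : PicF.XT p M ⟶ pullback pr pr := pullback.lift (𝟙 _) (pr ≫ s₁) (by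
    rw [Category.id_comp, Category.assoc, hs₁, Category.comp_id])
  have hΛz : z ≫ Λ = z₂ := by
    apply pullback.hom_ext
    · rw [Category.assoc, pullback.lift_fst, Category.comp_id, pullback.lift_fst]
    · rw [Category.assoc, pullback.lift_snd, pullback.lift_snd]
      exact (Category.assoc _ _ _).symm
  haveI : IsSeparated M.hom := inferInstance
  refine ⟨mp, hmp, hh0_of_pair q M.hom mp hmp v.1 v.2 i (pullback.lift_fst _ _ _) (pullback.lift_snd _ _ _) t t' ht ht'
    hne (hchart t hy.2) (hchart t' (hσc _)) ev (pullback.lift_fst _ _ _) (pullback.lift_snd _ _ _) z₂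
    (by rw [pullback.lift_fst]; exact hti.symm) (by rw [pullback.lift_snd]; exact ht'i.symm)
    fun Va hVa sa _ h2 j hj₁ hj₂ hx => ?_⟩
  have hφ : Λ ≫ ev = v.1 ≫ j := by
    apply pullback.hom_ext
    · rw [Category.assoc, Category.assoc, hj₁, Category.comp_id, pullback.lift_fst, pullback.lift_fst_assoc,
        Category.id_comp]
    · rw [Category.assoc, Category.assoc, hj₂, pullback.lift_snd, pullback.lift_snd_assoc,
        show t' ≫ i ≫ v.1 = xs from by
          rw [← Category.assoc, ht'i, Category.assoc, hfix, reassoc_of% hmp],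
        ← Category.assoc v.1 q xs, show v.1 ≫ q = pr ≫ M.hom from hWeq, Category.assoc, Category.assoc]
      exact congrArg (pr ≫ ·) hfix
  have hΛp : Λ (z (closedPoint k)) = z₂ (closedPoint k) := by rw [← Scheme.Hom.comp_apply, hΛz]
  have hmA : z (closedPoint k) ∈ (Λ ≫ ev) ⁻¹ᵁ Va := by
    show (Λ ≫ ev) (z (closedPoint k)) ∈ Va
    rw [Scheme.Hom.comp_apply, hΛp]; exact hVa
  have hmB : z (closedPoint k) ∈ (v.1 ≫ j) ⁻¹ᵁ Va := hφ ▸ hmA
  have h5 := germ_app_congr hφ _ sa hmA hmB 2 (germ_comp_mem_pow Λ ev _ hΛp sa hVa hmA 2 h2)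
  have key : ∀ yx (_ : yx = v.1 (z (closedPoint k))) (hyx : yx ∈ j ⁻¹ᵁ Va),
      X.presheaf.germ (j ⁻¹ᵁ Va) yx hyx (j.app Va sa) ∈ maximalIdeal (X.presheaf.stalk yx) ^ 2 := by
    rintro yx rfl hyx
    have h6 : v.1.stalkMap (z (closedPoint k)) (X.presheaf.germ (j ⁻¹ᵁ Va) _ hyx (j.app Va sa)) ∈
        maximalIdeal _ ^ 2 := by
      rw [Scheme.Hom.germ_stalkMap_apply]
      exact h5
    refine hcot _ ?_ h6
    rw [IsLocalRing.mem_maximalIdeal]
    exact fun hu => (IsLocalRing.mem_maximalIdeal _).1 (Ideal.pow_le_self two_ne_zero h6)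
      (hu.map (v.1.stalkMap (z (closedPoint k))).hom)
  refine key _ ?_ hx
  rw [← Category.assoc, hti, Scheme.Hom.comp_apply]

/-- In characteristic zero, families of curves through a point none of which is very free sweep out thin sets. -/
theorem not_dense_of_through [IsAlgClosed k] [CharZero k] [IsIntegral X] (q : X ⟶ Spec (CommRingCat.of k))
    [Smooth q] [IsSeparated q] {M : Over (Spec (CommRingCat.of k))} [LocallyOfFiniteType M.hom]
    (v : MorSch.Obj (CohB1.ProjSpace.toSpec 1 k) q M) (A : M.left.Opens)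
    (hA : ∀ (mp : Spec (CommRingCat.of k) ⟶ M.left) (hmp : mp ≫ M.hom = 𝟙 _),
      Subsingleton (Coh.HH (CohB1.ProjSpace 1 k)
        ((Scheme.Modules.pullback (curveAt v mp hmp)).obj (Omega.sheaf q)) 0) → mp (closedPoint k) ∈ A)
    (xs : Spec (CommRingCat.of k) ⟶ X) (hxs : xs ≫ q = 𝟙 _)
    {Z : Set ↥(PicF.XT (CohB1.ProjSpace.toSpec 1 k) M)} (hZ : IsLocallyClosed Z) (hirr : IsIrreducible Z)
    (hZx : ∀ w ∈ Z, v.1 w = xs (closedPoint k) ∧ PicF.XTproj (CohB1.ProjSpace.toSpec 1 k) M w ∉ A) :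
    ¬ Dense ((pullback.snd (PicF.XTproj (CohB1.ProjSpace.toSpec 1 k) M) (PicF.XTproj (CohB1.ProjSpace.toSpec 1 k) M)
      ≫ v.1) '' (pullback.fst (PicF.XTproj (CohB1.ProjSpace.toSpec 1 k) M)
        (PicF.XTproj (CohB1.ProjSpace.toSpec 1 k) M) ⁻¹' Z)) := by
  classical
  intro hd
  haveI := ProjMor.isProper_toSpec 1 k
  haveI := smooth_toSpec k
  let p := CohB1.ProjSpace.toSpec 1 k
  let pr := PicF.XTproj p M
  obtain ⟨O, j, hj, hred, hjr⟩ := GrpAct.exists_reduced_subscheme (Y := PicF.XT p M) hZ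
  haveI := hj
  haveI := hred
  haveI : IrreducibleSpace ↥(Set.range j) := Subtype.irreducibleSpace (hjr ▸ hirr)
  haveI : IrreducibleSpace O := j.isEmbedding.toHomeomorph.irreducibleSpace_iff.2 ‹_›
  haveI : IsIntegral O := isIntegral_of_irreducibleSpace_of_isReduced O
  haveI : LocallyOfFiniteType pr := MorphismProperty.pullback_snd _ _ inferInstance
  let π := j ≫ pr
  let qO := π ≫ M.hom
  haveI : LocallyOfFiniteType qO := inferInstanceAs (LocallyOfFiniteType ((j ≫ pr) ≫ M.hom))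
  haveI : LocallyOfFinitePresentation qO := LocallyOfFinitePresentation.iff_locallyOfFiniteType.2 inferInstance
  let σ := j ≫ pullback.fst p M.hom
  have hσ : σ ≫ p = qO := by
    show (j ≫ pullback.fst p M.hom) ≫ p = (j ≫ pr) ≫ M.hom
    rw [Category.assoc, pullback.condition]; exact (Category.assoc _ _ _).symm
  have hfix : j ≫ v.1 = qO ≫ xs := by
    have h1 := eq_of_range_subset_rational xs hxs (j ≫ v.1) fun o => (hZx (j o) (hjr ▸ ⟨o, rfl⟩)).1
    rw [h1, Category.assoc j v.1 q, v.2, ← hσ]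
    exact congrArg (· ≫ xs) (Category.assoc j _ p).symm
  let g : Over.mk qO ⟶ M := Over.homMk π rfl
  let vO := MorSch.pull p q g v
  haveI : IsDominant vO.1 := ⟨hd.mono (by
    rintro _ ⟨w, hw, rfl⟩
    obtain ⟨o, ho⟩ : pullback.fst pr pr w ∈ Set.range j := hjr.symm ▸ hw
    obtain ⟨z, hz, -⟩ := Scheme.exists_preimage_of_isPullback (S17082.isPullback_XTmap p g)
      (pullback.snd pr pr w) o (by
        show pr _ = pr (j o)
        rw [ho, ← Scheme.Hom.comp_apply, ← Scheme.Hom.comp_apply, pullback.condition])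
    exact ⟨z, congrArg v.1 hz⟩)⟩
  obtain ⟨c₀, hc₀⟩ : ∃ c₀ : Fin 2, σ (genericPoint O) ∈ U k c₀ :=
    P1Split.exists_mem_U _
  have hη : genericPoint O ∈ qO.smoothLocus := by
    refine GeomProp.mem_smoothLocus_of_regular_perfect qO ?_
    haveI : IsField ↥(O.presheaf.stalk (genericPoint O)) := Field.toIsField O.functionField
    infer_instance
  obtain ⟨B, hB, hηB, hBle⟩ := exists_isAffineOpen_mem_and_subset (X := O)
    (U := qO.smoothLocus ⊓ σ ⁻¹ᵁ U k c₀) (show genericPoint O ∈ _ from ⟨hη, hc₀⟩)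
  haveI : IsAffine B := hB
  haveI : Nonempty B := ⟨⟨_, hηB⟩⟩
  let M₁ : Over (Spec (CommRingCat.of k)) := Over.mk (B.ι ≫ qO)
  haveI : IsAffine M₁.left := ‹IsAffine B›
  haveI : Nonempty ↥M₁.left := ⟨(⟨_, hηB⟩ : ↥(B : Scheme.{u}))⟩
  haveI : IsIntegral M₁.left := isIntegral_of_isOpenImmersion B.ι
  haveI : Smooth M₁.hom := by
    haveI := SmDesc.smooth_smoothLocus qO
    show Smooth (B.ι ≫ qO)
    rw [show B.ι ≫ qO = O.homOfLE (fun y hy => (hBle hy).1) ≫ qO.smoothLocus.ι ≫ qO by rw [Scheme.homOfLE_ι_assoc]]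
    infer_instance
  let g₁ : M₁ ⟶ Over.mk qO := Over.homMk B.ι rfl
  haveI : IsOpenImmersion g₁.left := inferInstanceAs (IsOpenImmersion B.ι)
  haveI : IrreducibleSpace ↥(Over.mk qO).left := ‹IrreducibleSpace O›
  haveI := isDominant_pull_open vO g₁
  let v₁ := MorSch.pull p q g₁ vO
  have hσ₁ : (B.ι ≫ σ) ≫ p = M₁.hom := (Category.assoc _ _ _).trans (congrArg (B.ι ≫ ·) hσ)
  obtain ⟨mp, hmp, hvf⟩ := exists_vfree_through q M₁ v₁ (B.ι ≫ σ) hσ₁ c₀ (fun m => (hBle m.2).2) xs (by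
    show pullback.lift _ _ _ ≫ PicF.XTmap p g₁ ≫ PicF.XTmap p g ≫ v.1 = _
    rw [← Category.assoc, ← Category.assoc]
    refine Eq.trans (congrArg (· ≫ v.1) (show _ = B.ι ≫ j from ?_)) ?_
    · apply pullback.hom_ext
      · simp only [Category.assoc, MorSch.XTmap_fst]
        exact pullback.lift_fst _ _ _
      · have e1 : PicF.XTmap p g ≫ pullback.snd p M.hom = pullback.snd p qO ≫ π := pullback.lift_snd _ _ _
        have e2 : PicF.XTmap p g₁ ≫ pullback.snd p qO = pullback.snd p M₁.hom ≫ B.ι := pullback.lift_snd _ _ _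
        simp only [Category.assoc]
        rw [e1, reassoc_of% e2]
        exact (pullback.lift_snd_assoc _ _ _ _).trans (Category.id_comp _)
    · rw [Category.assoc, hfix]
      exact (Category.assoc _ _ _).symm)
  have hmp' : (mp ≫ B.ι ≫ π) ≫ M.hom = 𝟙 _ := by
    rw [Category.assoc, Category.assoc]; exact hmp
  have hc : curveAt v₁ mp hmp = curveAt v (mp ≫ B.ι ≫ π) hmp' := by
    rw [curveAt, curveAt]
    show _ ≫ PicF.XTmap p g₁ ≫ PicF.XTmap p g ≫ v.1 = _
    rw [← Category.assoc, ← Category.assoc]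
    refine congrArg (· ≫ v.1) ?_
    apply pullback.hom_ext
    · simp only [Category.assoc, MorSch.XTmap_fst]
      rw [pullback.lift_fst, pullback.lift_fst]
    · have e1 : PicF.XTmap p g ≫ pullback.snd p M.hom = pullback.snd p qO ≫ π := pullback.lift_snd _ _ _
      have e2 : PicF.XTmap p g₁ ≫ pullback.snd p qO = pullback.snd p M₁.hom ≫ B.ι := pullback.lift_snd _ _ _
      simp only [Category.assoc]
      rw [e1, reassoc_of% e2, pullback.lift_snd]
      exact (pullback.lift_snd_assoc _ _ _ _).trans (Category.assoc _ _ _)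
  rw [hc] at hvf
  exact (hZx (j (B.ι (mp (closedPoint k)))) (hjr ▸ ⟨_, rfl⟩)).2 (hA _ hmp' hvf)

end Groth.Agent.FreeCurve
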