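import Groth.Agent.P1Split.Main
import Groth.Agent.TwistPairing.MulMap
import Groth.Agent.PnHodge.Coh
import Mathlib

/-!
# Maps from nonpositive twists to the structure sheaf of the projective line
-/

set_option autoImplicit false
set_option linter.style.haveILetI false
set_option backward.isDefEq.respectTransparency false
set_option backward.isDefEq.respectTransparency.types false

universe u

open CategoryTheory CategoryTheory.Limits AlgebraicGeometry TopologicalSpace Opposite
open Groth.Agent.QC (res app_res res_res)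

noncomputable section

namespace Groth.Agent.FreeCurve

open Groth.Agent.P1Split (O)

variable {k : Type u} [Field k]

theorem isGen_map_iso {X : Scheme.{u}} {M N : X.Modules} (w : M ≅ N) {U : X.Opens} {e : Γ(M, U)} (he : TMul.IsGen e) :
    TMul.IsGen (w.hom.app U e) := fun V hV => by
  have h : (fun c : Γ(X, V) => c • res N hV (w.hom.app U e)) = w.hom.app V ∘ fun c => c • res M hV e := by
    funext c
    rw [Function.comp_apply, Scheme.Modules.Hom.app_smul, app_res]
  rw [h]
  exact (ConcreteCategory.bijective_of_isIso (w.hom.app V)).comp (he V hV)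

theorem isUnit_of_isGen {X : Scheme.{u}} {U : X.Opens} {u : Γ(X, U)}
    (he : TMul.IsGen (N := Coh.structureModule X) (U := U) u) : IsUnit u := by
  obtain ⟨c, hc⟩ := (he U le_rfl).2 (1 : Γ(X, U))
  have hc' : c * u = 1 := by
    refine Eq.trans ?_ hc
    show c • (u : Γ(Coh.structureModule X, U)) = c • res (Coh.structureModule X) le_rfl u
    rw [Groth.Agent.QC.res_self]
  exact IsUnit.of_mul_eq_one_right c hc'

/-- For `d ≤ 0` there is a map `O(d) → O` sending a generator over a given chart to a unit. -/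
theorem exists_hom_twist {d : ℤ} (hd : d ≤ 0) (i : Fin 2) :
    ∃ (e : Γ(O k d, P1Split.U k i)) (c : O k d ⟶ Coh.structureModule (CohB1.ProjSpace 1 k)),
      TMul.IsGen e ∧ IsUnit (show Γ(CohB1.ProjSpace 1 k, P1Split.U k i) from c.app (P1Split.U k i) e) := by
  let 𝒜 := CohB1.polyGrading 1 k
  let x : MvPolynomial (Fin 2) k := MvPolynomial.X i
  let m : ℕ := (-d).toNat
  have hm : x ^ m ∈ 𝒜 m := by
    simpa using SetLike.pow_mem_graded (A := 𝒜) m (CurveP1.X_mem k i)
  have h1 : (1 : MvPolynomial (Fin 2) k) ∈ 𝒜 0 := SetLike.one_mem_graded 𝒜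
  have hU : P1Split.U k i ≤ Proj.basicOpen 𝒜 (x ^ m) := fun y hy =>
    (ProjectiveSpectrum.mem_basicOpen 𝒜 _ y).2 (GrT.not_mem_pow 𝒜 ((ProjectiveSpectrum.mem_basicOpen 𝒜 _ y).1 hy) m)
  have hU1 : P1Split.U k i ≤ Proj.basicOpen 𝒜 (1 : MvPolynomial (Fin 2) k) := fun y _ =>
    (ProjectiveSpectrum.mem_basicOpen 𝒜 _ y).2 fun h => y.isPrime.ne_top ((Ideal.eq_top_iff_one _).2 h)
  have hN : ((0 : ℕ) : ℤ) = (m : ℤ) + d := by omega
  have h0 : ((0 : ℕ) : ℤ) = ((0 : ℕ) : ℤ) + 0 := by simp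
  let e : Γ(O k d, P1Split.U k i) := GrT.twistGen 𝒜 h1 hm hN hU
  have he : TMul.IsGen e := fun V hV => GrT.twistGen_bijective 𝒜 h1 hm hN hU1 hU V hV
  let e₀ : Γ(O k 0, P1Split.U k i) := GrT.twistGen 𝒜 h1 h1 h0 hU1
  have he₀ : TMul.IsGen e₀ := fun V hV => GrT.twistGen_bijective 𝒜 h1 h1 h0 hU1 hU1 V hV
  have hshift : d + (m : ℤ) = 0 := by omega
  have himg : (TwistPairing.mulMap hm hshift).app (P1Split.U k i) e = e₀ := by
    refine GrT.pt_ext 𝒜 𝒜 fun y => ?_
    have hy : x ^ m ∉ y.1.asHomogeneousIdeal := (ProjectiveSpectrum.mem_basicOpen 𝒜 _ y.1).1 (hU y.2)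
    refine (TwistPairing.pt_mulTilde 𝒜 hm hshift e y (P := 1) hy rfl).trans ?_
    exact GrT.fr_congr 𝒜 y.1 hy _ (by simp)
  obtain ⟨w⟩ := PnHodge.nonempty_twist_zero_iso (n := 1) (A := k)
  refine ⟨e, TwistPairing.mulMap hm hshift ≫ w.hom, he, isUnit_of_isGen ?_⟩
  show TMul.IsGen (w.hom.app _ ((TwistPairing.mulMap hm hshift).app _ e))
  rw [himg]
  exact isGen_map_iso w he₀

end Groth.Agent.FreeCurve
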