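import Groth.Agent.FreeCurve.ThroughPoint
import Groth.Agent.FreeCurve.RatFamExt
import Groth.Agent.FreeCurve.CurveFamily
import Groth.Agent.BendBreak.Main
import Groth.Agent.BendBreak.Contracted
import Groth.Agent.Nagata.Noether
import Groth.Agent.Nakai.SemiAmple
import Groth.Agent.S10829
import Mathlib

/-!
# Uniruled proper varieties have a rational curve through every closed point
-/

set_option autoImplicit false
set_option linter.style.haveILetI false
set_option backward.isDefEq.respectTransparency false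
set_option backward.isDefEq.respectTransparency.types false
set_option synthInstance.maxHeartbeats 400000
set_option maxHeartbeats 1000000

universe u

open CategoryTheory CategoryTheory.Limits AlgebraicGeometry TopologicalSpace
open IsLocalRing (closedPoint)

noncomputable section

namespace Groth.Agent.FreeCurve

variable {k : Type u} [Field k] [IsAlgClosed k] {X : Scheme.{u}} {pX : X ⟶ Spec (CommRingCat.of k)}

/-- A uniruled proper variety is dominated by an everywhere defined affine family of nonconstant curves. -/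
theorem exists_family_of_uniruled [IsIntegral X] [IsProper pX] (h : MorSch.IsUniruled k pX) :
    ∃ (B : Over (Spec (CommRingCat.of k))) (v : MorSch.Obj (CohB1.ProjSpace.toSpec 1 k) pX B),
      IsIntegral B.left ∧ IsAffine B.left ∧ Smooth B.hom ∧ IsDominant v.1 ∧
      ∀ (m : Spec (CommRingCat.of k) ⟶ B.left) (hm : m ≫ B.hom = 𝟙 _),
        ¬ ∃ y : X, Set.range (curveAt v m hm).base ⊆ {y} := by
  classical
  obtain ⟨F, hdom, ξ, ξ', hξ, hξne⟩ := h
  haveI := hdom
  obtain ⟨U', hle, hU', B, hB, hBsm, hBU', hU'p, hU'e⟩ := exists_extend F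
  obtain ⟨hint, hsep, hlft, hqc⟩ := F.isVar
  let p := CohB1.ProjSpace.toSpec 1 k
  haveI : IsIntegral (CohB1.ProjSpace 1 k) := Groth.Agent.CurveP1.isIntegral k
  haveI := ProjMor.isProper_toSpec 1 k
  haveI := smooth_toSpec k
  haveI : IsIntegral (pullback p F.m) := Groth.Agent.S1582.result k _ _ p F.m
  let f := pullback.snd p F.m
  haveI : Smooth f := MorphismProperty.pullback_snd _ _ ‹Smooth p›
  haveI : LocallyOfFiniteType f := inferInstance
  haveI : IsSeparated f := MorphismProperty.pullback_snd _ _ inferInstance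
  haveI : QuasiCompact f := MorphismProperty.pullback_snd _ _ inferInstance
  haveI : IsIntegral (pullback p (f ≫ F.m)) := Groth.Agent.S1582.result k _ _ p (f ≫ F.m)
  haveI : IsIntegral (pullback f f) := by
    haveI : Nonempty ↥(pullback f f) :=
      Nonempty.map (pullbackLeftPullbackSndIso p F.m f).inv inferInstance
    exact isIntegral_of_isOpenImmersion (pullbackLeftPullbackSndIso p F.m f).hom
  let P := pullback F.toM F.toM
  let c : P ⟶ pullback f f := pullback.map F.toM F.toM f f F.e.domain.ι F.e.domain.ι (𝟙 _)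
    (Category.comp_id _) (Category.comp_id _)
  haveI : IsOpenImmersion c := inferInstance
  obtain ⟨w, hw, hw'⟩ := Scheme.Pullback.exists_preimage_pullback ξ ξ' hξ
  haveI : Nonempty ↥P := ⟨w⟩
  haveI : IsIntegral P := isIntegral_of_isOpenImmersion c
  haveI : Smooth F.toM := inferInstanceAs (Smooth (F.e.domain.ι ≫ f))
  haveI : Smooth (pullback.fst F.toM F.toM) := MorphismProperty.pullback_fst _ _ ‹Smooth F.toM›
  let fs := pullback.fst F.toM F.toM
  let D : P.Opens := F.ev₂ ⁻¹ᵁ ⟨(Set.range (pullback.diagonal pX))ᶜ,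
    (pullback.diagonal pX).isClosedEmbedding.isClosed_range.isOpen_compl⟩
  have hwD : w ∈ D := by
    rintro ⟨y, hy⟩
    refine hξne ?_
    have h1 := congrArg (pullback.fst pX pX) hy
    have h2 := congrArg (pullback.snd pX pX) hy
    rw [← Scheme.Hom.comp_apply, ← Scheme.Hom.comp_apply, pullback.diagonal_fst, MorSch.RatFam.ev₂_fst,
      Scheme.Hom.comp_apply, hw] at h1
    rw [← Scheme.Hom.comp_apply, ← Scheme.Hom.comp_apply, pullback.diagonal_snd, MorSch.RatFam.ev₂_snd,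
      Scheme.Hom.comp_apply, hw'] at h2
    exact h1.symm.trans h2
  have hBne : (((fs ≫ F.toM) ⁻¹ᵁ B : P.Opens) : Set ↥P).Nonempty := by
    obtain ⟨y, ⟨a, rfl⟩, hy⟩ := nonempty_preirreducible_inter (fs ≫ F.toM).isOpenMap.isOpen_range B.2
      ⟨_, w, rfl⟩ hB
    exact ⟨a, hy⟩
  let O : P.Opens := D ⊓ (fs ≫ F.toM) ⁻¹ᵁ B
  have hOne : (O : Set ↥P).Nonempty := nonempty_preirreducible_inter D.2 ((fs ≫ F.toM) ⁻¹ᵁ B).2 ⟨w, hwD⟩ hBne
  haveI : LocallyOfFiniteType F.toM := inferInstance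
  haveI : LocallyOfFiniteType fs := inferInstance
  let qP : P ⟶ Spec (CommRingCat.of k) := (fs ≫ F.toM) ≫ F.m
  haveI : LocallyOfFiniteType qP := inferInstanceAs (LocallyOfFiniteType ((fs ≫ F.toM) ≫ F.m))
  haveI : JacobsonSpace ↥P := LocallyOfFiniteType.jacobsonSpace qP
  obtain ⟨y, hy, hyc⟩ := nonempty_inter_closedPoints (X := (P : Scheme.{u})) (Z := (O : Set ↥P)) hOne
    O.2.isLocallyClosed
  obtain ⟨⟨z, hzq⟩, hzy⟩ : ∃ z₀ : {z : Spec (CommRingCat.of k) ⟶ P // z ≫ qP = 𝟙 _}, z₀.1 (closedPoint k) = y :=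
    ⟨_, congrArg Subtype.val ((pointEquivClosedPoint qP).apply_symm_apply ⟨y, hyc⟩)⟩
  subst hzy
  let mz := z ≫ fs ≫ F.toM
  have hmzq : mz ≫ F.m = 𝟙 _ := by
    show (z ≫ fs ≫ F.toM) ≫ F.m = _
    rw [Category.assoc]; exact hzq
  let mB : Spec (CommRingCat.of k) ⟶ B := IsOpenImmersion.lift B.ι mz (by
    rintro _ ⟨q, rfl⟩
    obtain rfl : q = closedPoint k := Subsingleton.elim (α := PrimeSpectrum k) _ _
    rw [Scheme.Opens.range_ι]
    exact hy.2)
  have hmB : mB ≫ B.ι = mz := IsOpenImmersion.lift_fac _ _ _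
  let m := B.ι ≫ F.m
  have hmBm : mB ≫ m = 𝟙 _ := by rw [← hmzq, ← hmB, Category.assoc]
  let M' : Over (Spec (CommRingCat.of k)) := Over.mk F.m
  let j : pullback p m ⟶ pullback p F.m := (prodOpenIso (M := M') B).hom ≫ (f ⁻¹ᵁ B).ι
  have hj₁ : j ≫ pullback.fst p F.m = pullback.fst p m :=
    (Category.assoc _ _ _).trans (prodOpenIso_fst (M := M') B)
  have hj₂ : j ≫ f = pullback.snd p m ≫ B.ι := by
    show (_ ≫ _) ≫ f = _
    rw [Category.assoc, show (f ⁻¹ᵁ B).ι ≫ f = (f ∣_ B) ≫ B.ι from (morphismRestrict_ι _ _).symm, ← Category.assoc]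
    exact congrArg (· ≫ B.ι) (prodOpenIso_snd (M := M') B)
  let jU : pullback p m ⟶ U' := IsOpenImmersion.lift U'.ι j (by
    rintro _ ⟨q, rfl⟩
    rw [Scheme.Opens.range_ι]
    exact hBU' ((prodOpenIso (M := M') B).hom q).2)
  have hjU : jU ≫ U'.ι = j := IsOpenImmersion.lift_fac _ _ _
  let E : pullback p m ⟶ X := jU ≫ hU'
  have hE : E ≫ pX = pullback.fst p m ≫ p := by
    show (jU ≫ hU') ≫ pX = _
    rw [Category.assoc, hU'p, reassoc_of% hjU, reassoc_of% hj₁]
  have hle' : (pullback p F.m).homOfLE hle ≫ U'.ι = F.e.domain.ι := Scheme.homOfLE_ι _ hle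
  let M₀ : Over (Spec (CommRingCat.of k)) := Over.mk m
  let v₀ : MorSch.Obj p pX M₀ := ⟨E, hE⟩
  haveI : LocallyOfFiniteType m := inferInstanceAs (LocallyOfFiniteType (B.ι ≫ F.m))
  obtain ⟨A, hA⟩ := exists_sepOpen v₀
  -- the evaluation on points of the domain over the open
  have key : ∀ (a' : Spec (CommRingCat.of k) ⟶ F.e.domain) (ha' : (a' ≫ F.e.domain.ι) ≫ f = mz),
      ((a' ≫ F.e.domain.ι) ≫ pullback.fst p F.m) ≫ p = 𝟙 _ ∧
      ((a' ≫ F.e.domain.ι) ≫ pullback.fst p F.m) ≫ curveAt v₀ mB hmBm = a' ≫ F.e.hom := by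
    intro a' ha'
    let i : CohB1.ProjSpace 1 k ⟶ pullback p m :=
      pullback.lift (𝟙 _) (p ≫ mB) (by rw [Category.id_comp, Category.assoc, hmBm, Category.comp_id])
    have h1 : ((a' ≫ F.e.domain.ι) ≫ pullback.fst p F.m) ≫ p = 𝟙 _ := by
      rw [Category.assoc, pullback.condition, ← Category.assoc, ha', hmzq]
    have h2 : (((a' ≫ F.e.domain.ι) ≫ pullback.fst p F.m) ≫ i) ≫ j = a' ≫ F.e.domain.ι := by
      apply pullback.hom_ext
      · rw [Category.assoc, hj₁, Category.assoc, pullback.lift_fst, Category.comp_id]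
      · rw [Category.assoc, hj₂, Category.assoc, pullback.lift_snd_assoc, Category.assoc p mB B.ι, hmB,
          ← Category.assoc _ p mz, h1, Category.id_comp, ha']
    refine ⟨h1, ?_⟩
    have h3 : (((a' ≫ F.e.domain.ι) ≫ pullback.fst p F.m) ≫ i) ≫ jU = a' ≫ (pullback p F.m).homOfLE hle := by
      rw [← cancel_mono U'.ι]
      simp only [Category.assoc, hle', hjU]
      simpa only [Category.assoc] using h2
    show ((a' ≫ F.e.domain.ι) ≫ pullback.fst p F.m) ≫ i ≫ jU ≫ hU' = _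
    rw [← hU'e, ← Category.assoc _ i, ← Category.assoc _ jU, h3, Category.assoc]
  have hmBA : mB (closedPoint k) ∈ A := by
    obtain ⟨ht, htg⟩ := key (z ≫ fs) (by simp [mz]; rfl)
    obtain ⟨ht', htg'⟩ := key (z ≫ pullback.snd F.toM F.toM) (by
      show _ = z ≫ pullback.fst F.toM F.toM ≫ F.toM
      rw [pullback.condition]
      simp; rfl)
    refine (hA mB hmBm).2 ⟨_, _, ht, ht', fun he => hy.1 ?_⟩
    rw [htg, htg'] at he
    have h5 : z ≫ F.ev₂ = (z ≫ fs ≫ F.e.hom) ≫ pullback.diagonal pX := by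
      apply pullback.hom_ext
      · simp [fs]
      · simpa [fs] using he.symm
    exact ⟨(z ≫ fs ≫ F.e.hom) (closedPoint k),
      (congrArg (fun φ : Spec (CommRingCat.of k) ⟶ pullback pX pX => φ (closedPoint k)) h5).symm⟩
  -- the family over the open dominates
  haveI : IrreducibleSpace M₀.left := by
    haveI : Nonempty (B : Scheme.{u}) := ⟨mB (closedPoint k)⟩
    haveI : IsIntegral (B : Scheme.{u}) := isIntegral_of_isOpenImmersion B.ι
    exact inferInstanceAs (IrreducibleSpace ↥(B : Scheme.{u}))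
  haveI : IrreducibleSpace ↥(F.e.domain : Scheme.{u}) := by
    haveI : Nonempty ↥(F.e.domain : Scheme.{u}) := ⟨ξ⟩
    haveI : IsIntegral (F.e.domain : Scheme.{u}) := isIntegral_of_isOpenImmersion F.e.domain.ι
    infer_instance
  haveI : IsDominant v₀.1 := ⟨dense_iff_inter_open.2 fun V hV hVne => by
    obtain ⟨_, hxV, ⟨a, rfl⟩⟩ := F.e.hom.denseRange.inter_open_nonempty _ hV hVne
    have hB' : ((F.toM ⁻¹ᵁ B : Opens _) : Set ↥(F.e.domain : Scheme.{u})).Nonempty :=
      ⟨fs (z (closedPoint k)), hy.2⟩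
    obtain ⟨d, hdV, hdB⟩ := nonempty_preirreducible_inter (hV.preimage F.e.hom.continuous) (F.toM ⁻¹ᵁ B).2
      ⟨a, hxV⟩ hB'
    let e := (prodOpenIso (M := M') B)
    let q : ↥(pullback p m) := e.inv ⟨F.e.domain.ι d, hdB⟩
    refine ⟨E q, ?_, q, rfl⟩
    have h6 : jU q = (pullback p F.m).homOfLE hle d := U'.ι.isOpenEmbedding.injective (by
      rw [← Scheme.Hom.comp_apply, ← Scheme.Hom.comp_apply, hjU, hle']
      show (f ⁻¹ᵁ B).ι (e.hom (e.inv ⟨F.e.domain.ι d, hdB⟩)) = _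
      rw [← Scheme.Hom.comp_apply e.inv, Iso.inv_hom_id]
      rfl)
    show hU' (jU q) ∈ V
    rw [h6, ← Scheme.Hom.comp_apply, hU'e]
    exact hdV⟩
  obtain ⟨B₁, hB₁, hmB₁, hB₁A⟩ := exists_isAffineOpen_mem_and_subset (X := (B : Scheme.{u})) (U := A) hmBA
  haveI : IsAffine B₁ := hB₁
  haveI : Nonempty B₁ := ⟨⟨_, hmB₁⟩⟩
  let M₁ : Over (Spec (CommRingCat.of k)) := Over.mk (B₁.ι ≫ m)
  let g₁ : M₁ ⟶ M₀ := Over.homMk B₁.ι rfl
  haveI : IsOpenImmersion g₁.left := inferInstanceAs (IsOpenImmersion B₁.ι)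
  haveI : Nonempty ↥M₁.left := ⟨(⟨_, hmB₁⟩ : ↥(B₁ : Scheme.{u}))⟩
  haveI : IsIntegral (B : Scheme.{u}) := by
    haveI : Nonempty (B : Scheme.{u}) := ⟨mB (closedPoint k)⟩
    exact isIntegral_of_isOpenImmersion B.ι
  refine ⟨M₁, MorSch.pull p pX g₁ v₀, isIntegral_of_isOpenImmersion B₁.ι, hB₁, ?_,
    isDominant_pull_open v₀ g₁, fun m' hm' => ?_⟩
  · haveI : Smooth m := hBsm
    exact inferInstanceAs (Smooth (B₁.ι ≫ m))
  have hm'' : (m' ≫ B₁.ι) ≫ M₀.hom = 𝟙 _ := (Category.assoc _ _ _).trans hm'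
  have hc : curveAt (MorSch.pull p pX g₁ v₀) m' hm' = curveAt v₀ (m' ≫ B₁.ι) hm'' := by
    rw [curveAt, curveAt]
    show _ ≫ PicF.XTmap p g₁ ≫ v₀.1 = _
    rw [← Category.assoc]
    refine congrArg (· ≫ v₀.1) ?_
    apply pullback.hom_ext
    · rw [Category.assoc, MorSch.XTmap_fst, pullback.lift_fst, pullback.lift_fst]
    · rw [Category.assoc, pullback.lift_snd]
      refine (congrArg (_ ≫ ·) (pullback.lift_snd _ _ _)).trans ?_
      rw [pullback.lift_snd_assoc]
      exact Category.assoc _ _ _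
  rw [hc]
  exact (sep_iff_nonconst _ (curveAt_comp _ _)).1 ((hA _ hm'').1 (hB₁A (m' (closedPoint k)).2))

/-- A map from the line into an affine open is constant. -/
theorem range_subset_of_affine [IsProper pX] (φ : CohB1.ProjSpace 1 k ⟶ X)
    (hφ : φ ≫ pX = CohB1.ProjSpace.toSpec 1 k) {V : X.Opens} (hV : IsAffineOpen V)
    (h : Set.range φ ⊆ (V : Set X)) : ∃ y, Set.range φ ⊆ {y} := by
  haveI := ProjMor.isProper_toSpec 1 k
  haveI : IsIntegral (CohB1.ProjSpace 1 k) := Groth.Agent.CurveP1.isIntegral k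
  let l := IsOpenImmersion.lift V.ι φ (by rw [Scheme.Opens.range_ι]; exact h)
  have hl : l ≫ V.ι = φ := IsOpenImmersion.lift_fac _ _ _
  let P : Over (Spec (CommRingCat.of k)) := Over.mk (CohB1.ProjSpace.toSpec 1 k)
  let A : Over (Spec (CommRingCat.of k)) := Over.mk (V.ι ≫ pX)
  haveI : IsAffine A.left := hV
  haveI : IsProper P.hom := ‹IsProper (CohB1.ProjSpace.toSpec 1 k)›
  haveI : IsIntegral P.left := ‹IsIntegral (CohB1.ProjSpace 1 k)›
  let L : P ⟶ A := Over.homMk l (by show l ≫ V.ι ≫ pX = _; rw [reassoc_of% hl, hφ]; rfl)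
  obtain ⟨t, -, ht, -⟩ := exists_two_points_chart (k := k)
  let o : MonoidalCategory.tensorUnit (Over (Spec (CommRingCat.of k))) ⟶ P := Over.homMk t ht
  have hL := Chev.Borel.eq_of_point_eq o L (CartesianMonoidalCategory.toUnit P ≫ o ≫ L) (by
    rw [← Category.assoc o, show o ≫ CartesianMonoidalCategory.toUnit P = 𝟙 _ from
      CartesianMonoidalCategory.toUnit_unique _ _, Category.id_comp])
  refine ⟨φ (t (closedPoint k)), ?_⟩
  rintro _ ⟨w, rfl⟩
  show φ w = φ (t (closedPoint k))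
  rw [← hl, Scheme.Hom.comp_apply, Scheme.Hom.comp_apply]
  refine congrArg V.ι ?_
  have h1 := congrArg (fun φ : P ⟶ A => φ.left w) hL
  refine h1.trans ?_
  show l (t ((CartesianMonoidalCategory.toUnit P).left w)) = l (t (closedPoint k))
  exact congrArg (fun s => l (t s)) (Subsingleton.elim (α := PrimeSpectrum k) _ _)

/-- A curve lifts to the blown up surface. -/
theorem exists_lift_curve {S S' Z : Scheme.{u}} {g : S' ⟶ S} (hg : PtBlow.Seq g) [IsNoetherian S]
    (hdim : topologicalKrullDim S ≤ 2) [IsIntegral Z] [IsLocallyNoetherian Z]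
    (hreg : ∀ y : Z, IsRegularLocalRing (Z.presheaf.stalk y)) (h1 : ∀ y : Z, ringKrullDim (Z.presheaf.stalk y) ≤ 1)
    (m : Z ⟶ S) (hinj : Function.Injective m) {z : Z} (hz : z ≠ genericPoint Z) : ∃ m' : Z ⟶ S', m' ≫ g = m := by
  haveI := hg.isProper
  have hξ : ringKrullDim (S.presheaf.stalk (m (genericPoint Z))) < 2 := by
    by_contra hcon
    have h2 := le_antisymm ((RegDual.ringKrullDim_stalk_le_topologicalKrullDim _).trans hdim) (not_lt.1 hcon)
    exact hz (hinj (((genericPoint_specializes z).map m.continuous).mem_closed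
      (PtBlow.isClosed_of_dim_two hdim h2) rfl))
  obtain ⟨O, hO, hOiso⟩ := BendBreak.seq_iso_nhd hg _ hξ
  haveI := hOiso
  exact BendBreak.exists_lift g O hreg h1 m ⟨genericPoint Z, hO⟩

/-- An arc through a point: the families of curves dominating a proper variety reach every closed point. -/
theorem exists_curve_through [IsIntegral X] [IsProper pX] (B : Over (Spec (CommRingCat.of k))) [IsIntegral B.left]
    [IsAffine B.left] [Smooth B.hom] (v : MorSch.Obj (CohB1.ProjSpace.toSpec 1 k) pX B) [IsDominant v.1]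
    (hnc : ∀ (m : Spec (CommRingCat.of k) ⟶ B.left) (hm : m ≫ B.hom = 𝟙 _),
      ¬ ∃ y : X, Set.range (curveAt v m hm).base ⊆ {y})
    (x : X) (hx : IsClosed ({x} : Set X)) :
    ∃ φ : CohB1.ProjSpace 1 k ⟶ X, φ ≫ pX = CohB1.ProjSpace.toSpec 1 k ∧ x ∈ Set.range φ ∧
      ¬ ∃ y : X, Set.range φ.base ⊆ {y} := by
  classical
  by_contra H
  push Not at H
  have hrat : ∀ φ : CohB1.ProjSpace 1 k ⟶ X, φ ≫ pX = CohB1.ProjSpace.toSpec 1 k → x ∈ Set.range φ →
      ∀ s, φ s = x := fun φ hφ hxφ s => by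
    obtain ⟨y, hy⟩ := H φ hφ hxφ
    obtain ⟨s₀, hs₀⟩ := hxφ
    exact (hy ⟨s, rfl⟩).trans ((hy ⟨s₀, rfl⟩).symm.trans hs₀)
  let Sk := Spec (CommRingCat.of k)
  let p := CohB1.ProjSpace.toSpec 1 k
  haveI := ProjMor.isProper_toSpec 1 k
  haveI := smooth_toSpec k
  haveI : IsIntegral (CohB1.ProjSpace 1 k) := Groth.Agent.CurveP1.isIntegral k
  -- compactify the parameter space and take the closure of the graph
  haveI : IsSeparated B.hom := inferInstance
  haveI : QuasiCompact B.hom := inferInstance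
  obtain ⟨Bb, jb, bb, hjo, hjq, hbb, hjbb⟩ := Nagata.exists_compactification B.hom
  haveI := hjo
  haveI := hbb
  let pr := PicF.XTproj p B
  haveI : IsProper pr := MorphismProperty.pullback_snd _ _ inferInstance
  haveI : IsIntegral (PicF.XT p B) := Groth.Agent.S1582.result k _ _ p B.hom
  haveI : CompactSpace ↥(PicF.XT p B) := by
    haveI : CompactSpace ↥B.left := inferInstance
    exact QuasiCompact.compactSpace_of_compactSpace pr
  let Q := pullback p bb
  let qQ : Q ⟶ Sk := pullback.fst p bb ≫ p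
  haveI : IsProper (pullback.fst p bb) := MorphismProperty.pullback_fst _ _ ‹IsProper bb›
  haveI : IsProper qQ := inferInstanceAs (IsProper (pullback.fst p bb ≫ p))
  let a : PicF.XT p B ⟶ Q := pullback.lift (pullback.fst p B.hom) (pr ≫ jb) (by
    rw [pullback.condition, Category.assoc, hjbb])
  have ha₁ : a ≫ pullback.fst p bb = pullback.fst p B.hom := pullback.lift_fst _ _ _
  have ha₂ : a ≫ pullback.snd p bb = pr ≫ jb := pullback.lift_snd _ _ _
  let Z := pullback pX qQ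
  let gr : PicF.XT p B ⟶ Z := pullback.lift v.1 a (by
    show v.1 ≫ pX = a ≫ pullback.fst p bb ≫ p
    rw [reassoc_of% ha₁]; exact v.2)
  let qZ : Z ⟶ Sk := pullback.fst pX qQ ≫ pX
  haveI : IsProper (pullback.fst pX qQ) := MorphismProperty.pullback_fst _ _ ‹IsProper qQ›
  haveI : IsProper qZ := inferInstanceAs (IsProper (pullback.fst pX qQ ≫ pX))
  haveI : QuasiSeparatedSpace ↥Z := quasiSeparatedSpace_of_quasiSeparated qZ
  haveI : QuasiCompact gr := quasiCompact_of_compactSpace gr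
  let Y := gr.image
  haveI : IsIntegral Y := Nakai.isIntegral_image gr
  let sY : Y ⟶ Sk := gr.imageι ≫ qZ
  haveI : IsProper sY := inferInstanceAs (IsProper (gr.imageι ≫ qZ))
  let qX : Y ⟶ X := gr.imageι ≫ pullback.fst pX qQ
  let q1 : Y ⟶ CohB1.ProjSpace 1 k := gr.imageι ≫ pullback.snd pX qQ ≫ pullback.fst p bb
  let qb : Y ⟶ Bb := gr.imageι ≫ pullback.snd pX qQ ≫ pullback.snd p bb
  have hqX : qX ≫ pX = sY := Category.assoc _ _ _
  have hq1 : q1 ≫ p = sY := by
    show (gr.imageι ≫ pullback.snd pX qQ ≫ pullback.fst p bb) ≫ p = gr.imageι ≫ pullback.fst pX qQ ≫ pX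
    rw [pullback.condition]
    simp only [Category.assoc]
    rfl
  have hqb : qb ≫ bb = sY := by
    show (gr.imageι ≫ pullback.snd pX qQ ≫ pullback.snd p bb) ≫ bb = gr.imageι ≫ pullback.fst pX qQ ≫ pX
    rw [pullback.condition, Category.assoc, Category.assoc]
    exact congrArg (fun f => gr.imageι ≫ pullback.snd pX qQ ≫ f) (pullback.condition (f := p) (g := bb)).symm
  have ht1 : gr.toImage ≫ q1 = pullback.fst p B.hom := by
    rw [show gr.toImage ≫ q1 = (gr.toImage ≫ gr.imageι) ≫ pullback.snd pX qQ ≫ pullback.fst p bb from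
      (Category.assoc _ _ _).symm, gr.toImage_imageι, pullback.lift_snd_assoc, ha₁]
  have htb : gr.toImage ≫ qb = pr ≫ jb := by
    rw [show gr.toImage ≫ qb = (gr.toImage ≫ gr.imageι) ≫ pullback.snd pX qQ ≫ pullback.snd p bb from
      (Category.assoc _ _ _).symm, gr.toImage_imageι, pullback.lift_snd_assoc, ha₂]
  have htX : gr.toImage ≫ qX = v.1 := by
    rw [show gr.toImage ≫ qX = (gr.toImage ≫ gr.imageι) ≫ pullback.fst pX qQ from (Category.assoc _ _ _).symm,
      gr.toImage_imageι, pullback.lift_fst]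
  haveI : IsProper qX := by
    haveI : IsProper (qX ≫ pX) := by rw [hqX]; infer_instance
    exact IsProper.of_comp qX pX
  have hsurj : Function.Surjective qX := by
    refine Set.range_eq_univ.1 (eq_top_iff.2 ?_)
    rw [Set.top_eq_univ, ← v.1.denseRange.closure_range]
    refine closure_minimal ?_ qX.isClosedMap.isClosed_range
    rintro _ ⟨w, rfl⟩
    exact ⟨gr.toImage w, by rw [← Scheme.Hom.comp_apply, htX]⟩
  haveI : JacobsonSpace ↥Y := LocallyOfFiniteType.jacobsonSpace sY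
  obtain ⟨y, hyx, hyc⟩ := nonempty_inter_closedPoints (X := (Y : Scheme.{u})) (Z := qX ⁻¹' {x})
    (let ⟨y, hy⟩ := hsurj x; ⟨y, hy⟩) (hx.preimage qX.continuous).isLocallyClosed
  -- the part of the graph over the parameter space
  let G₀ : Y.Opens := qb ⁻¹ᵁ jb.opensRange
  let G : Y.Opens := G₀ ⊓ ⟨{y}ᶜ, hyc.isOpen_compl⟩
  haveI : JacobsonSpace ↥B.left := LocallyOfFiniteType.jacobsonSpace B.hom
  obtain ⟨b₀, -, hb₀⟩ := nonempty_inter_closedPoints (X := B.left) (Z := Set.univ) Set.univ_nonempty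
    isClosed_univ.isLocallyClosed
  obtain ⟨⟨m₀, hm₀⟩, -⟩ : ∃ z₀ : {z : Sk ⟶ B.left // z ≫ B.hom = 𝟙 _}, z₀.1 (closedPoint k) = b₀ :=
    ⟨_, congrArg Subtype.val ((pointEquivClosedPoint B.hom).apply_symm_apply ⟨b₀, hb₀⟩)⟩
  have hGne : (G : Set ↥Y).Nonempty := by
    obtain ⟨s, hs⟩ : ∃ s, curveAt v m₀ hm₀ s ≠ x := by
      by_contra hall
      push Not at hall
      exact hnc m₀ hm₀ ⟨x, by rintro _ ⟨s, rfl⟩; exact hall s⟩
    let w := pullback.lift (f := p) (g := B.hom) (𝟙 _) (p ≫ m₀)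
      (by rw [Category.id_comp, Category.assoc, hm₀, Category.comp_id]) s
    have hw : qX (gr.toImage w) = curveAt v m₀ hm₀ s := by
      rw [← Scheme.Hom.comp_apply, htX]; rfl
    refine ⟨gr.toImage w, ⟨pr w, (congrArg (fun φ : PicF.XT p B ⟶ Bb => φ w) htb).symm⟩, fun h => hs ?_⟩
    rw [← hw, show gr.toImage w = y from h]
    exact hyx
  obtain ⟨R, _, u, hu, hyu⟩ : ∃ (R : Type u) (_ : CommRing R) (u : Spec (CommRingCat.of R) ⟶ Y),
      IsOpenImmersion u ∧ y ∈ Set.range u := by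
    obtain ⟨W, hW, hyW, -⟩ := exists_isAffineOpen_mem_and_subset (X := Y) (x := y) (U := ⊤) trivial
    exact ⟨Γ(Y, W), inferInstance, hW.fromSpec, inferInstance, hW.range_fromSpec.ge hyW⟩
  haveI := hu
  obtain ⟨α, hα⟩ : ∃ α, Spec.map α = u ≫ sY := ⟨_, Spec.map_preimage _⟩
  letI : Algebra k R := α.hom.toAlgebra
  obtain ⟨C, _, _, _, gC, c, γ, hCsm, hC1, hγf, hγy, hγG⟩ := BendBreak.exists_arc sY (𝟙 Y) G (by simpa using hGne)
    u hα.symm hyc hyu (fun h => h.2 rfl)
  haveI := hCsm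
  let pt := Spec.map (CommRingCat.ofHom c.toRingHom) (closedPoint k)
  let C₀ : (Spec (CommRingCat.of C)).Opens := γ ⁻¹ᵁ G₀
  have hC₀ne : (C₀ : Set ↥(Spec (CommRingCat.of C))).Nonempty := ⟨genericPoint _, hγG.1⟩
  let sC := γ ≫ sY
  have hCk : sC = Spec.map (CommRingCat.ofHom (algebraMap k C)) := by
    show γ ≫ sY = _
    rw [Category.comp_id] at hγf
    rw [hγf, Category.assoc, ← hα, ← Spec.map_comp]
    congr 1
    exact CommRingCat.hom_ext gC.comp_algebraMap
  haveI : Smooth sC := by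
    rw [hCk]
    exact (HasRingHomProperty.Spec_iff (P := @Smooth)).mpr (RingHom.smooth_algebraMap.mpr hCsm)
  haveI : IsSeparated sC := inferInstance
  haveI : IsLocallyNoetherian (Spec (CommRingCat.of C)) := LocallyOfFiniteType.isLocallyNoetherian sC
  have hregC := WeilExt.regular_of_smooth (WeilExt.regular_spec (R := k)) sC
  have hdimC : topologicalKrullDim ↥(Spec (CommRingCat.of C)) = 1 :=
    (PrimeSpectrum.topologicalKrullDim_eq_ringKrullDim C).trans hC1
  have hC1' : ∀ z : ↥(Spec (CommRingCat.of C)), ringKrullDim ((Spec (CommRingCat.of C)).presheaf.stalk z) ≤ 1 :=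
    fun z => (RegDual.ringKrullDim_stalk_le_topologicalKrullDim z).trans hdimC.le
  -- the surface
  let S := pullback p sC
  haveI : IsIntegral S := Groth.Agent.S1582.result k _ _ p sC
  let prC : S ⟶ Spec (CommRingCat.of C) := pullback.snd p sC
  haveI : IsProper prC := MorphismProperty.pullback_snd _ _ inferInstance
  let qS : S ⟶ Sk := pullback.fst p sC ≫ p
  haveI : Smooth (pullback.fst p sC) := MorphismProperty.pullback_fst _ _ ‹Smooth sC›
  haveI : Smooth qS := inferInstanceAs (Smooth (pullback.fst p sC ≫ p))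
  haveI : IsSeparated (pullback.fst p sC) := MorphismProperty.pullback_fst _ _ inferInstance
  haveI : IsSeparated qS := inferInstanceAs (IsSeparated (pullback.fst p sC ≫ p))
  haveI : IsLocallyNoetherian S := LocallyOfFiniteType.isLocallyNoetherian qS
  haveI : CompactSpace ↥S := QuasiCompact.compactSpace_of_compactSpace prC
  haveI : IsNoetherian S := {}
  haveI : JacobsonSpace ↥S := LocallyOfFiniteType.jacobsonSpace qS
  have hdim : topologicalKrullDim S ≤ 2 := by
    haveI := SectRank.smoothOfRelativeDimension_of_dim sC (n := 1) (by simpa using hdimC)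
    haveI := SectRank.smoothOfRelativeDimension_of_dim p (n := 1) (S10829.result k 1)
    haveI : MorphismProperty.IsStableUnderBaseChange (@SmoothOfRelativeDimension 1) :=
      smoothOfRelativeDimension_isStableUnderBaseChange 1
    haveI : SmoothOfRelativeDimension 1 (pullback.fst p sC) :=
      MorphismProperty.pullback_fst (P := @SmoothOfRelativeDimension 1) _ _ ‹_›
    haveI : SmoothOfRelativeDimension 2 qS :=
      inferInstanceAs (SmoothOfRelativeDimension (1 + 1) (pullback.fst p sC ≫ p))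
    exact le_of_eq ((SectRank.topologicalKrullDim_of_smoothOfRelativeDimension qS 2).trans rfl)
  -- the family over the good part of the arc
  have hG₀ : ∀ w : (G₀ : Scheme.{u}), qb (G₀.ι w) ∈ Set.range jb := fun w => w.2
  let βY : (G₀ : Scheme.{u}) ⟶ B.left := IsOpenImmersion.lift jb (G₀.ι ≫ qb) (by
    rintro _ ⟨w, rfl⟩; exact hG₀ w)
  have hβY : βY ≫ jb = G₀.ι ≫ qb := IsOpenImmersion.lift_fac _ _ _
  have hβYB : βY ≫ B.hom = G₀.ι ≫ sY := by rw [← hjbb, reassoc_of% hβY, hqb]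
  let θ : (G₀ : Scheme.{u}) ⟶ PicF.XT p B :=
    pullback.lift (G₀.ι ≫ q1) βY (by rw [Category.assoc, hq1, hβYB])
  have hθ : θ ≫ v.1 = G₀.ι ≫ qX := by
    have h1 : (gr.toImage ∣_ G₀) ≫ θ = (gr.toImage ⁻¹ᵁ G₀).ι := by
      apply pullback.hom_ext
      · rw [Category.assoc, pullback.lift_fst, ← Category.assoc, morphismRestrict_ι, Category.assoc, ht1]
      · rw [Category.assoc, pullback.lift_snd, ← cancel_mono jb, Category.assoc, hβY, ← Category.assoc,
          morphismRestrict_ι, Category.assoc, htb]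
        exact (Category.assoc _ _ _).symm
    haveI : IsDominant (gr.toImage ∣_ G₀) :=
      IsZariskiLocalAtTarget.restrict (P := @IsDominant) (inferInstanceAs (IsDominant gr.toImage)) G₀
    refine ext_of_isDominant_of_isSeparated pX ?_ (gr.toImage ∣_ G₀) ?_
    · rw [Category.assoc, Category.assoc, hqX, v.2, pullback.lift_fst_assoc, Category.assoc, hq1]
    · rw [reassoc_of% h1, ← Category.assoc, morphismRestrict_ι, Category.assoc, htX]
  let θC : (C₀ : Scheme.{u}) ⟶ PicF.XT p B := (γ ∣_ G₀) ≫ θ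
  let β : (C₀ : Scheme.{u}) ⟶ B.left := (γ ∣_ G₀) ≫ βY
  have hβB : β ≫ B.hom = C₀.ι ≫ sC := by
    rw [Category.assoc, hβYB, ← Category.assoc, morphismRestrict_ι, Category.assoc]
  let U : S.Opens := prC ⁻¹ᵁ C₀
  let aU : (U : Scheme.{u}) ⟶ PicF.XT p B := pullback.lift (U.ι ≫ pullback.fst p sC) ((prC ∣_ C₀) ≫ β) (by
    rw [Category.assoc, Category.assoc, hβB, ← Category.assoc (prC ∣_ C₀), morphismRestrict_ι, Category.assoc,
      pullback.condition])
  let φ : (U : Scheme.{u}) ⟶ X := aU ≫ v.1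
  have hφ : φ ≫ pX = U.ι ≫ qS := by
    show (aU ≫ v.1) ≫ pX = _
    rw [Category.assoc, v.2, pullback.lift_fst_assoc, Category.assoc]
  let σ : Spec (CommRingCat.of C) ⟶ CohB1.ProjSpace 1 k := γ ≫ q1
  let ms : Spec (CommRingCat.of C) ⟶ S := pullback.lift σ (𝟙 _) (by rw [Category.assoc, hq1, Category.id_comp])
  have hms : ms ≫ prC = 𝟙 _ := pullback.lift_snd _ _ _
  have hUne : (U : Set ↥S).Nonempty := ⟨ms (genericPoint _), by
    show (ms ≫ prC) (genericPoint _) ∈ C₀
    rw [hms]; exact hγG.1⟩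
  obtain ⟨S', g, h, hg, hh, hres⟩ := PtBlow.exists_morphism
    (WeilExt.regular_of_smooth (WeilExt.regular_spec (R := k)) qS) hdim qS pX U hUne φ hφ
  haveI := hg.isProper
  haveI := hg.isNoetherian ‹IsNoetherian S›
  have h_eq : ∀ {T : Scheme.{u}} (t : T ⟶ S') (b : T ⟶ (U : Scheme.{u})), t ≫ g = b ≫ U.ι → t ≫ h = b ≫ φ := by
    intro T t b e
    let t₀ : T ⟶ (g ⁻¹ᵁ U : Scheme.{u}) := IsOpenImmersion.lift (g ⁻¹ᵁ U).ι t (by
      rw [Scheme.Opens.range_ι]
      rintro _ ⟨w, rfl⟩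
      show (t ≫ g) w ∈ U
      rw [e]; exact (b w).2)
    have ht₀ : t₀ ≫ (g ⁻¹ᵁ U).ι = t := IsOpenImmersion.lift_fac _ _ _
    have hb : t₀ ≫ (g ∣_ U) = b := by
      rw [← cancel_mono U.ι, Category.assoc, morphismRestrict_ι, reassoc_of% ht₀, e]
    rw [← ht₀, Category.assoc, hres, reassoc_of% hb]
  -- the section given by the arc
  haveI : Nonempty ↥(C₀ : Scheme.{u}) := hC₀ne.to_subtype
  haveI : IsDominant C₀.ι := ⟨by rw [DenseRange, Scheme.Opens.range_ι]; exact C₀.2.dense hC₀ne⟩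
  have hγpt : γ pt = y := hγy
  have hptne : pt ≠ genericPoint _ := fun h => by
    rw [← h, hγpt] at hγG
    exact hγG.2 rfl
  obtain ⟨m', hm'⟩ := exists_lift_curve hg hdim hregC hC1' ms (fun u₁ u₂ h => by
    have h' := congrArg prC h
    rwa [← Scheme.Hom.comp_apply, ← Scheme.Hom.comp_apply, hms] at h') hptne
  let msU : (C₀ : Scheme.{u}) ⟶ (U : Scheme.{u}) := IsOpenImmersion.lift U.ι (C₀.ι ≫ ms) (by
    rw [Scheme.Opens.range_ι]
    rintro _ ⟨w, rfl⟩
    show ((C₀.ι ≫ ms) ≫ prC) w ∈ C₀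
    rw [Category.assoc, hms, Category.comp_id]
    exact w.2)
  have hmsU : msU ≫ U.ι = C₀.ι ≫ ms := IsOpenImmersion.lift_fac _ _ _
  have hm'X : m' ≫ h = γ ≫ qX := by
    refine ext_of_isDominant_of_isSeparated pX ?_ C₀.ι ?_
    · rw [Category.assoc, Category.assoc, hh, hqX, reassoc_of% hm']
      show ms ≫ pullback.fst p sC ≫ p = sC
      rw [pullback.lift_fst_assoc, Category.assoc, hq1]
    · rw [← Category.assoc, h_eq (C₀.ι ≫ m') msU (by rw [Category.assoc, hm', hmsU])]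
      show msU ≫ aU ≫ v.1 = _
      have h1 : msU ≫ aU = θC := by
        apply pullback.hom_ext
        · rw [Category.assoc, pullback.lift_fst, reassoc_of% hmsU, pullback.lift_fst, Category.assoc,
            pullback.lift_fst, ← Category.assoc (γ ∣_ G₀), morphismRestrict_ι, Category.assoc]
        · rw [Category.assoc, pullback.lift_snd, Category.assoc, pullback.lift_snd]
          show msU ≫ (prC ∣_ C₀) ≫ β = β
          rw [← Category.assoc]
          refine (congrArg (· ≫ β) (?_ : msU ≫ (prC ∣_ C₀) = 𝟙 _)).trans (Category.id_comp β)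
          rw [← cancel_mono C₀.ι, Category.assoc, morphismRestrict_ι, reassoc_of% hmsU, hms, Category.comp_id,
            Category.id_comp]
      rw [reassoc_of% h1, Category.assoc, hθ, ← Category.assoc, morphismRestrict_ι, Category.assoc]
  have hw₀ : h (m' pt) = x := by
    rw [← Scheme.Hom.comp_apply, hm'X, Scheme.Hom.comp_apply, hγpt]
    exact hyx
  -- lines over rational points of the arc
  haveI : IsLocallyNoetherian (CohB1.ProjSpace 1 k) := LocallyOfFiniteType.isLocallyNoetherian p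
  have hregP := WeilExt.regular_of_smooth (WeilExt.regular_spec (R := k)) p
  have hgenP : ∃ a, a ≠ genericPoint (CohB1.ProjSpace 1 k) := by
    by_contra hall
    push Not at hall
    obtain ⟨a, b, hab⟩ := BendBreak.exists_ne_p1 k
    exact hab ((hall a).trans (hall b).symm)
  obtain ⟨a₀, ha₀⟩ := hgenP
  have hline : ∀ (cp : Sk ⟶ Spec (CommRingCat.of C)) (hcp : cp ≫ sC = 𝟙 _),
      ∃ L' : CohB1.ProjSpace 1 k ⟶ S', L' ≫ g = pullback.lift (f := p) (g := sC) (𝟙 _) (p ≫ cp)
        (by rw [Category.id_comp, Category.assoc, hcp, Category.comp_id]) := fun cp hcp =>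
    exists_lift_curve hg hdim hregP BendBreak.dim_le_one_p1 _ (fun u₁ u₂ h => by
      have h' := congrArg (pullback.fst p sC) h
      rwa [← Scheme.Hom.comp_apply, ← Scheme.Hom.comp_apply, pullback.lift_fst] at h') ha₀
  have hptq : ∀ cp : Sk ⟶ Spec (CommRingCat.of C), ∀ s : CohB1.ProjSpace 1 k, (p ≫ cp) s = cp (closedPoint k) :=
    fun cp s => by
      rw [Scheme.Hom.comp_apply]
      exact congrArg cp (Subsingleton.elim (α := PrimeSpectrum k) _ _)
  let cp : Sk ⟶ Spec (CommRingCat.of C) := Spec.map (CommRingCat.ofHom c.toRingHom)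
  have hcp : cp ≫ sC = 𝟙 _ := by
    rw [hCk, ← Spec.map_comp, ← CommRingCat.ofHom_comp,
      show c.toRingHom.comp (algebraMap k C) = RingHom.id k from c.comp_algebraMap, CommRingCat.ofHom_id, Spec.map_id]
  let L : CohB1.ProjSpace 1 k ⟶ S := pullback.lift (𝟙 _) (p ≫ cp)
    (by rw [Category.id_comp, Category.assoc, hcp, Category.comp_id])
  obtain ⟨L', hL'⟩ := hline cp hcp
  have hLsc : ∀ z : Sk ⟶ S, z ≫ qS = 𝟙 _ → prC (z (closedPoint k)) = pt →
      z = (z ≫ pullback.fst p sC) ≫ L := fun z hz hzp => by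
    have hzc : z ≫ prC = cp := by
      refine ext_of_apply_closedPoint_eq sC ?_ hcp (by rw [Scheme.Hom.comp_apply]; exact hzp)
      rw [Category.assoc, show prC ≫ sC = qS from pullback.condition.symm]
      exact hz
    apply pullback.hom_ext
    · rw [Category.assoc, pullback.lift_fst, Category.comp_id]
    · rw [Category.assoc, pullback.lift_snd, hzc, Category.assoc z (pullback.fst p sC),
        show pullback.fst p sC ≫ p ≫ cp = qS ≫ cp from (Category.assoc _ _ _).symm, reassoc_of% hz]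
  have hconst : ∀ (z : Sk ⟶ S) (_ : z ≫ qS = 𝟙 _) (w₀ : S'), g w₀ = z (closedPoint k) → h w₀ = x →
      ∀ w, g w = z (closedPoint k) → h w = x := fun z hz w₀ hgw hhw w hw =>
    BendBreak.fibre_constant hg qS pX h hh hx (fun φ' hφ' hxφ => ⟨x, by
      rintro _ ⟨s, rfl⟩; exact hrat φ' hφ' hxφ s⟩) (pointEquivClosedPoint qS ⟨z, hz⟩).2 hgw hhw w hw
  have hzs : (cp ≫ ms) ≫ qS = 𝟙 _ := by
    show (cp ≫ ms) ≫ pullback.fst p sC ≫ p = _
    rw [Category.assoc, pullback.lift_fst_assoc, Category.assoc, hq1]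
    exact hcp
  have hfib₀ : ∀ w, g w = ms pt → h w = x := hconst (cp ≫ ms) hzs (m' pt)
    (by rw [← Scheme.Hom.comp_apply, hm', Scheme.Hom.comp_apply]) hw₀
  have hLx : ∀ s, h (L' s) = x := fun s => by
    refine hrat (L' ≫ h) ?_ ⟨σ pt, ?_⟩ s
    · rw [Category.assoc, hh, reassoc_of% hL']
      show L ≫ pullback.fst p sC ≫ p = _
      rw [pullback.lift_fst_assoc, Category.id_comp]
    · rw [Scheme.Hom.comp_apply]
      refine hfib₀ _ ?_
      rw [← Scheme.Hom.comp_apply, hL']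
      have h3 : cp ≫ ms = (cp ≫ σ) ≫ L := by
        refine (hLsc (cp ≫ ms) hzs ?_).trans (congrArg (· ≫ L) ?_)
        · rw [← Scheme.Hom.comp_apply, Category.assoc, hms, Category.comp_id]
        · rw [Category.assoc, pullback.lift_fst]
      exact (congrArg (fun φ : Sk ⟶ S => φ (closedPoint k)) h3).symm
  obtain ⟨V, hV, hxV, -⟩ := exists_isAffineOpen_mem_and_subset (X := X) (x := x) (U := ⊤) trivial
  let T : Set ↥S := g '' ((h ⁻¹ᵁ V : Opens _) : Set ↥S')ᶜ
  have hT : IsClosed T := g.isClosedMap _ (h ⁻¹ᵁ V).2.isClosed_compl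
  have hptc : IsClosed ({pt} : Set ↥(Spec (CommRingCat.of C))) := (pointEquivClosedPoint sC ⟨cp, hcp⟩).2
  have hptT : pt ∉ prC '' T := by
    rintro ⟨t, ht, htp⟩
    obtain ⟨t₁, ⟨⟨w, hw, rfl⟩, htp₁⟩, hcl⟩ := nonempty_inter_closedPoints (X := (S : Scheme.{u}))
      (Z := T ∩ prC ⁻¹' {pt}) ⟨t, ht, htp⟩ (hT.inter (hptc.preimage prC.continuous)).isLocallyClosed
    obtain ⟨⟨z, hz⟩, hzw⟩ : ∃ z₀ : {z : Sk ⟶ S // z ≫ qS = 𝟙 _}, z₀.1 (closedPoint k) = g w :=
      ⟨_, congrArg Subtype.val ((pointEquivClosedPoint qS).apply_symm_apply ⟨g w, hcl⟩)⟩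
    refine hw (show h w ∈ V from ?_)
    rw [hconst z hz (L' ((z ≫ pullback.fst p sC) (closedPoint k))) ?_ (hLx _) w hzw.symm]
    · exact hxV
    · rw [← Scheme.Hom.comp_apply, hL']
      exact (congrArg (fun φ : Sk ⟶ S => φ (closedPoint k)) (hLsc z hz (by rw [hzw]; exact htp₁))).symm
  -- a nearby member lies in an affine
  let N : (Spec (CommRingCat.of C)).Opens := C₀ ⊓ ⟨(prC '' T)ᶜ, (prC.isClosedMap _ hT).isOpen_compl⟩
  haveI : JacobsonSpace ↥(Spec (CommRingCat.of C)) := LocallyOfFiniteType.jacobsonSpace sC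
  obtain ⟨c₁, hc₁N, hc₁⟩ := nonempty_inter_closedPoints (X := (Spec (CommRingCat.of C) : Scheme.{u})) (Z := (N : Set _))
    (nonempty_preirreducible_inter C₀.2 (prC.isClosedMap _ hT).isOpen_compl hC₀ne ⟨pt, hptT⟩) N.2.isLocallyClosed
  obtain ⟨⟨cp₁, hcp₁⟩, hcp₁e⟩ : ∃ z₀ : {z : Sk ⟶ Spec (CommRingCat.of C) // z ≫ sC = 𝟙 _}, z₀.1 (closedPoint k) = c₁ :=
    ⟨_, congrArg Subtype.val ((pointEquivClosedPoint sC).apply_symm_apply ⟨c₁, hc₁⟩)⟩
  subst hcp₁e
  obtain ⟨L₁', hL₁'⟩ := hline cp₁ hcp₁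
  let cp₀ : Sk ⟶ (C₀ : Scheme.{u}) := IsOpenImmersion.lift C₀.ι cp₁ (by
    rw [Scheme.Opens.range_ι]
    rintro _ ⟨w, rfl⟩
    obtain rfl : w = closedPoint k := Subsingleton.elim (α := PrimeSpectrum k) _ _
    exact hc₁N.1)
  have hcp₀ : cp₀ ≫ C₀.ι = cp₁ := IsOpenImmersion.lift_fac _ _ _
  let L₁ : CohB1.ProjSpace 1 k ⟶ S := pullback.lift (𝟙 _) (p ≫ cp₁)
    (by rw [Category.id_comp, Category.assoc, hcp₁, Category.comp_id])
  let L₁U : CohB1.ProjSpace 1 k ⟶ (U : Scheme.{u}) := IsOpenImmersion.lift U.ι L₁ (by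
    rw [Scheme.Opens.range_ι]
    rintro _ ⟨s, rfl⟩
    show (L₁ ≫ prC) s ∈ C₀
    rw [pullback.lift_snd, hptq]
    exact hc₁N.1)
  have hL₁U : L₁U ≫ U.ι = L₁ := IsOpenImmersion.lift_fac _ _ _
  have hmB : (cp₀ ≫ β) ≫ B.hom = 𝟙 _ := by rw [Category.assoc, hβB, reassoc_of% hcp₀, hcp₁]
  have hcurve : curveAt v (cp₀ ≫ β) hmB = L₁' ≫ h := by
    rw [h_eq L₁' L₁U (by rw [hL₁', hL₁U]), curveAt]
    show _ = L₁U ≫ aU ≫ v.1
    refine (congrArg (· ≫ v.1) ?_).trans (Category.assoc L₁U aU v.1)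
    apply pullback.hom_ext
    · rw [pullback.lift_fst, Category.assoc, pullback.lift_fst, reassoc_of% hL₁U, pullback.lift_fst]
    · rw [pullback.lift_snd, Category.assoc, pullback.lift_snd]
      have h4 : L₁U ≫ (prC ∣_ C₀) = p ≫ cp₀ := by
        rw [← cancel_mono C₀.ι, Category.assoc, morphismRestrict_ι, reassoc_of% hL₁U, Category.assoc, hcp₀]
        exact pullback.lift_snd _ _ _
      rw [reassoc_of% h4]
  refine hnc _ hmB ?_
  rw [hcurve]
  refine range_subset_of_affine (L₁' ≫ h) (by rw [← hcurve]; exact curveAt_comp _ _) hV ?_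
  rintro _ ⟨s, rfl⟩
  show h (L₁' s) ∈ V
  by_contra hcon
  refine hc₁N.2 ⟨g (L₁' s), ⟨L₁' s, hcon, rfl⟩, ?_⟩
  rw [← Scheme.Hom.comp_apply L₁' g, hL₁', ← Scheme.Hom.comp_apply, pullback.lift_snd, hptq]

end Groth.Agent.FreeCurve
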