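import Groth.Agent.FreeCurve.MorP1
import Groth.Agent.FreeCurve.NegPow
import Mathlib

/-!
# Bundles which are negative on a family of curves sweeping out an open have no sections
-/

set_option autoImplicit false
set_option linter.style.haveILetI false
set_option backward.isDefEq.respectTransparency false
set_option backward.isDefEq.respectTransparency.types false
set_option synthInstance.maxHeartbeats 400000
set_option maxHeartbeats 1000000

universe u

open CategoryTheory CategoryTheory.Limits AlgebraicGeometry TopologicalSpace Opposite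
open Groth.Agent.QC (resO res app_res res_res)
open IsLocalRing (closedPoint)

noncomputable section

namespace Groth.Agent.FreeCurve

variable {k : Type u} [Field k] {X : Scheme.{u}} {q : X ⟶ Spec (CommRingCat.of k)}
  {M : Over (Spec (CommRingCat.of k))} {v : MorSch.Obj (CohB1.ProjSpace.toSpec 1 k) q M}

theorem isFinLocFree_tensorPow {Z : Scheme.{u}} {E : Z.Modules} (hE : FlatMod.IsFinLocFree E) (m : ℕ) :
    FlatMod.IsFinLocFree (CohB1.tensorPow E m) := by
  induction m with
  | zero => exact ResDesc.isFinLocFree_of_isInvertible (TMul.isInvertible_structureModule (X := Z))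
  | succ m ih => exact ResDesc.isFinLocFree_tensorMod ih hE

/-- The curves on which a bundle has no sections form an open. -/
theorem exists_open_vanish (v : MorSch.Obj (CohB1.ProjSpace.toSpec 1 k) q M) {F : X.Modules}
    (hF : FlatMod.IsFinLocFree F) :
    ∃ A : M.left.Opens, ∀ (mp : Spec (CommRingCat.of k) ⟶ M.left) (hmp : mp ≫ M.hom = 𝟙 _),
      mp (closedPoint k) ∈ A ↔
        Subsingleton (Coh.HH (CohB1.ProjSpace 1 k) ((Scheme.Modules.pullback (curveAt v mp hmp)).obj F) 0) := by
  haveI := ProjMor.isProper_toSpec 1 k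
  haveI := smooth_toSpec k
  let p := CohB1.ProjSpace.toSpec 1 k
  haveI : IsProper (PicF.XTproj p M) := MorphismProperty.pullback_snd _ _ inferInstance
  haveI : Flat (PicF.XTproj p M) := MorphismProperty.pullback_snd _ _ inferInstance
  haveI : LocallyOfFinitePresentation (PicF.XTproj p M) := MorphismProperty.pullback_snd _ _ inferInstance
  let E := (Scheme.Modules.pullback v.1).obj F
  have hE : FlatMod.IsFinLocFree E := SGA6Ext.isFinLocFree_pullback _ hF
  have hopen : IsOpen {m : M.left | PerfAux.betti (PicF.XTproj p M) E m 0 = 0} := by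
    have h := BettiNN.isOpen_betti_lt (PicF.XTproj p M) (LocFree.isFP_of_isFinLocFree hE)
      (W7Hull.isFlatOver_of_isFinLocFree _ hE) 0 1
    simpa [Nat.lt_one_iff] using h
  refine ⟨⟨_, hopen⟩, fun mp hmp => ?_⟩
  let i := pullback.lift (f := p) (g := M.hom) (𝟙 _) (p ≫ mp)
    (by rw [Category.id_comp, Category.assoc, hmp, Category.comp_id])
  have sq : IsPullback i p (PicF.XTproj p M) mp := by
    refine IsPullback.of_right (h₁₂ := pullback.fst p M.hom) (h₂₂ := M.hom) (v₁₃ := p) ?_
      (pullback.lift_snd _ _ _) (IsPullback.of_hasPullback _ _)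
    rw [pullback.lift_fst, hmp]
    exact IsPullback.of_horiz_isIso ⟨by simp⟩
  haveI : IsProper (CohB1.ProjSpace 1 k ↘ Spec (CommRingCat.of k)) := ProjMor.isProper_toSpec 1 k
  let G := (Scheme.Modules.pullback (curveAt v mp hmp)).obj F
  have hG : FlatMod.IsFinLocFree G := SGA6Ext.isFinLocFree_pullback _ hF
  have h1 : PerfAux.betti (PicF.XTproj p M) E (mp (closedPoint k)) 0 = CurveRR.h k G 0 := by
    rw [← PicSmooth.betti_of_isPullback sq E (LocFree.isQCoh_of_isFinLocFree hE) (closedPoint k) 0]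
    exact (AbelMap.betti_field (X := CohB1.ProjSpace 1 k)
      (QC.isQCoh_pullback _ (LocFree.isQCoh_of_isFinLocFree hE)) _ 0).trans
        (CurveRR.h_eq_of_iso ((Scheme.Modules.pullbackComp i v.1).app F) 0)
  haveI := CohFinite.finite_projSpace (n := 1) (R := k) G (isCoh_of_isFinLocFree hG) 0
  show PerfAux.betti (PicF.XTproj p M) E (mp (closedPoint k)) 0 = 0 ↔ _
  rw [h1]
  exact Module.finrank_eq_zero_iff_of_free (R := k) (M := Coh.HH (CohB1.ProjSpace 1 k) G 0)

variable [IsIntegral X] [LocallyOfFiniteType q]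

/-- A bundle without sections on curves through all closed points of an open has no sections. -/
theorem subsingleton_hh0_of_curves [X.Over (Spec (CommRingCat.of k))] {F : X.Modules} (hF : FlatMod.IsFinLocFree F)
    (W : X.Opens) (hW : (W : Set X).Nonempty)
    (h : ∀ x ∈ (W : Set X), IsClosed ({x} : Set X) → ∃ g : CohB1.ProjSpace 1 k ⟶ X, x ∈ Set.range g ∧
      Subsingleton (Coh.HH (CohB1.ProjSpace 1 k) ((Scheme.Modules.pullback g).obj F) 0))
    (hj : JacobsonSpace X) : Subsingleton (Coh.HH X F 0) := by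
  refine P1Split.hh0_of_zero k fun σ => ?_
  refine SGA6Ext.ext_base (G := fun V => ∃ (U : X.Opens) (n : ℕ) (e : Fin n → Γ(F, U)), TMul.IsFrame e ∧ V ≤ U)
    (fun U x hx => by
      obtain ⟨U', n, e, hx', he⟩ := TMul.exists_isFrame hF x
      exact ⟨U ⊓ U', ⟨U', n, e, he, inf_le_right⟩, ⟨hx, hx'⟩, inf_le_left⟩)
    fun V hV hVf => ?_
  rw [map_zero]
  obtain ⟨U, n, e, he, hVU⟩ := hVf
  have heV := W7Strat.isFrame_res he hVU
  obtain ⟨c, hc⟩ := heV.comb_surjective le_rfl (res F hV σ)
  rw [← hc]
  refine Finset.sum_eq_zero fun j _ => ?_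
  suffices hcj : c j = 0 by rw [hcj, zero_smul]
  rw [← basicOpen_eq_bot_iff]
  by_contra hne
  obtain ⟨z, hz, hzW⟩ := nonempty_preirreducible_inter (X.basicOpen (c j)).2 W.2
    (Set.nonempty_iff_ne_empty.2 fun h0 => hne (Opens.ext h0)) hW
  obtain ⟨x, ⟨hxb, hxW⟩, hxc⟩ := nonempty_inter_closedPoints (X := X) (Z := (X.basicOpen (c j) : Set X) ∩ W)
    ⟨z, hz, hzW⟩ ((X.basicOpen (c j)).2.inter W.2).isLocallyClosed
  obtain ⟨g, ⟨t, ht⟩, hg⟩ := h x hxW hxc
  let adj := Scheme.Modules.pullbackPushforwardAdjunction g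
  let E := (Scheme.Modules.pullback g).obj F
  have hσ : (adj.unit.app F).app ⊤ σ = (0 : Γ(E, ⊤)) := P1Split.zero_of_hh0 k hg _
  have he' := heV.pullback g
  have h2 : ∑ i, g.app V (c i) • res E (le_refl (g ⁻¹ᵁ V)) ((adj.unit.app F).app V (res F hVU (e i))) = 0 := by
    have h3 := congrArg ((adj.unit.app F).app V) hc
    rw [map_sum] at h3
    refine Eq.trans ?_ (h3.trans ((app_res (adj.unit.app F) hV σ).symm.trans ((congrArg _ hσ).trans (map_zero _))))
    refine Finset.sum_congr rfl fun i _ => ?_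
    rw [Scheme.Modules.Hom.app_smul, Groth.Agent.QC.res_self, Groth.Agent.QC.res_self]
    rfl
  have h4 := he'.comb_injective (le_refl (g ⁻¹ᵁ V)) (a₁ := fun i => g.app V (c i)) (a₂ := 0)
    (by simpa only [Pi.zero_apply, zero_smul, Finset.sum_const_zero] using h2)
  have h5 : g ⁻¹ᵁ X.basicOpen (c j) = ⊥ := by
    rw [Scheme.preimage_basicOpen, show g.app V (c j) = 0 from congrFun h4 j, Scheme.basicOpen_zero]
  have h6 : t ∈ g ⁻¹ᵁ X.basicOpen (c j) := show g t ∈ X.basicOpen (c j) from ht.symm ▸ hxb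
  rw [h5] at h6
  exact h6

end Groth.Agent.FreeCurve
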